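import Groth.Prelude.Def_ModelsG
import Groth.Agent.Variety2.ProjBasics

/-!
Elementary facts on the closed fibre of a projective scheme over a discrete valuation ring.
-/

set_option autoImplicit false

universe u

open CategoryTheory CategoryTheory.Limits AlgebraicGeometry TopologicalSpace

namespace Groth.ArSurfBasics

theorem isProper_of_isProjectiveOver {R : Type u} [CommRing R]
    {X : Over (Spec (CommRingCat.of R))} (h : Neron.IsProjectiveOver R X) : IsProper X.hom := by
  obtain ⟨n, i, hi, e⟩ := h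
  rw [← e]
  haveI := hi
  haveI := Groth.Variety2.isProper_projSpaceOver_toBase n (Spec (CommRingCat.of R))
  infer_instance

theorem isNoetherian_of_isProper {R : Type u} [CommRing R] [IsNoetherianRing R]
    {X : Over (Spec (CommRingCat.of R))} [IsProper X.hom] : IsNoetherian X.left := by
  haveI : IsNoetherian (Spec (CommRingCat.of R)) := inferInstance
  haveI : IsLocallyNoetherian X.left := LocallyOfFiniteType.isLocallyNoetherian X.hom
  haveI : CompactSpace X.left := QuasiCompact.compactSpace_of_compactSpace X.hom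
  exact { }

/-- In a Noetherian space the maximal irreducible subsets of a closed set are finitely many, closed,
and every irreducible subset is contained in one of them. -/
theorem maximal_irreducible_subsets {α : Type*} [TopologicalSpace α] [NoetherianSpace α]
    {S : Set α} (hS : IsClosed S) :
    {Z : Set α | Maximal (fun T : Set α => IsIrreducible T ∧ T ⊆ S) Z}.Finite ∧
      ∀ A : Set α, IsIrreducible A → A ⊆ S →
        ∃ Z, A ⊆ Z ∧ Maximal (fun T : Set α => IsIrreducible T ∧ T ⊆ S) Z := by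
  obtain ⟨F, hF, hcl, hirr, hSF⟩ := NoetherianSpace.exists_finite_set_isClosed_irreducible hS
  have hsub : ∀ t ∈ F, t ⊆ S := fun t ht => by rw [hSF]; exact Set.subset_sUnion_of_mem ht
  have hA : ∀ A : Set α, IsIrreducible A → A ⊆ S → ∃ t ∈ F, A ⊆ t := fun A hA hAS => by
    obtain ⟨t, ht, h⟩ := isIrreducible_iff_sUnion_isClosed.1 hA hF.toFinset
      (fun z hz => hcl z (hF.mem_toFinset.1 hz)) (by rw [hF.coe_toFinset]; exact hSF ▸ hAS)
    exact ⟨t, hF.mem_toFinset.1 ht, h⟩
  refine ⟨hF.subset fun Z hZ => ?_, fun A hA' hAS => ?_⟩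
  · obtain ⟨t, ht, hle⟩ := hA Z hZ.1.1 hZ.1.2
    rwa [le_antisymm hle (hZ.2 ⟨hirr t ht, hsub t ht⟩ hle)]
  · obtain ⟨t₀, ht₀, hle₀⟩ := hA A hA' hAS
    obtain ⟨Z, hle, hZ⟩ := hF.exists_le_maximal ht₀
    refine ⟨Z, hle₀.trans hle, ⟨hirr Z hZ.1, hsub Z hZ.1⟩, fun T hT hZT => ?_⟩
    obtain ⟨t, ht, hTt⟩ := hA T hT.1 hT.2
    exact hTt.trans (hZ.2 ht (hZT.trans hTt))

end Groth.ArSurfBasics
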