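import Groth.Agent.ResolveSurf.ExcLine
import Groth.Agent.ResolveSurf.PointContraction
import Groth.Agent.AlgSp3.RedInduced
import Groth.Agent.PicAux.EffCartierSection
import Mathlib.AlgebraicGeometry.ZariskisMainTheorem

/-!
The exceptional divisor of the blow-up of a closed point with two-dimensional regular local ring,
globally, as a projective line over the residue field of the point.
-/

set_option autoImplicit false
set_option backward.isDefEq.respectTransparency.types false
set_option maxHeartbeats 1000000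

universe u

open CategoryTheory CategoryTheory.Limits AlgebraicGeometry IsLocalRing TopologicalSpace
open Groth.BlowUpBasics

namespace Groth.ArSurfBasics.ExcLineGlobal

/-- The inclusion of a point, as the spectrum of the residue field of its local ring. -/
noncomputable def resPoint {Y : Scheme.{u}} (y : Y) :
    Spec (CommRingCat.of (ResidueField (Y.presheaf.stalk y))) ⟶ Y :=
  Y.fromSpecResidueField y

lemma resPoint_eq {Y : Scheme.{u}} (y : Y) :
    resPoint y = Spec.map (CommRingCat.ofHom (algebraMap (Y.presheaf.stalk y) (ResidueField (Y.presheaf.stalk y)))) ≫ Y.fromSpecStalk y :=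
  rfl

lemma exists_param' (A : Type u) [CommRing A] [IsRegularLocalRing A] (hA : ringKrullDim A = 2) :
    ∃ a b : A, Groth.PointBlowUp.Param hA a b :=
  Groth.PointBlowUp.exists_param

theorem exists_excLine {X Y : Scheme.{u}} [IsLocallyNoetherian Y] (f : X ⟶ Y) [IsProper f]
    {y : Y} (hy : IsClosed ({y} : Set Y))
    (hf : BlowUp.IsBlowUp f (Scheme.IdealSheafData.vanishingIdeal ⟨{y}, hy⟩))
    [IsRegularLocalRing (Y.presheaf.stalk y)] (hdim : ringKrullDim (Y.presheaf.stalk y) = 2) :
    ∃ j : CohB1.ProjSpace 1 (ResidueField (Y.presheaf.stalk y)) ⟶ X,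
      IsClosedImmersion j ∧
      j ≫ f = CohB1.ProjSpace.toSpec 1 (ResidueField (Y.presheaf.stalk y)) ≫ resPoint y ∧
      Set.range j = f ⁻¹' {y} ∧
      j.ker = (Scheme.IdealSheafData.vanishingIdeal ⟨{y}, hy⟩).comap f ∧
      Nonempty ((Scheme.Modules.pullback j).obj
        (ClSub.idealMod ((Scheme.IdealSheafData.vanishingIdeal ⟨{y}, hy⟩).comap f)) ≅
          Twist.twistProjSpace 1 (ResidueField (Y.presheaf.stalk y)) 1) := by
  set I := Scheme.IdealSheafData.vanishingIdeal (⟨{y}, hy⟩ : Closeds Y) with hI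
  set D := I.comap f with hD
  let c : Spec (CommRingCat.of (Y.presheaf.stalk y)) ⟶ Y := Y.fromSpecStalk y
  haveI : Flat c := Groth.ResolveSurf.PointContraction.flat_fromSpecStalk y
  let b := pullback.fst c f
  let g := pullback.snd c f
  have hIc : I.comap c = sheafOf (maximalIdeal (Y.presheaf.stalk y)) :=
    Groth.ResolveSurf.PointContraction.comap_vanishingIdeal_fromSpecStalk y hy
  have hb : BlowUp.IsBlowUp b (sheafOf (maximalIdeal (Y.presheaf.stalk y))) :=
    hIc ▸ Groth.Divisors.isBlowUp_flat_pullback c hf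
  let κ := ResidueField (Y.presheaf.stalk y)
  set 𝓔 := (sheafOf (maximalIdeal (Y.presheaf.stalk y))).comap b with h𝓔def
  have h𝓔 : D.comap g = 𝓔 := by
    rw [hD, ← Scheme.IdealSheafData.comap_comp, h𝓔def, ← hIc, ← Scheme.IdealSheafData.comap_comp,
      pullback.condition]
  obtain ⟨T⟩ := nonempty_atlas_of_isBlowUp hb
  obtain ⟨x₁, x₂, hp⟩ := @exists_param' (Y.presheaf.stalk y) _ ‹_› hdim
  obtain ⟨C⟩ := Groth.ResolveSurf.LineImm.nonempty_data T hp.span_eq hp.mem_left hp.mem_right
    hp.aeval_surjective hp.symm.aeval_surjective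
  obtain ⟨r, hr, hrb, ⟨τ⟩⟩ := Groth.ResolveSurf.LineImm.exists_immersion C
  haveI := hr
  obtain ⟨h, hh⟩ := Groth.ResolveSurf.ExcLine.exists_toResidue (A := Y.presheaf.stalk y) b
  have hP := Groth.PnCoh.isPullback_toBasePn 1 (Y.presheaf.stalk y) κ
  let j₀ : 𝓔.subscheme ⟶ CohB1.ProjSpace 1 κ :=
    hP.lift (𝓔.subschemeι ≫ r) h (by rw [Category.assoc, hrb]; exact hh.symm)
  have hj₀ : j₀ ≫ Groth.PnCoh.toBasePn 1 (Y.presheaf.stalk y) κ = 𝓔.subschemeι ≫ r := hP.lift_fst _ _ _
  have hj₀' : j₀ ≫ CohB1.ProjSpace.toSpec 1 κ = h := hP.lift_snd _ _ _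
  have : IsClosedImmersion (Spec.map (CommRingCat.ofHom (algebraMap (Y.presheaf.stalk y) κ))) :=
    IsClosedImmersion.spec_of_surjective _ residue_surjective
  have : IsClosedImmersion (Groth.PnCoh.toBasePn 1 (Y.presheaf.stalk y) κ) :=
    MorphismProperty.of_isPullback hP.flip this
  have : IsClosedImmersion (j₀ ≫ Groth.PnCoh.toBasePn 1 (Y.presheaf.stalk y) κ) := by
    rw [hj₀]; infer_instance
  have : IsClosedImmersion j₀ :=
    IsClosedImmersion.of_comp j₀ (Groth.PnCoh.toBasePn 1 (Y.presheaf.stalk y) κ)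
  have : IsIso j₀ := Groth.Curves1.RR.isIso_of_isClosedImmersion_projSpace κ 1 j₀
    (Groth.ResolveSurf.ExcLine.one_le_dim (A := Y.presheaf.stalk y) b hdim hb)
  haveI : IsClosedImmersion (Y.fromSpecResidueField y) := isClosed_singleton_iff_isClosedImmersion.1 hy
  haveI := Groth.Variety2.isProper_projSpace_toSpec 1 κ
  have hprop : IsProper (resPoint y) := inferInstanceAs (IsProper (Y.fromSpecResidueField y))
  let j : CohB1.ProjSpace 1 κ ⟶ X := inv j₀ ≫ 𝓔.subschemeι ≫ g
  have hjf : j ≫ f = CohB1.ProjSpace.toSpec 1 κ ≫ resPoint y := by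
    rw [← cancel_epi j₀]
    simp only [j, Category.assoc, IsIso.hom_inv_id_assoc]
    rw [reassoc_of% hj₀', ← pullback.condition]
    change 𝓔.subschemeι ≫ b ≫ c = _
    rw [← Category.assoc, ← hh, Category.assoc, resPoint_eq]
  haveI : IsProper (j ≫ f) := by
    rw [hjf]
    exact MorphismProperty.comp_mem _ _ _ (Groth.Variety2.isProper_projSpace_toSpec 1 κ) hprop
  haveI : IsProper j := IsProper.of_comp j f
  haveI : Mono g := inferInstance
  haveI : Mono j := by dsimp only [j]; infer_instance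
  haveI : IsClosedImmersion j :=
    (IsClosedImmersion.iff_isProper_and_mono j).2 ⟨inferInstance, inferInstance⟩
  have hjker : j.ker = (𝓔.subschemeι ≫ g).ker := Scheme.Hom.ker_comp_of_isIso (inv j₀) _
  have hker : j.ker = D := by
    refine le_antisymm ?_ ?_
    · let k : I.subscheme ⟶ Spec (Y.residueField y) := IsClosedImmersion.lift (Y.fromSpecResidueField y)
        I.subschemeι (by
          rw [Scheme.IdealSheafData.ker_subschemeι, Groth.AlgSp3.ker_eq_vanishingIdeal_of_isReduced, hI]
          exact le_of_eq (congrArg Scheme.IdealSheafData.vanishingIdeal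
            (Closeds.ext (by simp [Scheme.range_fromSpecResidueField, hy.closure_eq]))))
      have hk : k ≫ Y.fromSpecResidueField y = I.subschemeι := IsClosedImmersion.lift_fac _ _ _
      let dI : D.subscheme ⟶ I.subscheme :=
        Scheme.IdealSheafData.subschemeMap D I f (I.le_map_comap f)
      let ℓ : D.subscheme ⟶ pullback c f :=
        pullback.lift (dI ≫ k ≫ Spec.map (Y.residue y)) D.subschemeι (by
          rw [Category.assoc, Category.assoc]
          change dI ≫ k ≫ Y.fromSpecResidueField y = _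
          rw [hk]
          exact Scheme.IdealSheafData.subschemeMap_subschemeι _ _ _ _)
      have hℓ : ℓ ≫ g = D.subschemeι := pullback.lift_snd _ _ _
      have hle : 𝓔 ≤ ℓ.ker := by
        rw [← h𝓔, ← Scheme.IdealSheafData.le_map_iff_comap_le, ← Scheme.Hom.ker_comp, hℓ,
          Scheme.IdealSheafData.ker_subschemeι]
      let ℓ' : D.subscheme ⟶ 𝓔.subscheme :=
        IsClosedImmersion.lift 𝓔.subschemeι ℓ (by rwa [Scheme.IdealSheafData.ker_subschemeι])
      have hℓ' : (ℓ' ≫ j₀) ≫ j = D.subschemeι := by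
        simp only [j, Category.assoc, IsIso.hom_inv_id_assoc]
        rw [IsClosedImmersion.lift_fac_assoc, hℓ]
      calc j.ker ≤ ((ℓ' ≫ j₀) ≫ j).ker := Scheme.Hom.le_ker_comp _ _
        _ = D := by rw [hℓ', Scheme.IdealSheafData.ker_subschemeι]
    · rw [hjker, Scheme.Hom.ker_comp, Scheme.IdealSheafData.le_map_iff_comap_le, h𝓔,
        Scheme.IdealSheafData.ker_subschemeι]
  refine ⟨j, ‹_›, hjf, ?_, hker, ?_⟩
  · have h1 : (j.ker.support : Set X) = Set.range j := by
      rw [Scheme.Hom.support_ker, j.isClosedEmbedding.isClosed_range.closure_eq]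
    rw [← h1, hker, hD, Scheme.IdealSheafData.support_comap, hI]
    simp [Scheme.IdealSheafData.coe_support_vanishingIdeal]
  · haveI : Flat g := MorphismProperty.pullback_snd c f inferInstance
    obtain ⟨e₁⟩ := Groth.PicAux.pullback_idealMod g hf.1
      (by change BlowUp.IsEffCartierIdeal (D.comap g); rw [h𝓔]; exact hb.1)
    obtain ⟨e⟩ := Groth.PnCoh.nonempty_pullback_toBasePn_twist 1 (Y.presheaf.stalk y) κ 1
    have hcomp : (inv j₀ ≫ 𝓔.subschemeι) ≫ r = Groth.PnCoh.toBasePn 1 (Y.presheaf.stalk y) κ := by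
      rw [Category.assoc, ← hj₀, IsIso.inv_hom_id_assoc]
    exact ⟨(Scheme.Modules.pullbackCongr (show j = (inv j₀ ≫ 𝓔.subschemeι) ≫ g by simp [j])).app _ ≪≫
      ((Scheme.Modules.pullbackComp (inv j₀ ≫ 𝓔.subschemeι) g).app _).symm ≪≫
      (Scheme.Modules.pullback (inv j₀ ≫ 𝓔.subschemeι)).mapIso
        (e₁ ≪≫ eqToIso (congrArg ClSub.idealMod h𝓔) ≪≫ τ.symm) ≪≫
      (Scheme.Modules.pullbackComp _ r).app _ ≪≫
      (Scheme.Modules.pullbackCongr hcomp).app _ ≪≫ e⟩

end Groth.ArSurfBasics.ExcLineGlobal
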