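import Groth.Agent.ArSurfBasics.FactorBlowUp
import Groth.Agent.ArSurfBasics.ExceptionalLine
import Groth.Agent.S2415
import Groth.Agent.S1622
import Groth.Agent.S2348
import Groth.Agent.S8859
import Groth.Agent.RefRank.AdmBlowUp
import Groth.Agent.Flatmor4.FlatBirational
import Groth.Agent.Variety2.ProjDim

/-!
A proper birational morphism of regular surfaces whose only non-trivial fibre is irreducible of positive
dimension is the blow-up of that point.
-/

set_option autoImplicit false
set_option backward.isDefEq.respectTransparency.types false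
set_option maxHeartbeats 1000000

universe u

open CategoryTheory CategoryTheory.Limits AlgebraicGeometry TopologicalSpace IsLocalRing

namespace Groth.ArSurfBasics.PointRecognition

/-- The projective line has two points. -/
lemma exists_two (k : Type u) [Field k] : ∃ a b : CohB1.ProjSpace 1 k, a ≠ b := by
  by_contra hno
  push Not at hno
  haveI : Subsingleton (TopologicalSpace.IrreducibleCloseds (CohB1.ProjSpace 1 k)) := by
    haveI : Subsingleton (CohB1.ProjSpace 1 k) := ⟨hno⟩
    exact ⟨fun s t => TopologicalSpace.IrreducibleCloseds.ext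
      ((Subsingleton.eq_univ_of_nonempty s.isIrreducible.1).trans
        (Subsingleton.eq_univ_of_nonempty t.isIrreducible.1).symm)⟩
  have h : topologicalKrullDim (CohB1.ProjSpace 1 k) ≤ 0 := Order.krullDim_nonpos_of_subsingleton
  rw [Groth.Variety2.PSpace.dim_projSpace] at h
  exact absurd h (by norm_num)

/-- The blow-up of a regular surface in a closed point is normal. -/
lemma isRegularLocalRing_blowUp {Y Y' : Scheme.{u}} [IsLocallyNoetherian Y] {y : Y} (hy : IsClosed ({y} : Set Y))
    (hreg : ∀ z : Y, IsRegularLocalRing (Y.presheaf.stalk z)) (hdim : ringKrullDim (Y.presheaf.stalk y) = 2)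
    (π : Y' ⟶ Y) (hπ : BlowUp.IsBlowUp π (Scheme.IdealSheafData.vanishingIdeal ⟨{y}, hy⟩)) (z : Y') :
    IsRegularLocalRing (Y'.presheaf.stalk z) := by
  by_cases hz : π z = y
  · subst hz
    haveI := hreg (π z)
    let c : Spec (CommRingCat.of (Y.presheaf.stalk (π z))) ⟶ Y := Y.fromSpecStalk (π z)
    haveI : Flat c := Groth.ResolveSurf.PointContraction.flat_fromSpecStalk (π z)
    haveI : IsPreimmersion c := inferInstanceAs (IsPreimmersion (Y.fromSpecStalk (π z)))
    have hIc := Groth.ResolveSurf.PointContraction.comap_vanishingIdeal_fromSpecStalk (π z) hy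
    have hb : BlowUp.IsBlowUp (pullback.fst c π)
        (Curv2.idealSheaf (Y.presheaf.stalk (π z)) (maximalIdeal (Y.presheaf.stalk (π z)))) := by
      have := Groth.Divisors.isBlowUp_flat_pullback c hπ
      rw [show (Scheme.IdealSheafData.vanishingIdeal ⟨{π z}, hy⟩).comap c = _ from hIc] at this
      exact this
    obtain ⟨p, -, hp⟩ := Scheme.Pullback.exists_preimage_pullback (f := c) (g := π)
      (closedPoint (Y.presheaf.stalk (π z))) z Scheme.fromSpecStalk_closedPoint
    haveI : Flat (pullback.snd c π) := MorphismProperty.pullback_snd _ _ inferInstance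
    haveI : IsPreimmersion (pullback.snd c π) := MorphismProperty.pullback_snd _ _ inferInstance
    haveI := (Groth.Agent.S1622.result (Y.presheaf.stalk (π z)) hdim _ _ hb).2 p
    haveI := Groth.Flatmor4.isIso_stalkMap_of_flat_preimmersion (pullback.snd c π) p
    rw [← hp]
    exact IsRegularLocalRing.of_ringEquiv (asIso ((pullback.snd c π).stalkMap p)).commRingCatIsoToRingEquiv.symm
  · haveI := hreg (π z)
    haveI := Groth.Divisors.isIso_stalkMap_off hπ z (by
      rw [← SetLike.mem_coe, Scheme.IdealSheafData.coe_support_vanishingIdeal]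
      exact hz)
    exact IsRegularLocalRing.of_ringEquiv (asIso (π.stalkMap z)).commRingCatIsoToRingEquiv

variable {X Y : Scheme.{u}} [IsIntegral X] [IsIntegral Y] [IsLocallyNoetherian Y]

/-- Recognition of the blow-up of a point. -/
theorem isBlowUp_of_irreducible_fibre [IsLocallyNoetherian X] [CompactSpace X] (f : X ⟶ Y) [IsProper f]
    (hX : ∀ x : X, IsRegularLocalRing (X.presheaf.stalk x))
    (hY : ∀ y : Y, IsRegularLocalRing (Y.presheaf.stalk y))
    (hdX : topologicalKrullDim X ≤ 2) (hdY : topologicalKrullDim Y ≤ 2)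
    {y : Y} (hy : IsClosed ({y} : Set Y)) (hgen : y ≠ genericPoint Y)
    (hiso : IsIso (f ∣_ (⟨{y}ᶜ, hy.isOpen_compl⟩ : Y.Opens)))
    (hirr : IsPreirreducible (f ⁻¹' {y}))
    (hbig : ∃ x x' : X, x ≠ x' ∧ f x = y ∧ f x' = y) :
    BlowUp.IsBlowUp f (Scheme.IdealSheafData.vanishingIdeal ⟨{y}, hy⟩) := by
  let Wy : Y.Opens := ⟨{y}ᶜ, hy.isOpen_compl⟩
  haveI : AlgebraicGeometry.IsNoetherian X := {}
  have hWne : (Wy : Set Y).Nonempty := ⟨genericPoint Y, hgen.symm⟩
  obtain ⟨w, hw⟩ := (f ∣_ Wy).homeomorph.surjective ⟨genericPoint Y, hgen.symm⟩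
  have hfw : f w.1 = genericPoint Y := by simpa using congrArg Subtype.val hw
  have hfgen : f (genericPoint X) = genericPoint Y := by
    have h1 : f (genericPoint X) ⤳ genericPoint Y :=
      hfw ▸ ((genericPoint_spec X).specializes (Set.mem_univ w.1)).map f.continuous
    exact (h1.antisymm ((genericPoint_spec Y).specializes (Set.mem_univ _))).eq
  have hξW : f (genericPoint X) ∈ Wy := by rw [hfgen]; exact hgen.symm
  have hdom : f.base (genericPoint X) ⤳ genericPoint Y := by rw [hfgen]
  have hσ := Groth.HensPair.bijective_stalkToFunctionField_of_mem f hdom hiso hξW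
  have hnormY : ∀ z : Y, IsIntegrallyClosed (Y.presheaf.stalk z) := fun z => by
    haveI := hY z
    haveI := Groth.PicAux.ufd_of_isRegularLocalRing (Y.presheaf.stalk z)
    infer_instance
  haveI : GeometricallyConnected f :=
    Groth.HensPair.geometricallyConnected_of_isIso_app f Groth.PnCoh.projFinite fun V _ =>
      Groth.HensPair.isIso_app_of_isIntegralElem f Groth.PnCoh.projFinite hdom hnormY
        (fun z _ => hσ.2 z) V
  -- the point has two-dimensional local ring
  have hd : ringKrullDim (Y.presheaf.stalk y) = 2 := by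
    refine le_antisymm ((Groth.Duality.ringKrullDim_stalk_le y).trans hdY) (not_lt.1 fun hlt => ?_)
    obtain ⟨x, x', hne, rfl, hx'⟩ := hbig
    haveI := hnormY (f x)
    haveI := hY (f x)
    have hq := Groth.HensPair.quasiFiniteAt_of_valuationRing f hdom hσ.2 x
      (Groth.HensPair.valuationRing_of_krullDim_lt_two hlt)
    have huniv := hq.isClopen_singleton_asFiber.eq_univ ⟨_, rfl⟩
    have hmem : x' ∈ Set.range (f.fiberι (f x)) := by rw [Scheme.Hom.range_fiberι]; exact hx'
    obtain ⟨z, hz⟩ := hmem
    have hzx : z = f.asFiber x := by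
      have : z ∈ ({f.asFiber x} : Set _) := huniv ▸ Set.mem_univ z
      exact this
    rw [hzx, Scheme.Hom.fiberι_asFiber] at hz
    exact hne hz
  -- the blow-up
  let I := Scheme.IdealSheafData.vanishingIdeal (⟨{y}, hy⟩ : Closeds Y)
  obtain ⟨Y', π, hπ⟩ := Groth.Agent.S8859.result Y I
  have hI : I ≠ ⊥ := fun h0 => by
    have h1 := congrArg (fun J => (Scheme.IdealSheafData.support J : Set Y)) h0
    simp only [I, Scheme.IdealSheafData.coe_support_vanishingIdeal, Scheme.IdealSheafData.support_bot] at h1
    have hmem : genericPoint Y ∈ ({y} : Set Y) := (Set.ext_iff.1 h1 _).2 trivial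
    exact hgen hmem.symm
  obtain ⟨_, hπgen, -⟩ := Groth.Agent.S2348.result I hI π hπ
  haveI : IsProper π := Groth.HTopHyper.isProper_of_isBlowUp hπ fun U =>
    haveI := IsLocallyNoetherian.component_noetherian (X := Y) U
    (isNoetherianRing_iff_ideal_fg _).1 inferInstance _
  haveI : IsLocallyNoetherian Y' := LocallyOfFiniteType.isLocallyNoetherian π
  obtain ⟨g, hg, -⟩ := hπ.2 _ f
    (Groth.ArSurfBasics.FactorBlowUp.isEffCartierIdeal_comap f hX hY hdX hdY hiso hWne hy hgen hbig)
  have hgf : ∀ x, π (g x) = f x := fun x => by rw [← Scheme.Hom.comp_apply, hg]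
  haveI : IsProper (g ≫ π) := by rw [hg]; infer_instance
  haveI : IsProper g := IsProper.of_comp g π
  have hisoπ := Groth.BlowUpBasics.isIso_morphismRestrict hπ Wy (by
    rw [Scheme.IdealSheafData.coe_support_vanishingIdeal]
    exact Set.disjoint_singleton_left.2 fun h => h rfl)
  have hinjπ : ∀ a b : Y', π a ≠ y → π a = π b → a = b := fun a b ha hab =>
    congrArg Subtype.val ((π ∣_ Wy).homeomorph.injective (a₁ := ⟨a, ha⟩) (a₂ := ⟨b, fun e => ha (hab.trans e)⟩)
      (Subtype.ext (by simpa using hab)))
  have hinjf : ∀ a b : X, f a ≠ y → f a = f b → a = b := fun a b ha hab =>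
    congrArg Subtype.val ((f ∣_ Wy).homeomorph.injective (a₁ := ⟨a, ha⟩) (a₂ := ⟨b, fun e => ha (hab.trans e)⟩)
      (Subtype.ext (by simpa using hab)))
  have hggen : g (genericPoint X) = genericPoint Y' := by
    refine hinjπ _ _ ?_ ((hgf _).trans (hfgen.trans hπgen.symm))
    rw [hgf, hfgen]
    exact hgen.symm
  have hgbir : IsIso (g.stalkMap (genericPoint X)) := by
    haveI h1 : IsIso (f.stalkMap (genericPoint X)) :=
      ((MorphismProperty.isomorphisms CommRingCat.{u}).arrow_mk_iso_iff
        (morphismRestrictStalkMap f Wy ⟨genericPoint X, hξW⟩)).1 (by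
            show IsIso _
            infer_instance)
    haveI h2 : IsIso (π.stalkMap (g (genericPoint X))) := by
      refine Groth.Divisors.isIso_stalkMap_off hπ _ ?_
      rw [← SetLike.mem_coe, Scheme.IdealSheafData.coe_support_vanishingIdeal, hgf, hfgen]
      exact hgen.symm
    have h3 : ∀ φ : X ⟶ Y, φ = f → IsIso (φ.stalkMap (genericPoint X)) := by
      intro φ h
      subst h
      exact h1
    have h4 := h3 _ hg
    rw [Scheme.Hom.stalkMap_comp] at h4
    exact @IsIso.of_isIso_comp_left _ _ _ _ _ (π.stalkMap (g (genericPoint X))) _ h2 h4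
  have hgsurj : Function.Surjective g := by
    intro z
    have hcl : IsClosed (Set.range g) := g.isClosedMap.isClosed_range
    exact ((genericPoint_spec Y').specializes (Set.mem_univ z)).mem_closed hcl ⟨_, hggen⟩
  -- the fibre has a generic point, all others being closed
  have hFc : IsClosed (f ⁻¹' {y}) := hy.preimage f.continuous
  obtain ⟨ξ, hξ⟩ := QuasiSober.sober (⟨⟨hbig.choose, by
    obtain ⟨x', -, h, -⟩ := hbig.choose_spec
    exact h⟩, hirr⟩ : IsIrreducible (f ⁻¹' {y})) hFc
  have hclosed : ∀ x, f x = y → x ≠ ξ → IsClosed ({x} : Set X) := fun x hx hne => by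
    rw [← closure_eq_iff_isClosed]
    refine Set.eq_of_subset_of_subset (fun z hz => ?_) subset_closure
    by_contra hzx
    have hlt1 : z < x := lt_of_le_not_ge (specializes_iff_mem_closure.2 hz) fun h =>
      hzx (Specializes.antisymm (h : z ⤳ x) (specializes_iff_mem_closure.2 hz)).eq
    have hlt2 : x < ξ := lt_of_le_not_ge (hξ.specializes hx) fun h =>
      hne (Specializes.antisymm (h : x ⤳ ξ) (hξ.specializes hx)).eq
    have hlt3 : ξ < genericPoint X := lt_of_le_not_ge ((genericPoint_spec X).specializes (Set.mem_univ ξ))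
      fun h => hgen (by
        rw [← hfgen, ← (Specializes.antisymm (h : ξ ⤳ genericPoint X)
          ((genericPoint_spec X).specializes (Set.mem_univ ξ))).eq]
        exact (hξ.mem : f ξ = y).symm)
    let s : LTSeries X := (((RelSeries.singleton _ z).snoc x hlt1).snoc ξ (by simpa using hlt2)).snoc
      (genericPoint X) (by simpa using hlt3)
    have h3 : ((3 : ℕ) : WithBot ℕ∞) ≤ Order.krullDim X := Order.LTSeries.length_le_krullDim s
    have hd' : Order.krullDim X ≤ 2 := by
      rwa [show Order.krullDim X = topologicalKrullDim X from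
        (Order.krullDim_eq_of_orderIso irreducibleSetEquivPoints).symm]
    exact absurd (h3.trans hd') (by norm_num)
  haveI := hY y
  obtain ⟨j, hj, -, hjr, -, -⟩ := Groth.ArSurfBasics.ExcLineGlobal.exists_excLine π hy hπ hd
  have htwo : ∀ z : Y', π z = y → ∃ z' : Y', z' ≠ z ∧ π z' = y := by
    intro z hz
    by_contra hno
    push Not at hno
    have hsub : Subsingleton (CohB1.ProjSpace 1 (ResidueField (Y.presheaf.stalk y))) := ⟨fun a b => by
      have key : ∀ c, j c = z := fun c => by
        by_contra hc
        exact hno _ hc (hjr ▸ ⟨c, rfl⟩ : j c ∈ π ⁻¹' {y})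
      exact j.isClosedEmbedding.injective ((key a).trans (key b).symm)⟩
    obtain ⟨a, b, hab⟩ := exists_two (ResidueField (Y.presheaf.stalk y))
    exact hab (Subsingleton.elim a b)
  have hfin : ∀ z : Y', (g.base ⁻¹' {z}).Finite := by
    intro z
    by_cases hz : π z = y
    · have hF : ∀ x, g x = z → f x = y := fun x hx => by rw [← hgf, hx, hz]
      by_cases hgz : g ξ = z
      · refine (Set.finite_singleton ξ).subset fun x hx => ?_
        by_contra hne
        have hzc : IsClosed ({z} : Set Y') := by
          have := g.isClosedMap _ (hclosed x (hF x hx) hne)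
          rwa [Set.image_singleton, show g x = z from hx] at this
        obtain ⟨z', hne', hz'⟩ := htwo z hz
        obtain ⟨x', rfl⟩ := hgsurj z'
        have hs : z ⤳ g x' := hgz ▸ (hξ.specializes (show x' ∈ f ⁻¹' {y} from by
          rw [Set.mem_preimage, ← hgf]; exact hz')).map g.continuous
        exact hne' (hzc.closure_eq ▸ hs.mem_closure : g x' ∈ ({z} : Set Y'))
      · by_cases hzc : IsClosed ({z} : Set Y')
        · obtain ⟨S, hSfin, hSc, hSirr, hS⟩ :=
            NoetherianSpace.exists_finite_set_isClosed_irreducible (hzc.preimage g.continuous)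
          show (g ⁻¹' {z}).Finite
          rw [hS]
          refine hSfin.sUnion fun s hs => ?_
          obtain ⟨w, hw⟩ := QuasiSober.sober (hSirr s hs) (hSc s hs)
          have hwz : g w = z := by
            have : w ∈ g ⁻¹' {z} := hS ▸ ⟨s, hs, hw.mem⟩
            exact this
          rw [← hw.def, (hclosed w (hF w hwz) fun e => hgz (e ▸ hwz)).closure_eq]
          exact Set.finite_singleton w
        · refine Set.Finite.subset Set.finite_empty fun x hx => hzc ?_
          have := g.isClosedMap _ (hclosed x (hF x hx) fun e => hgz (e ▸ hx))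
          rwa [Set.image_singleton, show g x = z from hx] at this
    · refine Set.Subsingleton.finite fun a ha b hb => hinjf a b ?_ ?_
      · rw [← hgf, show g a = z from ha]; exact hz
      · rw [← hgf, ← hgf, show g a = z from ha, show g b = z from hb]
  have hY'n : Pi1.IsNormalScheme Y' := fun z => by
    haveI := isRegularLocalRing_blowUp hy hY hd π hπ z
    haveI := Groth.PicAux.ufd_of_isRegularLocalRing (Y'.presheaf.stalk z)
    exact ⟨inferInstance, inferInstance⟩
  haveI : IsIso g := (Groth.Agent.S2415.result hY'n g hggen hgbir hfin).2 inferInstance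
  exact hg ▸ Groth.RefRank.isBlowUp_iso_comp hπ (asIso g)

end Groth.ArSurfBasics.PointRecognition
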