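import Groth.Agent.ArSurfBasics.Fibre
import Groth.Agent.ArSurfBasics.ExceptionalLine
import Groth.Agent.Calg6.ClosedImmStalk
import Groth.Agent.Duality.PnPushDepth
import Groth.Agent.Variety2.ProjDim
import Groth.Agent.ArSurfBasics.PointRecognition
import Groth.Agent.Ega4Algebra1.DimMaps
import Groth.Agent.Curves1.CurveMor.Flat
import Groth.Agent.S2336
import Groth.Agent.S2348
import Groth.Agent.S8910
import Groth.Agent.S9708
import Groth.Agent.S4420

/-!
Blowing up closed points keeps the class of arithmetic surfaces.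
-/

set_option autoImplicit false
set_option backward.isDefEq.respectTransparency.types false

universe u

open CategoryTheory CategoryTheory.Limits AlgebraicGeometry TopologicalSpace

namespace Groth.ArSurfBasics.ArithBlowUp

variable {R : Type u} [CommRing R] [IsDomain R] [IsDiscreteValuationRing R]

/-- The blow-up of an arithmetic surface in a two-dimensional point is birational and surjective. -/
theorem blowUp_basic {X : Scheme.{u}} [IsIntegral X] [IsLocallyNoetherian X] {y : X} (hy : IsClosed ({y} : Set X))
    (hd : ringKrullDim (X.presheaf.stalk y) = 2) {W : Scheme.{u}} (b : W ⟶ X)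
    (hb : BlowUp.IsBlowUp b (Scheme.IdealSheafData.vanishingIdeal ⟨{y}, hy⟩)) :
    ∃ (_ : IsIntegral W), b (genericPoint W) = genericPoint X ∧ y ≠ genericPoint X ∧
      IsIso (b ∣_ (⟨{y}ᶜ, hy.isOpen_compl⟩ : X.Opens)) := by
  have hyg : y ≠ genericPoint X := fun e => by
    rw [e] at hd
    have : ringKrullDim X.functionField = 2 := hd
    rw [ringKrullDim_eq_zero_of_field] at this
    norm_num at this
  have hI : Scheme.IdealSheafData.vanishingIdeal (⟨{y}, hy⟩ : Closeds X) ≠ ⊥ := fun h0 => by
    have h1 := congrArg (fun J => (Scheme.IdealSheafData.support J : Set X)) h0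
    simp only [Scheme.IdealSheafData.coe_support_vanishingIdeal, Scheme.IdealSheafData.support_bot] at h1
    exact hyg ((Set.ext_iff.1 h1 _).2 trivial : genericPoint X ∈ ({y} : Set X)).symm
  obtain ⟨hW, hgen, -⟩ := Groth.Agent.S2348.result _ hI b hb
  refine ⟨hW, hgen, hyg, Groth.BlowUpBasics.isIso_morphismRestrict hb _ ?_⟩
  rw [Scheme.IdealSheafData.coe_support_vanishingIdeal]
  exact Set.disjoint_singleton_left.2 fun h => h rfl

/-- Blowing up a closed point with regular two-dimensional local ring keeps the dimension at most two. -/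
theorem dim_blowUp_le {Z W : Scheme.{u}} [IsIntegral Z] [IsLocallyNoetherian Z] (hdim : topologicalKrullDim Z ≤ 2)
    {y : Z} (hy : IsClosed ({y} : Set Z)) [IsRegularLocalRing (Z.presheaf.stalk y)]
    (hd : ringKrullDim (Z.presheaf.stalk y) = 2) (b : W ⟶ Z) [IsProper b]
    (hb : BlowUp.IsBlowUp b (Scheme.IdealSheafData.vanishingIdeal ⟨{y}, hy⟩)) :
    topologicalKrullDim W ≤ 2 := by
  obtain ⟨hW, -, -, hiso⟩ := blowUp_basic hy hd b hb
  haveI := hW
  haveI : IsLocallyNoetherian W := LocallyOfFiniteType.isLocallyNoetherian b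
  have key : ∀ w : W, ringKrullDim (W.presheaf.stalk w) ≤ 2 := fun w => by
    by_cases hw : b w = y
    · obtain ⟨j, hj, -, hjr, hjk, -⟩ := Groth.ArSurfBasics.ExcLineGlobal.exists_excLine b hy hb hd
      haveI := hj
      obtain ⟨c, rfl⟩ : w ∈ Set.range j := hjr ▸ hw
      obtain ⟨U, hU, f, hf, hfe⟩ := hb.1 (j c)
      set q := W.presheaf.germ U.1 (j c) hU f
      have hq : q ≠ 0 := fun h0 => by
        haveI : Nonempty U.1 := ⟨⟨_, hU⟩⟩
        refine nonZeroDivisors.ne_zero hf (germ_injective_of_isIntegral W (j c) hU ?_)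
        rw [show W.presheaf.germ U.1 (j c) hU f = 0 from h0, map_zero]
      have hker : RingHom.ker (j.stalkMap c).hom = Ideal.span {q} := by
        rw [Groth.Calg6.ClosedImmStalk.ker_stalkMap_eq, hjk, Groth.ParaFormal.stalkIdeal_eq _ U hU, hfe,
          Ideal.map_span, Set.image_singleton]
      have hqm : q ∈ IsLocalRing.maximalIdeal (W.presheaf.stalk (j c)) :=
        IsLocalRing.le_maximalIdeal (RingHom.ker_ne_top _) (hker.ge (Ideal.mem_span_singleton_self q))
      rw [← ringKrullDim_quotient_span_singleton_succ_eq_ringKrullDim_of_mem_nonZeroDivisors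
        (mem_nonZeroDivisors_of_ne_zero hq) hqm]
      have h1 : ringKrullDim (W.presheaf.stalk (j c) ⧸ Ideal.span {q}) ≤ 1 := by
        rw [← hker, ringKrullDim_eq_of_ringEquiv
          (RingHom.quotientKerEquivOfSurjective (j.stalkMap_surjective c))]
        exact (Groth.Duality.ringKrullDim_stalk_le c).trans (by simp [Groth.Variety2.PSpace.dim_projSpace])
      exact (add_le_add h1 le_rfl).trans (by norm_num)
    · haveI : IsIso (b.stalkMap w) :=
        ((MorphismProperty.isomorphisms CommRingCat.{u}).arrow_mk_iso_iff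
          (morphismRestrictStalkMap b (⟨{y}ᶜ, hy.isOpen_compl⟩ : Z.Opens) ⟨w, hw⟩)).1 (by
            show IsIso _
            infer_instance)
      rw [← ringKrullDim_eq_of_ringEquiv (asIso (b.stalkMap w)).commRingCatIsoToRingEquiv]
      exact (Groth.Duality.ringKrullDim_stalk_le (b w)).trans hdim
  rw [Groth.DescentBase.topologicalKrullDim_eq_points, Order.krullDim_eq_iSup_coheight_of_nonempty,
    WithBot.coe_iSup (OrderTop.bddAbove _)]
  refine iSup_le fun w => ?_
  rw [← ringKrullDim_stalk_eq_coheight]
  exact key w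

theorem isArithSurface_blowUp {X : Over (Spec (CommRingCat.of R))} (hX : ArSurf.IsArithSurface R X)
    {y : X.left} (hy : IsClosed ({y} : Set X.left)) (hd : ringKrullDim (X.left.presheaf.stalk y) = 2)
    {W : Scheme.{u}} (b : W ⟶ X.left) [IsProper b]
    (hb : BlowUp.IsBlowUp b (Scheme.IdealSheafData.vanishingIdeal ⟨{y}, hy⟩)) :
    ArSurf.IsArithSurface R (Over.mk (b ≫ X.hom)) := by
  obtain ⟨hreg, hint, hdX, hfl, hproj⟩ := hX
  haveI := hreg y
  haveI := hint
  haveI := hfl
  haveI : IsProper X.hom := isProper_of_isProjectiveOver hproj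
  haveI : AlgebraicGeometry.IsNoetherian X.left := isNoetherian_of_isProper
  obtain ⟨hW, hgen, hyg, -⟩ := blowUp_basic hy hd b hb
  haveI := hW
  have hsurj : Function.Surjective b := fun z =>
    ((genericPoint_spec X.left).specializes (Set.mem_univ z)).mem_closed b.isClosedMap.isClosed_range
      ⟨_, hgen⟩
  have hdim : topologicalKrullDim W ≤ 2 := dim_blowUp_le hdX.le hy hd b hb
  refine ⟨fun z => PointRecognition.isRegularLocalRing_blowUp hy hreg hd b hb z, hW, ?_, ?_, ?_⟩
  · exact le_antisymm hdim (hdX.ge.trans (Groth.Ega4Algebra1.topologicalKrullDim_le_of_specializing b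
      b.isClosedMap.specializingMap hsurj))
  · haveI : IsLocallyNoetherian (Spec (CommRingCat.of R)) := inferInstance
    refine Groth.Curves1.CurveMor.flat_of_dominant (b ≫ X.hom) ?_ (fun p => ?_) ?_
    · show X.hom (b (genericPoint W)) = _
      rw [hgen]
      obtain ⟨g, hg, hgb⟩ := Flat.generalizingMap X.hom
        ((genericPoint_spec (Spec (CommRingCat.of R))).specializes (Set.mem_univ (X.hom (genericPoint X.left))))
      obtain rfl : g = genericPoint X.left := (hg.antisymm (genericPoint_specializes g)).eq
      exact hgb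
    · haveI : IsIntegrallyClosed R := inferInstance
      haveI : IsIntegrallyClosed (Localization.AtPrime p.asIdeal) := isIntegrallyClosed_of_isLocalization
        (Localization.AtPrime p.asIdeal) p.asIdeal.primeCompl p.asIdeal.primeCompl_le_nonZeroDivisors
      exact IsIntegrallyClosed.of_equiv (StructureSheaf.stalkIso R p).toRingEquiv
    · refine (PrimeSpectrum.topologicalKrullDim_eq_ringKrullDim (R := R)).trans_le ?_
      exact Order.KrullDimLE.krullDim_le
  · have h1 : RelProj.IsProjective b := Groth.Agent.S8910.result _ (fun U =>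
      haveI := IsLocallyNoetherian.component_noetherian (X := X.left) U
      (isNoetherianRing_iff_ideal_fg _).1 inferInstance _) b hb
    have hY : ∃ M : (Spec (CommRingCat.of R)).Modules, CohB1.IsAmple M :=
      ⟨_, (Groth.Agent.S2336.result (Spec (CommRingCat.of R))).1 inferInstance⟩
    have h2 : RelProj.IsProjective X.hom := (Groth.Agent.S4420.result hY X.hom).2 hproj
    exact (Groth.Agent.S4420.result hY (b ≫ X.hom)).1 (Groth.Agent.S9708.result b X.hom h1 h2)

/-- Intermediate surfaces of a contraction sequence over an arithmetic surface are arithmetic surfaces. -/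
theorem isArithSurface_of_contractionSeq {W X : Scheme.{u}} {r : W ⟶ X} (hr : Models.IsContractionSeq r) :
    ∀ (s : X ⟶ Spec (CommRingCat.of R)), ArSurf.IsArithSurface R (Over.mk s) →
      ArSurf.IsArithSurface R (Over.mk (r ≫ s)) := by
  induction hr with
  | @iso W X e =>
    intro s hX
    obtain ⟨hreg, hint, hdX, hfl, n, i, hi, hic⟩ := hX
    haveI : IsIntegral X := hint
    haveI : Flat s := hfl
    haveI := hi
    haveI : Nonempty W := ⟨e.inv (Classical.arbitrary X)⟩
    refine ⟨fun x => ?_, (show IsIntegral W from isIntegral_of_isOpenImmersion e.hom), ?_, inferInstanceAs (Flat (e.hom ≫ s)),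
      n, e.hom ≫ i, inferInstance, ?_⟩
    · haveI : IsRegularLocalRing (X.presheaf.stalk (e.hom x)) := hreg (e.hom x)
      exact IsRegularLocalRing.of_ringEquiv (asIso (e.hom.stalkMap x)).commRingCatIsoToRingEquiv
    · exact (e.hom.homeomorph.isHomeomorph.topologicalKrullDim_eq).trans hdX
    · show (e.hom ≫ i) ≫ _ = e.hom ≫ s
      rw [Category.assoc]
      exact congrArg (e.hom ≫ ·) hic
  | @step W Z X E ι b r hι hE hb hr ih =>
    intro s hX
    obtain ⟨hN, hbp, y, hy, -, hyreg, hyd, hbl⟩ := hb
    haveI := hbp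
    haveI := hN
    have := isArithSurface_blowUp (X := Over.mk (r ≫ s)) (ih s hX) hy hyd b hbl
    rw [Category.assoc]
    exact this

end Groth.ArSurfBasics.ArithBlowUp
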