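import Mathlib.RingTheory.UniqueFactorizationDomain.Multiplicity
import Mathlib.RingTheory.Polynomial.Basic
import Mathlib.RingTheory.KrullDimension.Basic
import Mathlib.RingTheory.LocalRing.ResidueField.Basic
import Mathlib.RingTheory.Noetherian.Basic
import Mathlib.RingTheory.PrincipalIdealDomain
import Mathlib.RingTheory.Localization.FractionRing
import Mathlib.RingTheory.UniqueFactorizationDomain.Ideal
import Mathlib.Tactic.LinearCombination
import Mathlib.Tactic.FieldSimp
import Mathlib.Tactic.NormNum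

/-!
A birational local map into a factorial local ring either has principal extended maximal ideal, or the
extended maximal ideal has no prime above it but the maximal one (factorization through a point blow-up).
-/

set_option autoImplicit false
universe u

open Polynomial IsLocalRing

namespace Groth.ArSurfBasics.BirationalPoint

variable {B : Type u} [CommRing B] [IsDomain B] [IsLocalRing B] [UniqueFactorizationMonoid B]

/-- A homogeneous relation between two coprime non-units has coefficients in the maximal ideal. -/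
lemma mem_of_sum_eq_zero {a b : B} (ha : a ∈ maximalIdeal B) (hb : b ∈ maximalIdeal B)
    (hb0 : b ≠ 0) (hab : IsRelPrime a b) :
    ∀ (n : ℕ) (f : ℕ → B), ∑ i ∈ Finset.range (n + 1), f i * a ^ i * b ^ (n - i) = 0 →
      ∀ i ≤ n, f i ∈ maximalIdeal B := by
  intro n
  induction n with
  | zero =>
    intro f hf i hi
    obtain rfl : i = 0 := by omega
    simp at hf
    simp [hf]
  | succ n ih =>
    intro f hf
    rw [Finset.sum_range_succ, Nat.sub_self, pow_zero, mul_one] at hf
    have hshift : ∑ i ∈ Finset.range (n + 1), f i * a ^ i * b ^ (n + 1 - i) =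
        b * ∑ i ∈ Finset.range (n + 1), f i * a ^ i * b ^ (n - i) := by
      rw [Finset.mul_sum]
      refine Finset.sum_congr rfl fun i hi => ?_
      rw [Nat.succ_sub (Finset.mem_range_succ_iff.1 hi), pow_succ]
      ring
    rw [hshift] at hf
    have hd : b ∣ f (n + 1) * a ^ (n + 1) :=
      ⟨-∑ i ∈ Finset.range (n + 1), f i * a ^ i * b ^ (n - i), by linear_combination hf⟩
    obtain ⟨c, hc⟩ := (hab.symm.pow_right).dvd_of_dvd_mul_right hd
    let f' : ℕ → B := fun i => if i = n then f n + c * a else f i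
    have hS : ∑ i ∈ Finset.range (n + 1), f i * a ^ i * b ^ (n - i) + c * a ^ (n + 1) = 0 := by
      apply mul_left_cancel₀ hb0
      rw [hc] at hf
      linear_combination hf
    have hf' : ∑ i ∈ Finset.range (n + 1), f' i * a ^ i * b ^ (n - i) = 0 := by
      rw [Finset.sum_range_succ] at hS ⊢
      rw [Finset.sum_congr rfl (fun i hi => by
        rw [show f' i = f i from if_neg (Finset.mem_range.1 hi).ne]), show f' n = f n + c * a from if_pos rfl]
      simp only [Nat.sub_self, pow_zero, mul_one] at hS ⊢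
      linear_combination hS
    intro i hi
    rcases Nat.lt_or_ge i (n + 1) with h | h
    · have := ih f' hf' i (by omega)
      by_cases hin : i = n
      · subst hin
        rw [show f' i = f i + c * a from if_pos rfl] at this
        simpa using (maximalIdeal B).sub_mem this ((maximalIdeal B).mul_mem_left c ha)
      · rwa [show f' i = f i from if_neg hin] at this
    · rw [show i = n + 1 by omega, hc]
      exact Ideal.mul_mem_right _ _ hb

/-- A polynomial vanishing at a quotient of coprime non-units reduces to zero. -/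
lemma map_residue_eq_zero {K : Type u} [Field K] (ι : B →+* K) (hι : Function.Injective ι) {a b : B}
    (ha : a ∈ maximalIdeal B) (hb : b ∈ maximalIdeal B) (hb0 : b ≠ 0) (hab : IsRelPrime a b)
    (G : B[X]) (hG : G.eval₂ ι (ι a / ι b) = 0) : G.map (residue B) = 0 := by
  have hιb : ι b ≠ 0 := fun h => hb0 (hι (h.trans (map_zero ι).symm))
  have hS : ∑ i ∈ Finset.range (G.natDegree + 1), G.coeff i * a ^ i * b ^ (G.natDegree - i) = 0 := by
    apply hι
    rw [map_sum, map_zero, ← mul_zero ((ι b) ^ G.natDegree), ← hG, Polynomial.eval₂_eq_sum_range,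
      Finset.mul_sum]
    refine Finset.sum_congr rfl fun i hi => ?_
    have hin := Finset.mem_range_succ_iff.1 hi
    simp only [map_mul, map_pow, div_pow]
    rw [show (ι b) ^ G.natDegree = ι b ^ (G.natDegree - i) * ι b ^ i by
      rw [← pow_add, Nat.sub_add_cancel hin]]
    field_simp
  ext i
  rw [coeff_map, coeff_zero, residue_eq_zero_iff]
  rcases le_or_gt i G.natDegree with h | h
  · exact mem_of_sum_eq_zero ha hb hb0 hab _ _ hS i h
  · rw [coeff_eq_zero_of_natDegree_lt h]
    exact zero_mem _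

variable {A : Type u} [CommRing A] [IsDomain A] [IsLocalRing A] [IsNoetherianRing A]
  (φ : A →+* B) [IsLocalHom φ]

/-- If the maximal ideal is generated by `h * a'` and `h * b'` with `a'`, `b'` coprime non-units, then
`h` is a unit. -/
theorem isUnit_of_span (hφ : Function.Injective φ)
    (hfrac : ∀ z : B, ∃ v w : A, w ≠ 0 ∧ z * φ w = φ v) {a b : A}
    (hspan : maximalIdeal A = Ideal.span {a, b}) (hb : b ≠ 0) {a' b' h : B}
    (ha' : a' ∈ maximalIdeal B) (hb' : b' ∈ maximalIdeal B) (hab : IsRelPrime a' b')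
    (hha : h * a' = φ a) (hhb : h * b' = φ b) : IsUnit h := by
  by_contra hh
  have hh0 : h ≠ 0 := fun e => hb (hφ (by rw [← hhb, e, zero_mul, map_zero]))
  have hb0 : b' ≠ 0 := fun e => hb (hφ (by rw [← hhb, e, mul_zero, map_zero]))
  let K := FractionRing B
  let ι : B →+* K := algebraMap B K
  have hι : Function.Injective ι := IsFractionRing.injective B K
  set t : K := ι a' / ι b' with ht
  let ψB : B[X] →+* K := eval₂RingHom ι t
  let ψ : A[X] →+* K := ψB.comp (mapRingHom φ)
  let red : A[X] →+* (ResidueField B)[X] := (mapRingHom (residue B)).comp (mapRingHom φ)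
  have key : ∀ G : B[X], ψB G = 0 → G.map (residue B) = 0 := fun G hG =>
    map_residue_eq_zero ι hι ha' hb' hb0 hab G hG
  have hψC : ∀ c : A, ψ (C c) = ι (φ c) := fun c => by simp [ψ, ψB]
  have hta : ι (φ a) = ι (φ b) * t := by
    rw [ht, ← hha, ← hhb, map_mul, map_mul]
    have : ι b' ≠ 0 := fun e => hb0 (hι (e.trans (map_zero ι).symm))
    rw [mul_assoc, mul_div_cancel₀ _ this]
  have hβ0 : ι (φ b) ≠ 0 := fun e => hb (hφ ((hι (e.trans (map_zero ι).symm)).trans (map_zero φ).symm))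
  have hφb : φ b ∈ maximalIdeal B := hhb ▸ Ideal.mul_mem_left _ _ hb'
  -- divisibility by `b`
  have hdvd : ∀ G, red G = 0 → ∃ G', ψ G = ι (φ b) * ψ G' := fun G hG => by
    have hmem : G ∈ (maximalIdeal A).map C := by
      rw [Ideal.mem_map_C_iff]
      intro n
      have := congrArg (fun P => P.coeff n) hG
      simp only [red, RingHom.comp_apply, coe_mapRingHom, coeff_map, coeff_zero, residue_eq_zero_iff] at this
      exact (mem_maximalIdeal _).2 (((mem_maximalIdeal _).1 this) ∘ (IsUnit.map φ))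
    rw [hspan, Ideal.map_span, Set.image_pair, Ideal.mem_span_pair] at hmem
    obtain ⟨P, Q, rfl⟩ := hmem
    refine ⟨P * X + Q, ?_⟩
    rw [map_add, map_mul, map_mul, hψC, hψC, map_add, map_mul, hta,
      show ψ X = t by simp [ψ, ψB]]
    ring
  have hβunit : ∀ G, ι (φ b) * ψ G ≠ 1 := fun G e => by
    have := key (C (φ b) * G.map φ - 1) (by
      rw [map_sub, map_mul, map_one]
      simp only [ψ, RingHom.comp_apply, coe_mapRingHom] at e
      rw [show ψB (C (φ b)) = ι (φ b) by simp [ψB], e, sub_self])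
    simp [(residue_eq_zero_iff _).2 hφb] at this
  have hdec : ∀ c : A, c ≠ 0 → ∃ (k : ℕ) (G : A[X]), red G ≠ 0 ∧ ι (φ c) = ι (φ b) ^ k * ψ G := by
    intro c hc
    let β : ψ.range := ⟨ψ (C b), C b, rfl⟩
    let γ : ψ.range := ⟨ψ (C c), C c, rfl⟩
    have hγ : γ ≠ 0 := fun e => by
      have := congrArg Subtype.val e
      rw [show (γ : K) = ι (φ c) from hψC c] at this
      exact hc (hφ ((hι (this.trans (map_zero ι).symm)).trans (map_zero φ).symm))
    have hβ : ¬ IsUnit β := fun e => by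
      obtain ⟨⟨_, G, rfl⟩, hG⟩ := e.exists_right_inv
      exact hβunit G (by rw [← hψC]; exact congrArg Subtype.val hG)
    haveI : IsNoetherianRing ψ.range := isNoetherianRing_range ψ
    haveI : WfDvdMonoid ψ.range := IsNoetherianRing.wfDvdMonoid
    obtain ⟨k, ⟨_, G, rfl⟩, hG, he⟩ := WfDvdMonoid.max_power_factor' hγ hβ
    refine ⟨k, G, fun e => hG ?_, ?_⟩
    · obtain ⟨G', hG'⟩ := hdvd G e
      exact ⟨⟨ψ G', G', rfl⟩, Subtype.ext (by
        show ψ G = ψ (C b) * ψ G'
        rw [hψC, hG'])⟩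
    · have := congrArg Subtype.val he
      simpa [β, γ, hψC] using this
  -- elements of the maximal ideal have positive order
  have hord : ∀ z ∈ maximalIdeal B, z ≠ 0 → ∃ (k : ℕ) (G₁ G₂ : A[X]), red G₁ ≠ 0 ∧ red G₂ ≠ 0 ∧
      ι z * ψ G₂ = ι (φ b) ^ (k + 1) * ψ G₁ := fun z hz hz0 => by
    obtain ⟨v, w, hw, hvw⟩ := hfrac z
    have hv : v ≠ 0 := fun e => by
      rw [e, map_zero, mul_eq_zero] at hvw
      exact hvw.elim hz0 fun e' => hw (hφ (e'.trans (map_zero φ).symm))
    obtain ⟨k₁, G₁, hG₁, h₁⟩ := hdec v hv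
    obtain ⟨k₂, G₂, hG₂, h₂⟩ := hdec w hw
    have hzw := congrArg ι hvw
    rw [map_mul, h₁, h₂] at hzw
    rcases Nat.lt_or_ge k₂ k₁ with hlt | hge
    · obtain ⟨j, rfl⟩ : ∃ j, k₁ = k₂ + (j + 1) := ⟨k₁ - k₂ - 1, by omega⟩
      refine ⟨j, G₁, G₂, hG₁, hG₂, mul_left_cancel₀ (pow_ne_zero k₂ hβ0) ?_⟩
      rw [← mul_assoc (ι (φ b) ^ k₂), ← mul_assoc (ι (φ b) ^ k₂), ← pow_add, ← hzw]
      ring
    · exfalso
      obtain ⟨j, rfl⟩ : ∃ j, k₂ = k₁ + j := ⟨k₂ - k₁, by omega⟩
      apply hG₁
      have h0 : ψB (C z * C (φ b) ^ j * G₂.map φ - G₁.map φ) = 0 := by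
        apply mul_left_cancel₀ (pow_ne_zero k₁ hβ0)
        rw [mul_zero, map_sub, map_mul, map_mul, map_pow, mul_sub, sub_eq_zero]
        simp only [ψ, RingHom.comp_apply, coe_mapRingHom] at hzw
        rw [show ψB (C z) = ι z by simp [ψB], show ψB (C (φ b)) = ι (φ b) by simp [ψB], ← hzw]
        ring
      have := key _ h0
      rw [Polynomial.map_sub, Polynomial.map_mul, Polynomial.map_mul, Polynomial.map_C,
        (residue_eq_zero_iff z).2 hz, C_0, zero_mul, zero_mul, zero_sub, neg_eq_zero] at this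
      exact this
  obtain ⟨k, H₁, H₂, hH₁, hH₂, eH⟩ := hord h ((mem_maximalIdeal _).2 hh) hh0
  obtain ⟨l, G₁, G₂, hG₁, hG₂, eG⟩ := hord b' hb' hb0
  have e : ψ (H₂ * G₂) = ι (φ b) ^ (k + l + 1) * ψ (H₁ * G₁) := by
    apply mul_left_cancel₀ hβ0
    calc ι (φ b) * ψ (H₂ * G₂) = (ι h * ψ H₂) * (ι b' * ψ G₂) := by
          rw [map_mul, ← hhb, map_mul]; ring
      _ = _ := by rw [eH, eG, map_mul]; ring
  have := key ((H₂ * G₂).map φ - C (φ b) ^ (k + l + 1) * (H₁ * G₁).map φ) (by
    simp only [ψ, RingHom.comp_apply, coe_mapRingHom] at e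
    rw [map_sub, map_mul, map_pow, show ψB (C (φ b)) = ι (φ b) by simp [ψB], e, sub_self])
  simp only [Polynomial.map_sub, Polynomial.map_mul, Polynomial.map_pow, Polynomial.map_C,
    (residue_eq_zero_iff _).2 hφb, C_0, zero_pow (Nat.succ_ne_zero (k + l)), zero_mul, sub_zero] at this
  exact (mul_ne_zero hH₂ hG₂) this

/-- The dichotomy. -/
theorem principal_or (hφ : Function.Injective φ)
    (hfrac : ∀ z : B, ∃ v w : A, w ≠ 0 ∧ z * φ w = φ v) (hdim : ringKrullDim B ≤ 2) {a b : A}
    (hspan : maximalIdeal A = Ideal.span {a, b}) (hne : maximalIdeal A ≠ ⊥) :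
    (∃ g : B, g ≠ 0 ∧ (maximalIdeal A).map φ = Ideal.span {g}) ∨
      ((∀ p : Ideal B, p.IsPrime → (maximalIdeal A).map φ ≤ p → p = maximalIdeal B) ∧
        2 ≤ ringKrullDim B) := by
  have hmap : (maximalIdeal A).map φ = Ideal.span {φ a, φ b} := by
    rw [hspan, Ideal.map_span, Set.image_pair]
  by_cases hb : b = 0
  · left
    refine ⟨φ a, fun e => hne ?_, ?_⟩
    · rw [hspan, hb, hφ (e.trans (map_zero φ).symm)]
      simp
    · rw [hmap, hb, map_zero]
      simp [Ideal.span_insert]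
  obtain ⟨a', b', h, hab, hha, hhb⟩ :=
    UniqueFactorizationMonoid.exists_reduced_factors' (φ a) (φ b)
      (fun e => hb (hφ (e.trans (map_zero φ).symm)))
  have hh0 : h ≠ 0 := fun e => hb (hφ (by rw [← hhb, e, zero_mul, map_zero]))
  have hle : (maximalIdeal A).map φ ≤ Ideal.span {h} := by
    rw [hmap, Ideal.span_le, Set.insert_subset_iff, Set.singleton_subset_iff]
    exact ⟨Ideal.mem_span_singleton.2 ⟨a', hha.symm⟩, Ideal.mem_span_singleton.2 ⟨b', hhb.symm⟩⟩
  have hu : ∀ c c' : B, h * c = c' → IsUnit c → c' ∈ (maximalIdeal A).map φ →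
      ∃ g : B, g ≠ 0 ∧ (maximalIdeal A).map φ = Ideal.span {g} := fun c c' e hc hmem =>
    ⟨h, hh0, le_antisymm hle ((Ideal.span_singleton_le_iff_mem _).2
      ((Ideal.mul_unit_mem_iff_mem _ hc).1 (e.symm ▸ hmem)))⟩
  by_cases ha' : IsUnit a'
  · exact Or.inl (hu a' _ hha ha' (Ideal.mem_map_of_mem _ (hspan ▸ Ideal.subset_span (by simp))))
  by_cases hb' : IsUnit b'
  · exact Or.inl (hu b' _ hhb hb' (Ideal.mem_map_of_mem _ (hspan ▸ Ideal.subset_span (by simp))))
  have hh := isUnit_of_span φ hφ hfrac hspan hb ((mem_maximalIdeal _).2 ha') ((mem_maximalIdeal _).2 hb')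
    hab hha hhb
  have hb0 : b' ≠ 0 := fun e => hb (hφ (by rw [← hhb, e, mul_zero, map_zero]))
  obtain ⟨q, hq, hqb⟩ := WfDvdMonoid.exists_irreducible_factor hb' hb0
  have hqp : Prime q := hq.prime
  let P : PrimeSpectrum B := ⟨Ideal.span {q}, (Ideal.span_singleton_prime hqp.ne_zero).2 hqp⟩
  let M : PrimeSpectrum B := ⟨maximalIdeal B, inferInstance⟩
  let O : PrimeSpectrum B := ⟨⊥, Ideal.isPrime_bot⟩
  have hPM : P < M := by
    refine lt_of_le_of_ne (le_maximalIdeal P.2.ne_top) fun e => hqp.not_unit (hab ?_ hqb)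
    have : a' ∈ P.asIdeal := e ▸ (mem_maximalIdeal _).2 ha'
    exact Ideal.mem_span_singleton.1 this
  have hOP : O < P := lt_of_le_of_ne (show (⊥ : Ideal B) ≤ P.asIdeal from bot_le) fun e =>
    hqp.ne_zero (Ideal.span_singleton_eq_bot.1 (congrArg PrimeSpectrum.asIdeal e).symm)
  let s : LTSeries (PrimeSpectrum B) := ((RelSeries.singleton _ O).snoc P hOP).snoc M (by simpa using hPM)
  refine Or.inr ⟨fun p hp hmp => ?_, Order.LTSeries.length_le_krullDim s⟩
  have hap : a' ∈ p := (Ideal.unit_mul_mem_iff_mem _ hh).1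
    (hha ▸ hmp (Ideal.mem_map_of_mem _ (hspan ▸ Ideal.subset_span (by simp))))
  have hbp : b' ∈ p := (Ideal.unit_mul_mem_iff_mem _ hh).1
    (hhb ▸ hmp (Ideal.mem_map_of_mem _ (hspan ▸ Ideal.subset_span (by simp))))
  by_contra hpM
  have hbot : p ≠ ⊥ := fun e => hb0 (by rwa [e, Ideal.mem_bot] at hbp)
  obtain ⟨r, hrp, hr⟩ := hp.exists_mem_prime_of_ne_bot hbot
  have hra : ¬ (r ∣ a' ∧ r ∣ b') := fun ⟨h1, h2⟩ => hr.not_unit (hab h1 h2)
  let Q : PrimeSpectrum B := ⟨Ideal.span {r}, (Ideal.span_singleton_prime hr.ne_zero).2 hr⟩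
  let p' : PrimeSpectrum B := ⟨p, hp⟩
  have hQp : Q < p' := lt_of_le_of_ne ((Ideal.span_singleton_le_iff_mem p).2 hrp) fun e => hra
    ⟨Ideal.mem_span_singleton.1 (show a' ∈ Q.asIdeal from (congrArg PrimeSpectrum.asIdeal e).symm ▸ hap),
      Ideal.mem_span_singleton.1 (show b' ∈ Q.asIdeal from (congrArg PrimeSpectrum.asIdeal e).symm ▸ hbp)⟩
  have hOQ : O < Q := lt_of_le_of_ne (show (⊥ : Ideal B) ≤ Q.asIdeal from bot_le) fun e =>
    hr.ne_zero (Ideal.span_singleton_eq_bot.1 (congrArg PrimeSpectrum.asIdeal e).symm)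
  have hpM' : p' < M := lt_of_le_of_ne (le_maximalIdeal hp.ne_top) fun e =>
    hpM (congrArg PrimeSpectrum.asIdeal e)
  let s' : LTSeries (PrimeSpectrum B) :=
    (((RelSeries.singleton _ O).snoc Q hOQ).snoc p' (by simpa using hQp)).snoc M (by simpa using hpM')
  have h3 : ((3 : ℕ) : WithBot ℕ∞) ≤ ringKrullDim B := Order.LTSeries.length_le_krullDim s'
  exact absurd (h3.trans hdim) (by norm_num)

end Groth.ArSurfBasics.BirationalPoint
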