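import Groth.Agent.ArSurfBasics.PointColength
import Groth.Agent.ResolveSurf.PointContraction
import Groth.Agent.BlowUpBasics.AtlasOf
import Groth.Agent.Flatmor4.FlatBirational

/-!
A chart at a point of the exceptional fibre of the blow-up of a closed point.
-/

set_option autoImplicit false
set_option backward.isDefEq.respectTransparency.types false
set_option maxHeartbeats 1000000

universe u

open CategoryTheory CategoryTheory.Limits AlgebraicGeometry IsLocalRing
open Groth.BlowUpBasics Groth.PointBlowUp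

namespace Groth.ArSurfBasics.BlowUpChartAt

lemma specMap_inv_comp {R S : CommRingCat.{u}} {Z : Scheme.{u}} (f : R ⟶ S) (hf : IsIso f) (k : Spec R ⟶ Z) :
    Spec.map (inv f) ≫ Spec.map f ≫ k = k := by
  rw [← Category.assoc, ← Spec.map_comp, IsIso.hom_inv_id, Spec.map_id, Category.id_comp]

/-- Local rings at points hit by a flat preimmersion of an affine scheme are localizations. -/
lemma exists_theta {C : Type u} [CommRing C] {Z : Scheme.{u}} (χ : Spec (CommRingCat.of C) ⟶ Z) [Flat χ]
    [IsPreimmersion χ] (q : Spec (CommRingCat.of C)) (z : Z) (h : χ q = z) :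
    ∃ θ : CommRingCat.of C ⟶ Z.presheaf.stalk z, Spec.map θ ≫ χ = Z.fromSpecStalk z ∧
      (letI := θ.hom.toAlgebra; IsLocalization.AtPrime (Z.presheaf.stalk z) q.asIdeal) := by
  subst h
  have hi := Groth.Flatmor4.isIso_stalkMap_of_flat_preimmersion χ q
  refine ⟨StructureSheaf.toStalk _ q ≫ @inv _ _ _ _ (χ.stalkMap q) hi, ?_, ?_⟩
  · rw [Spec.map_comp, Category.assoc, ← Spec.fromSpecStalk_eq']
    erw [← Scheme.SpecMap_stalkMap_fromSpecStalk]
    exact specMap_inv_comp (χ.stalkMap q) hi (Z.fromSpecStalk (χ q))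
  · letI : Algebra C ((Spec (CommRingCat.of C)).presheaf.stalk q) := (StructureSheaf.toStalk _ q).hom.toAlgebra
    haveI : IsLocalization.AtPrime ((Spec (CommRingCat.of C)).presheaf.stalk q) q.asIdeal :=
      StructureSheaf.IsLocalization.to_stalk C q
    let e := (@asIso _ _ _ _ (χ.stalkMap q) hi).commRingCatIsoToRingEquiv.symm
    letI := (StructureSheaf.toStalk _ q ≫ @inv _ _ _ _ (χ.stalkMap q) hi).hom.toAlgebra
    exact IsLocalization.isLocalization_of_algEquiv q.asIdeal.primeCompl
      (AlgEquiv.ofRingEquiv (f := e) fun r => rfl)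

/-- Over a point with two-dimensional regular local ring, the local rings of the blow-up of the point are
localizations of charts. -/
theorem exists_chart {X X' : Scheme.{u}} [IsLocallyNoetherian X] (π : X' ⟶ X) (z : X')
    (hy : IsClosed ({π z} : Set X))
    (hπ : BlowUp.IsBlowUp π (Scheme.IdealSheafData.vanishingIdeal ⟨{π z}, hy⟩))
    [IsRegularLocalRing (X.presheaf.stalk (π z))] (hA : ringKrullDim (X.presheaf.stalk (π z)) = 2) :
    ∃ (a b : X.presheaf.stalk (π z)) (_ : Param hA a b) (P : Ideal (Chart a)) (_ : P.IsPrime)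
      (θ : Chart a →+* X'.presheaf.stalk z),
      algebraMap (X.presheaf.stalk (π z)) (Chart a) a ∈ P ∧
      θ.comp (algebraMap (X.presheaf.stalk (π z)) (Chart a)) = (π.stalkMap z).hom ∧
      (letI := θ.toAlgebra; IsLocalization.AtPrime (X'.presheaf.stalk z) P) := by
  let A := X.presheaf.stalk (π z)
  let c : Spec (CommRingCat.of A) ⟶ X := X.fromSpecStalk (π z)
  haveI : Flat c := Groth.ResolveSurf.PointContraction.flat_fromSpecStalk (π z)
  haveI : IsPreimmersion c := inferInstanceAs (IsPreimmersion (X.fromSpecStalk (π z)))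
  have hIc : (Scheme.IdealSheafData.vanishingIdeal ⟨{π z}, hy⟩).comap c = sheafOf (maximalIdeal A) :=
    Groth.ResolveSurf.PointContraction.comap_vanishingIdeal_fromSpecStalk (π z) hy
  have hb : BlowUp.IsBlowUp (pullback.fst c π) (sheafOf (maximalIdeal A)) :=
    hIc ▸ Groth.Divisors.isBlowUp_flat_pullback c hπ
  obtain ⟨T⟩ := nonempty_atlas_of_isBlowUp hb
  obtain ⟨p, hp1, hp2⟩ := Scheme.Pullback.exists_preimage_pullback (f := c) (g := π)
    (closedPoint A) z Scheme.fromSpecStalk_closedPoint
  obtain ⟨⟨a, ha⟩, q, hq⟩ := T.covers p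
  let χ : Spec (CommRingCat.of (Chart (A := A) a)) ⟶ X' := T.j ⟨a, ha⟩ ≫ pullback.snd c π
  have hχq : χ q = z := by
    rw [show χ q = pullback.snd c π (T.j ⟨a, ha⟩ q) from Scheme.Hom.comp_apply _ _ _, hq, hp2]
  have hmax : (maximalIdeal A : Ideal A) = q.asIdeal.comap (algebraMap A (Chart a)) := by
    have h : chartBase (maximalIdeal A) a q = closedPoint A := by
      rw [← T.fac ⟨a, ha⟩, Scheme.Hom.comp_apply, hq]
      exact hp1
    exact (congrArg PrimeSpectrum.asIdeal h).symm
  have haq : algebraMap A (Chart a) a ∈ q.asIdeal := Ideal.mem_comap.1 (hmax ▸ ha)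
  obtain ⟨b, hab⟩ := exists_param_of_not_mem_sq (hA := hA) ha (not_mem_sq_of_mem (hA := hA) ha haq)
  haveI : Flat (pullback.snd c π) := MorphismProperty.pullback_snd _ _ inferInstance
  haveI : IsPreimmersion (pullback.snd c π) := MorphismProperty.pullback_snd _ _ inferInstance
  haveI : Flat χ := inferInstanceAs (Flat (T.j ⟨a, ha⟩ ≫ pullback.snd c π))
  haveI : IsPreimmersion χ := inferInstanceAs (IsPreimmersion (T.j ⟨a, ha⟩ ≫ pullback.snd c π))
  obtain ⟨τ, hτ, hloc⟩ := exists_theta χ q z hχq
  refine ⟨a, b, hab, q.asIdeal, q.2, τ.hom, haq, ?_, ?_⟩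
  · have h : Spec.map (CommRingCat.ofHom (algebraMap A (Chart a)) ≫ τ) = Spec.map (π.stalkMap z) := by
      rw [← cancel_mono c, Spec.map_comp, Category.assoc]
      show Spec.map τ ≫ chartBase (maximalIdeal A) a ≫ c = Spec.map (π.stalkMap z) ≫ X.fromSpecStalk (π z)
      rw [Scheme.SpecMap_stalkMap_fromSpecStalk, ← hτ, Category.assoc]
      show _ = Spec.map τ ≫ (T.j ⟨a, ha⟩ ≫ pullback.snd c π) ≫ π
      rw [Category.assoc, ← pullback.condition, reassoc_of% (T.fac ⟨a, ha⟩)]
    exact congrArg CommRingCat.Hom.hom (Spec.map_injective h)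
  · exact hloc

end Groth.ArSurfBasics.BlowUpChartAt
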