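import Groth.Agent.ArSurfBasics.PointPrincipalization

/-!
On a regular integral surface a non-zero ideal is an effective Cartier ideal times an ideal with finite
support at two-dimensional points.
-/

set_option autoImplicit false
set_option backward.isDefEq.respectTransparency.types false
set_option maxHeartbeats 1000000

universe u

open CategoryTheory CategoryTheory.Limits AlgebraicGeometry TopologicalSpace IsLocalRing IntMult

namespace Groth.ArSurfBasics.CartierPart

variable {X : Scheme.{u}} [IsIntegral X]

theorem genericPoint_notMem {I : X.IdealSheafData} (hI : I ≠ ⊥) : genericPoint X ∉ I.support := fun h => by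
  have htop : (⊤ : Closeds X) ≤ I.support := fun y _ =>
    ((genericPoint_spec X).specializes (y := y) trivial).mem_closed I.support.isClosed h
  have := Scheme.IdealSheafData.le_support_iff_le_vanishingIdeal.mp htop
  rw [Scheme.IdealSheafData.vanishingIdeal_top] at this
  exact hI (le_bot_iff.mp (this.trans (le_of_eq Scheme.nilradical_eq_bot)))

theorem coheight_lt {x y : X} (h : y ⤳ x) (hne : y ≠ x) (hfin : Order.coheight x < ⊤) :
    Order.coheight y < Order.coheight x := by
  have hlt : x < y := lt_of_le_not_ge h fun h' => hne (Specializes.antisymm (h' : x ⤳ y) h).eq.symm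
  exact Order.coheight_strictAnti hlt (lt_of_le_of_lt (Order.coheight_anti hlt.le) hfin)

/-- Two proper generisations give dimension two. -/
theorem two_le_dim_of_chain {p z : X} (h : z ⤳ p) (hne : z ≠ p) (hz : z ≠ genericPoint X) :
    2 ≤ ringKrullDim (X.presheaf.stalk p) := by
  have hg : genericPoint X ⤳ z := (genericPoint_spec X).specializes (Set.mem_univ z)
  have l1 : p < z := lt_of_le_not_ge h fun h' => hne (Specializes.antisymm (h' : p ⤳ z) h).eq.symm
  have l2 : z < genericPoint X :=
    lt_of_le_not_ge hg fun h' => hz (Specializes.antisymm (h' : z ⤳ genericPoint X) hg).eq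
  let s : LTSeries X := ((RelSeries.singleton _ p).snoc z l1).snoc (genericPoint X) (by simpa using l2)
  have h2 : ((2 : ℕ) : ℕ∞) ≤ Order.coheight p := Order.length_le_coheight (p := s) (by
    show p ≤ s.head
    simp [s])
  rw [ringKrullDim_stalk_eq_coheight]
  exact WithBot.coe_le_coe.2 h2

theorem stalkIdeal_vanishingIdeal_closure {p x : X} (h : p ⤳ x) :
    stalkIdeal (Scheme.IdealSheafData.vanishingIdeal ⟨closure {p}, isClosed_closure⟩) x =
      (maximalIdeal (X.presheaf.stalk p)).comap (X.presheaf.stalkSpecializes h).hom := by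
  obtain ⟨U, hx, -⟩ := Groth.Divisors.exists_affine_le x ⊤ trivial
  have hp := h.mem_open U.1.2 hx
  rw [Groth.ParaFormal.stalkIdeal_eq _ U hx]
  have hU : IsAffineOpen U.1 := U.2
  let q := hU.primeIdealOf ⟨p, hp⟩
  have hset : hU.fromSpec ⁻¹' (closure ({p} : Set X)) = closure {q} := by
    refine Eq.trans ?_ (hU.fromSpec.isOpenEmbedding.isInducing.closure_eq_preimage_closure_image {q}).symm
    exact congrArg (fun S : Set X => hU.fromSpec ⁻¹' closure S)
      ((Set.image_singleton).trans (congrArg (fun z : X => ({z} : Set X)) (hU.fromSpec_primeIdealOf ⟨p, hp⟩))).symm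
  have hid : (Scheme.IdealSheafData.vanishingIdeal (⟨closure {p}, isClosed_closure⟩ : Closeds X)).ideal U =
      q.asIdeal := by
    refine (congrArg PrimeSpectrum.vanishingIdeal hset).trans ?_
    exact (PrimeSpectrum.vanishingIdeal_closure _).trans (PrimeSpectrum.vanishingIdeal_singleton q)
  rw [hid, ← Groth.ParaFormal.comap_maximal_eq U.2 hp, ← Groth.ParaFormal.germ_comp_spec h hx,
    ← Ideal.comap_comap]
  let _ := TopCat.Presheaf.algebra_section_stalk X.presheaf ⟨x, hx⟩
  have := U.2.isLocalization_stalk ⟨x, hx⟩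
  exact IsLocalization.map_under (U.2.primeIdealOf ⟨x, hx⟩).asIdeal.primeCompl _ _

theorem stalkIdeal_closure_self (p : X) :
    stalkIdeal (Scheme.IdealSheafData.vanishingIdeal ⟨closure {p}, isClosed_closure⟩) p =
      maximalIdeal (X.presheaf.stalk p) := by
  rw [stalkIdeal_vanishingIdeal_closure (specializes_rfl (x := p)), TopCat.Presheaf.stalkSpecializes_refl]
  exact Ideal.comap_id _

theorem isEffCartierIdeal_prime [IsLocallyNoetherian X]
    (hreg : ∀ x : X, IsRegularLocalRing (X.presheaf.stalk x)) {p : X} (hp : p ≠ genericPoint X)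
    (hd : ringKrullDim (X.presheaf.stalk p) < 2) :
    BlowUp.IsEffCartierIdeal (Scheme.IdealSheafData.vanishingIdeal ⟨closure {p}, isClosed_closure⟩) := by
  refine Groth.Divisors.isEffCartierIdeal_of_stalk _ fun x hx U hxU => ?_
  have hpx : p ⤳ x := by
    rw [← SetLike.mem_coe, Scheme.IdealSheafData.coe_support_vanishingIdeal] at hx
    exact specializes_iff_mem_closure.2 hx
  rw [← Groth.ParaFormal.stalkIdeal_eq _ U hxU, stalkIdeal_vanishingIdeal_closure hpx]
  haveI := hreg x
  haveI := Groth.PicAux.ufd_of_isRegularLocalRing (X.presheaf.stalk x)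
  set P := (maximalIdeal (X.presheaf.stalk p)).comap (X.presheaf.stalkSpecializes hpx).hom
  have hP : P.IsPrime := Ideal.comap_isPrime _ _
  have hne : P ≠ ⊥ := fun h0 => hp (by
    have hg := (genericPoint_spec X).specializes (Set.mem_univ p)
    refine (FactorBlowUp.eq_of_comap_eq_maximal hg ?_).symm
    refine le_antisymm (le_maximalIdeal Ideal.IsPrime.ne_top') fun r hr => ?_
    have hf : maximalIdeal (X.presheaf.stalk p) = ⊥ := by
      rw [← stalkIdeal_closure_self p, ← Groth.ParaFormal.stalkIdeal_spec _ hpx,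
        stalkIdeal_vanishingIdeal_closure hpx]
      exact (congrArg (Ideal.map _) h0).trans Ideal.map_bot
    rw [hf, Ideal.mem_bot] at hr
    rw [hr]
    exact zero_mem _)
  obtain ⟨q, hqP, hq⟩ := hP.exists_mem_prime_of_ne_bot hne
  refine ⟨q, mem_nonZeroDivisors_of_ne_zero hq.ne_zero, ?_⟩
  refine le_antisymm (fun r hr => ?_) ((Ideal.span_singleton_le_iff_mem P).2 hqP)
  by_contra hno
  haveI : (Ideal.span {q}).IsPrime := (Ideal.span_singleton_prime hq.ne_zero).2 hq
  obtain ⟨z, hzx, hz⟩ := Groth.ParaFormal.exists_spec_comap_eq x (Ideal.span {q})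
  have hzp : z ⤳ p := by
    obtain ⟨W, hxW, -⟩ := Groth.Divisors.exists_affine_le x ⊤ trivial
    have hzW := hzx.mem_open W.1.2 hxW
    have hpW := hpx.mem_open W.1.2 hxW
    have h1 : (W.2.primeIdealOf ⟨z, hzW⟩).asIdeal ≤ (W.2.primeIdealOf ⟨p, hpW⟩).asIdeal := by
      rw [← Groth.ParaFormal.comap_maximal_eq W.2 hzW, ← Groth.ParaFormal.comap_maximal_eq W.2 hpW,
        ← Groth.ParaFormal.germ_comp_spec hzx hxW, ← Groth.ParaFormal.germ_comp_spec hpx hxW,
        ← Ideal.comap_comap, ← Ideal.comap_comap, hz]
      exact Ideal.comap_mono ((Ideal.span_singleton_le_iff_mem P).2 hqP)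
    have h2 := ((PrimeSpectrum.le_iff_specializes _ _).1 h1).map W.2.fromSpec.continuous
    rwa [W.2.fromSpec_primeIdealOf, W.2.fromSpec_primeIdealOf] at h2
  refine (two_le_dim_of_chain hzp ?_ ?_).not_gt hd
  · intro e
    subst e
    exact hno (hz ▸ hr)
  · intro e
    subst e
    have : q ∈ (maximalIdeal X.functionField).comap (X.presheaf.stalkSpecializes hzx).hom :=
      hz.symm ▸ Ideal.mem_span_singleton_self q
    rw [Ideal.mem_comap, show maximalIdeal X.functionField = ⊥ from
      IsLocalRing.maximalIdeal_eq_bot, Ideal.mem_bot] at this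
    exact hq.ne_zero (IsFractionRing.injective (X.presheaf.stalk x) X.functionField
      (this.trans (map_zero _).symm))

variable [AlgebraicGeometry.IsNoetherian X]

/-- Points of codimension one in the support. -/
def bad (I : X.IdealSheafData) : Set X := {p | p ∈ I.support ∧ ringKrullDim (X.presheaf.stalk p) < 2}

theorem eq_of_specializes {I : X.IdealSheafData} (hI : I ≠ ⊥) {p z : X} (hp : p ∈ bad I)
    (hz : z ∈ I.support) (h : z ⤳ p) : z = p := by
  by_contra hne
  exact (two_le_dim_of_chain h hne fun e => genericPoint_notMem hI (e ▸ hz)).not_gt hp.2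

theorem finite_bad {I : X.IdealSheafData} (hI : I ≠ ⊥) : (bad I).Finite := by
  obtain ⟨S, hSfin, hSc, hSirr, hS⟩ := NoetherianSpace.exists_finite_set_isClosed_irreducible I.support.isClosed
  choose gp hgp using fun s : S => QuasiSober.sober (hSirr s s.2) (hSc s s.2)
  haveI := hSfin.to_subtype
  refine (Set.finite_range gp).subset fun p hp => ?_
  obtain ⟨s, hs, hps⟩ := hS.subset hp.1
  exact ⟨⟨s, hs⟩, eq_of_specializes hI hp (hS.symm.subset ⟨s, hs, (hgp ⟨s, hs⟩).mem⟩) ((hgp ⟨s, hs⟩).specializes hps)⟩

theorem good_of_bad_empty (hreg : ∀ x : X, IsRegularLocalRing (X.presheaf.stalk x))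
    (hdim : topologicalKrullDim X ≤ 2) {I : X.IdealSheafData} (h : bad I = ∅) :
    Principalization.Good I := by
  have h2 : ∀ x ∈ I.support, 2 ≤ ringKrullDim (X.presheaf.stalk x) := fun x hx =>
    not_lt.1 fun hlt => (h ▸ (⟨hx, hlt⟩ : x ∈ bad I) : x ∈ (∅ : Set X))
  have hcl : ∀ x ∈ I.support, IsClosed ({x} : Set X) := fun x hx =>
    Factorization.isClosed_of_dim_two hdim (h2 x hx)
  refine ⟨?_, hcl, fun x _ => hreg x,
    fun x hx => le_antisymm ((Groth.Duality.ringKrullDim_stalk_le x).trans hdim) (h2 x hx)⟩
  obtain ⟨S, hSfin, hSc, hSirr, hS⟩ := NoetherianSpace.exists_finite_set_isClosed_irreducible I.support.isClosed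
  rw [hS]
  refine hSfin.sUnion fun s hs => ?_
  obtain ⟨w, hw⟩ := QuasiSober.sober (hSirr s hs) (hSc s hs)
  rw [← hw.def, (hcl w (hS.symm.subset ⟨s, hs, hw.mem⟩)).closure_eq]
  exact Set.finite_singleton w

theorem cast_col_bad (hreg : ∀ x : X, IsRegularLocalRing (X.presheaf.stalk x)) {I : X.IdealSheafData}
    (hI : I ≠ ⊥) {p : X} (hp : p ∈ bad I) :
    (Principalization.col I p : ℕ∞) =
      Module.length (X.presheaf.stalk p) (X.presheaf.stalk p ⧸ stalkIdeal I p) := by
  haveI := hreg p
  obtain ⟨n, hn⟩ := Principalization.exists_pow_le (I := I) (x := p) fun z hz h => eq_of_specializes hI hp hz h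
  exact ENat.coe_toNat (Principalization.length_ne_top hn)

/-- The decomposition. -/
theorem exists_cartierPart (hreg : ∀ x : X, IsRegularLocalRing (X.presheaf.stalk x))
    (hdim : topologicalKrullDim X ≤ 2) {I : X.IdealSheafData} (hI : I ≠ ⊥) :
    ∃ (D J : X.IdealSheafData), BlowUp.IsEffCartierIdeal D ∧ I = J * D ∧ Principalization.Good J := by
  suffices H : ∀ n : ℕ, ∀ I : X.IdealSheafData, I ≠ ⊥ → ∑ᶠ p ∈ bad I, Principalization.col I p ≤ n →
      ∃ (D J : X.IdealSheafData), BlowUp.IsEffCartierIdeal D ∧ I = J * D ∧ Principalization.Good J from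
    H _ I hI le_rfl
  intro n
  induction n using Nat.strong_induction_on with
  | _ n ih =>
    intro I hI hn
    rcases (bad I).eq_empty_or_nonempty with h | ⟨p, hp⟩
    · refine ⟨⊤, I, Groth.Divisors.isEffCartierIdeal_top, ?_, good_of_bad_empty hreg hdim h⟩
      refine Groth.ParaFormal.idealSheaf_ext fun x => ?_
      rw [Principalization.stalkIdeal_mul, (Principalization.stalkIdeal_eq_top_iff ⊤ x).2
        (by rw [Scheme.IdealSheafData.support_top]; exact fun h => h), Ideal.mul_top]
    · have hpg : p ≠ genericPoint X := fun e => genericPoint_notMem hI (e ▸ hp.1)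
      set K := Scheme.IdealSheafData.vanishingIdeal (⟨closure {p}, isClosed_closure⟩ : Closeds X)
      have hK := isEffCartierIdeal_prime hreg hpg hp.2
      have hle : I ≤ K := Scheme.IdealSheafData.le_support_iff_le_vanishingIdeal.1 fun y hy =>
        (specializes_iff_mem_closure.2 hy).mem_closed I.support.isClosed hp.1
      obtain ⟨I', hI'⟩ := Groth.BlowUpBasics.exists_eq_mul_of_le hK hle
      have hstalk : ∀ z, stalkIdeal I z ≤ stalkIdeal I' z := fun z => by
        rw [hI', Principalization.stalkIdeal_mul]
        exact Ideal.mul_le_left (I := stalkIdeal I' z) (J := stalkIdeal K z)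
      have hI'0 : I' ≠ ⊥ := fun e => hI (le_bot_iff.1 (e ▸ Principalization.le_of_stalks hstalk))
      have hsupp : ∀ z, z ∈ I'.support → z ∈ I.support := fun z hz => by
        by_contra hno
        refine ((Principalization.stalkIdeal_eq_top_iff I' z).1 ?_) hz
        exact top_le_iff.1 (((Principalization.stalkIdeal_eq_top_iff I z).2 hno).ge.trans (hstalk z))
      have hsub : bad I' ⊆ bad I := fun z hz => ⟨hsupp z hz.1, hz.2⟩
      have hfin := finite_bad hI
      have hcle : ∀ z ∈ bad I, Principalization.col I' z ≤ Principalization.col I z := fun z hz => by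
        refine ENat.toNat_le_toNat ?_ ?_
        · rw [Module.length_quotient, Module.length_quotient]
          exact Order.coheight_anti (hstalk z)
        · rw [← cast_col_bad hreg hI hz]
          exact ENat.coe_ne_top _
      have hstrict : Principalization.col I' p < Principalization.col I p := by
        haveI := hreg p
        haveI : IsDomain (X.presheaf.stalk p) := Groth.Ega4Algebra1.isDomain_of_isRegularLocalRing _
        have hKp : stalkIdeal K p = maximalIdeal (X.presheaf.stalk p) := stalkIdeal_closure_self p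
        have hlt : stalkIdeal I p < stalkIdeal I' p := by
          refine lt_of_le_of_ne (hstalk p) fun e => ?_
          have h1 : stalkIdeal I' p ≤ maximalIdeal (X.presheaf.stalk p) • stalkIdeal I' p := by
            rw [smul_eq_mul, mul_comm, ← hKp, ← Principalization.stalkIdeal_mul, ← hI', e]
          have h0 : stalkIdeal I' p = ⊥ := Submodule.eq_bot_of_le_smul_of_le_jacobson_bot _ _
            (Ideal.fg_of_isNoetherianRing _) h1 (maximalIdeal_le_jacobson _)
          obtain ⟨m, hm⟩ := Principalization.exists_pow_le (I := I) (x := p)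
            fun z hz h => eq_of_specializes hI hp hz h
          rw [e, h0, le_bot_iff] at hm
          have hmb : maximalIdeal (X.presheaf.stalk p) = ⊥ :=
            bot_unique fun r hr => (Ideal.mem_bot).2
              (pow_eq_zero_iff'.1 ((Ideal.mem_bot).1 (hm ▸ Ideal.pow_mem_pow hr m))).1
          refine hpg (FactorBlowUp.eq_of_comap_eq_maximal
            ((genericPoint_spec X).specializes (Set.mem_univ p)) ?_).symm
          exact le_antisymm (le_maximalIdeal Ideal.IsPrime.ne_top') (hmb.le.trans bot_le)
        rw [← Nat.cast_lt (α := ℕ∞), cast_col_bad hreg hI hp]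
        refine lt_of_le_of_lt (ENat.coe_toNat_le_self _) ?_
        rw [Module.length_quotient, Module.length_quotient]
        refine Order.coheight_strictAnti hlt (lt_of_le_of_lt (Order.coheight_anti hlt.le) ?_)
        rw [← Module.length_quotient (M := X.presheaf.stalk p), ← cast_col_bad hreg hI hp]
        exact ENat.coe_lt_top _
      have hsum : ∑ᶠ z ∈ bad I', Principalization.col I' z < n := by
        refine lt_of_le_of_lt (b := ∑ᶠ z ∈ bad I, Principalization.col I' z) ?_ (lt_of_lt_of_le ?_ hn)
        · rw [finsum_mem_eq_finite_toFinset_sum _ (hfin.subset hsub), finsum_mem_eq_finite_toFinset_sum _ hfin]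
          exact Finset.sum_le_sum_of_subset (Set.Finite.toFinset_subset_toFinset.2 hsub)
        · rw [finsum_mem_eq_finite_toFinset_sum _ hfin, finsum_mem_eq_finite_toFinset_sum _ hfin]
          exact Finset.sum_lt_sum (fun z hz => hcle z (hfin.mem_toFinset.1 hz))
            ⟨p, hfin.mem_toFinset.2 hp, hstrict⟩
      obtain ⟨D, J, hD, hJ, hG⟩ := ih _ hsum I' hI'0 le_rfl
      refine ⟨D * K, J, Groth.Divisors.isEffCartierIdeal_mul hD hK, ?_, hG⟩
      rw [hI', hJ, mul_assoc]

end Groth.ArSurfBasics.CartierPart
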