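import Mathlib.AlgebraicGeometry.Properties
import Mathlib.Topology.KrullDimension
import Mathlib.Topology.Sober

/-!
Chains of specializations bound the topological Krull dimension from below.
-/

set_option autoImplicit false

universe u

open TopologicalSpace

namespace Groth.ArSurfBasics

variable {α : Type*} [TopologicalSpace α] [T0Space α]

theorem closureSingleton_lt {a b : α} (h : a ⤳ b) (hne : a ≠ b) :
    (⟨closure {b}, isIrreducible_singleton.closure, isClosed_closure⟩ : IrreducibleCloseds α) <
      ⟨closure {a}, isIrreducible_singleton.closure, isClosed_closure⟩ := by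
  refine lt_of_le_not_ge (specializes_iff_closure_subset.1 h) fun hle => hne ?_
  exact h.antisymm (specializes_iff_closure_subset.2 hle) |>.eq

theorem three_le_topologicalKrullDim {a b c d : α} (h₁ : a ⤳ b) (n₁ : a ≠ b) (h₂ : b ⤳ c)
    (n₂ : b ≠ c) (h₃ : c ⤳ d) (n₃ : c ≠ d) : (3 : WithBot ℕ∞) ≤ topologicalKrullDim α := by
  let s := (((RelSeries.singleton {(x, y) : IrreducibleCloseds α × IrreducibleCloseds α | x < y}
    ⟨closure {d}, isIrreducible_singleton.closure, isClosed_closure⟩).snoc
      ⟨closure {c}, isIrreducible_singleton.closure, isClosed_closure⟩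
      (closureSingleton_lt h₃ n₃)).snoc
      ⟨closure {b}, isIrreducible_singleton.closure, isClosed_closure⟩
      (by simpa using closureSingleton_lt h₂ n₂)).snoc
      ⟨closure {a}, isIrreducible_singleton.closure, isClosed_closure⟩
      (by simpa using closureSingleton_lt h₁ n₁)
  exact Order.LTSeries.length_le_krullDim s

theorem two_le_topologicalKrullDim {a b c : α} (h₁ : a ⤳ b) (n₁ : a ≠ b) (h₂ : b ⤳ c)
    (n₂ : b ≠ c) : (2 : WithBot ℕ∞) ≤ topologicalKrullDim α := by
  let s := ((RelSeries.singleton {(x, y) : IrreducibleCloseds α × IrreducibleCloseds α | x < y}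
    ⟨closure {c}, isIrreducible_singleton.closure, isClosed_closure⟩).snoc
      ⟨closure {b}, isIrreducible_singleton.closure, isClosed_closure⟩
      (closureSingleton_lt h₂ n₂)).snoc
      ⟨closure {a}, isIrreducible_singleton.closure, isClosed_closure⟩
      (by simpa using closureSingleton_lt h₁ n₁)
  exact Order.LTSeries.length_le_krullDim s

/-- An irreducible closed set of positive dimension is not a singleton. -/
theorem exists_ne_of_dim_one {D : Set α} (hD : topologicalKrullDim D = 1) (x : α) :
    ∃ w ∈ D, w ≠ x := by
  by_contra! h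
  haveI : Subsingleton D := ⟨fun a b => Subtype.ext ((h _ a.2).trans (h _ b.2).symm)⟩
  haveI : Subsingleton (IrreducibleCloseds D) := ⟨fun a b => IrreducibleCloseds.ext <| by
    obtain ⟨p, hp⟩ := a.isIrreducible.nonempty
    obtain ⟨q, hq⟩ := b.isIrreducible.nonempty
    ext r
    exact ⟨fun _ => Subsingleton.elim q r ▸ hq, fun _ => Subsingleton.elim p r ▸ hp⟩⟩
  have h0 := Order.krullDim_nonpos_of_subsingleton (α := IrreducibleCloseds D)
  rw [topologicalKrullDim] at hD
  rw [hD] at h0
  exact absurd h0 (by decide)

end Groth.ArSurfBasics
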