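import Groth.Agent.ArSurfBasics.Fibre
import Groth.Agent.ArSurfBasics.Chains
import Groth.Agent.PropsBasic2.Reduced

/-!
A component of the closed fibre with two points carries a vertical prime divisor.
-/

set_option autoImplicit false
set_option backward.isDefEq.respectTransparency.types false

universe u

open CategoryTheory CategoryTheory.Limits AlgebraicGeometry TopologicalSpace

namespace Groth.ArSurfBasics

variable {R : Type u} [CommRing R] [IsDomain R] [IsDiscreteValuationRing R]
  {X : Over (Spec (CommRingCat.of R))}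

/-- A generization of a point of the closed fibre lying outside the closed fibre. -/
theorem exists_generic_generization [Flat X.hom] {x : X.left} (hx : x ∈ Models.specialFibreSet R X) :
    ∃ g, g ⤳ x ∧ g ∉ Models.specialFibreSet R X := by
  obtain ⟨g, hg, hgb⟩ := Flat.generalizingMap X.hom
    (show (⟨⊥, Ideal.isPrime_bot⟩ : PrimeSpectrum R) ⤳ X.hom x from
      (PrimeSpectrum.le_iff_specializes _ _).1 bot_le)
  refine ⟨g, hg, fun h => ?_⟩
  have h' : X.hom g = IsLocalRing.closedPoint R := h
  rw [hgb] at h'
  exact IsDiscreteValuationRing.not_a_field R (congrArg PrimeSpectrum.asIdeal h').symm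

/-- On a flat scheme of dimension at most two there is no chain of three points in the closed fibre. -/
theorem no_chain_in_fibre [Flat X.hom] (hdim : topologicalKrullDim X.left = 2) {a b c : X.left}
    (ha : a ∈ Models.specialFibreSet R X) (h₁ : a ⤳ b) (n₁ : a ≠ b) (h₂ : b ⤳ c) (n₂ : b ≠ c) : False := by
  obtain ⟨g, hg, hgS⟩ := exists_generic_generization ha
  have h3 := three_le_topologicalKrullDim hg (fun e => hgS (e ▸ ha)) h₁ n₁ h₂ n₂
  rw [hdim] at h3
  exact absurd h3 (by decide)

omit [IsDomain R] [IsDiscreteValuationRing R] in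
theorem toSpecΓ_comp_toGlobal {Y : Scheme.{u}} (f : Y ⟶ Spec (CommRingCat.of R)) :
    Y.toSpecΓ ≫ Spec.map (CommRingCat.ofHom (show R →+* Γ(Y, ⊤) from Coh.toGlobal f)) = f := by
  rw [show CommRingCat.ofHom (show R →+* Γ(Y, ⊤) from Coh.toGlobal f) =
    (Scheme.ΓSpecIso (CommRingCat.of R)).inv ≫ f.appTop from rfl, Spec.map_comp, ← Category.assoc,
    ← Scheme.toSpecΓ_naturality, Category.assoc]
  simp

theorem exists_vertComp [Flat X.hom] (hdim : topologicalKrullDim X.left = 2)
    {Z : Set X.left} (hZ : Z ∈ Models.fibreComponents R X) {a b : X.left} (ha : a ∈ Z) (hb : b ∈ Z)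
    (hab : a ≠ b) : ∃ G : ArSurf.VertComp R X, Set.range G.ι.base = Z := by
  have hcl : IsClosed Z := isClosed_of_closure_subset
    (hZ.2 ⟨hZ.1.1.closure, closure_minimal hZ.1.2 (Models.isClosed_specialFibreSet R X)⟩ subset_closure)
  let C : Closeds X.left := ⟨Z, hcl⟩
  let J := Scheme.IdealSheafData.vanishingIdeal C
  haveI : IsReduced J.subscheme := Groth.PropsBasic2.isReduced_vanishingIdeal_subscheme C
  have hr : Set.range J.subschemeι = Z := Groth.PropsBasic2.range_vanishingIdeal_subschemeι C
  have hemb := J.subschemeι.isClosedEmbedding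
  haveI : IrreducibleSpace J.subscheme := by
    rw [irreducibleSpace_def]
    obtain ⟨z, hz⟩ : ∃ z, J.subschemeι z = hZ.1.1.genericPoint := by
      have hg := hZ.1.1.isGenericPoint_genericPoint_closure
      rw [hcl.closure_eq] at hg
      exact (hr.symm ▸ hg.mem : hZ.1.1.genericPoint ∈ Set.range J.subschemeι)
    show IsIrreducible (Set.univ : Set J.subscheme)
    have : (Set.univ : Set J.subscheme) = closure {z} := by
      refine (Set.eq_univ_of_forall fun w => ?_).symm
      rw [← specializes_iff_mem_closure, ← hemb.isInducing.specializes_iff, hz]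
      have hg := hZ.1.1.isGenericPoint_genericPoint_closure
      exact hg.specializes (subset_closure (hr ▸ Set.mem_range_self w))
    rw [this]
    exact isIrreducible_singleton.closure
  haveI : IsIntegral J.subscheme := isIntegral_of_irreducibleSpace_of_isReduced _
  -- the structure map factors through the residue field
  let φ : R →+* Γ(J.subscheme, ⊤) := Coh.toGlobal (J.subschemeι ≫ X.hom)
  have hφ : IsLocalRing.maximalIdeal R ≤ RingHom.ker φ := fun π hπ => by
    rw [RingHom.mem_ker]
    refine ((basicOpen_eq_bot_iff _).1 (Opens.ext (Set.eq_empty_iff_forall_notMem.2 fun w hw => ?_)))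
    change w ∈ J.subscheme.basicOpen ((J.subschemeι ≫ X.hom).appTop
      ((Scheme.ΓSpecIso (CommRingCat.of R)).inv π)) at hw
    rw [← Scheme.preimage_basicOpen_top, basicOpen_eq_of_affine'] at hw
    simp only [Iso.inv_hom_id_apply] at hw
    have h1 : (J.subschemeι ≫ X.hom) w = IsLocalRing.closedPoint R := hZ.1.2 (hr ▸ Set.mem_range_self w)
    have h2 : π ∉ ((J.subschemeι ≫ X.hom) w).asIdeal := hw
    rw [h1] at h2
    exact h2 hπ
  let hom : J.subscheme ⟶ Spec (CommRingCat.of (IsLocalRing.ResidueField R)) :=
    J.subscheme.toSpecΓ ≫ Spec.map (CommRingCat.ofHom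
      (Ideal.Quotient.lift (IsLocalRing.maximalIdeal R) φ fun π hπ => hφ hπ))
  have w : J.subschemeι ≫ X.hom = hom ≫ Spec.map (CommRingCat.ofHom (IsLocalRing.residue R)) := by
    have h3 : J.subscheme.toSpecΓ ≫ Spec.map (CommRingCat.ofHom φ) = J.subschemeι ≫ X.hom :=
      toSpecΓ_comp_toGlobal (J.subschemeι ≫ X.hom)
    rw [Category.assoc, ← Spec.map_comp]
    refine h3.symm.trans ?_
    rfl
  have hS : ∀ v : J.subscheme, J.subschemeι v ∈ Models.specialFibreSet R X := fun v =>
    hZ.1.2 (hr ▸ Set.mem_range_self v)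
  refine ⟨⟨Over.mk hom, J.subschemeι, inferInstance, inferInstanceAs (IsIntegral J.subscheme), ?_, w⟩, hr⟩
  change topologicalKrullDim J.subscheme = 1
  refine le_antisymm ?_ ?_
  · refine iSup_le fun p => ?_
    by_contra hp
    have hp2 : 2 ≤ p.length := by
      by_contra hlt
      exact hp (by exact_mod_cast Nat.le_of_lt_succ (Nat.lt_of_not_ge hlt))
    -- generic points of the first three terms
    have key : ∀ i : Fin (p.length + 1), ∃ q : J.subscheme, IsGenericPoint q (p i : Set J.subscheme) :=
      fun i => QuasiSober.sober (p i).isIrreducible (p i).isClosed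
    choose q hq using key
    have hsp : ∀ i j, i < j → q j ⤳ q i ∧ q j ≠ q i := fun i j hij => by
      have hlt : (p i : Set J.subscheme) ⊂ p j := SetLike.coe_ssubset_coe.2 (p.strictMono hij)
      refine ⟨(hq j).specializes (hlt.1 (hq i).mem), fun e => hlt.ne ?_⟩
      rw [← (hq i).def, ← (hq j).def, e]
    obtain ⟨h1, n1⟩ := hsp ⟨1, by omega⟩ ⟨2, by omega⟩ (by simp [Fin.lt_def])
    obtain ⟨h0, n0⟩ := hsp ⟨0, by omega⟩ ⟨1, by omega⟩ (by simp [Fin.lt_def])
    exact no_chain_in_fibre hdim (hS _) (h1.map J.subschemeι.continuous)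
      (fun e => n1 (hemb.injective e)) (h0.map J.subschemeι.continuous) (fun e => n0 (hemb.injective e))
  · obtain ⟨a', rfl⟩ : a ∈ Set.range J.subschemeι := hr ▸ ha
    obtain ⟨b', rfl⟩ : b ∈ Set.range J.subschemeι := hr ▸ hb
    have hne : a' ≠ b' := fun e => hab (e ▸ rfl)
    obtain ⟨c, hc, hcg⟩ : ∃ c, c ≠ genericPoint J.subscheme ∧ genericPoint J.subscheme ⤳ c := by
      by_cases h : a' = genericPoint J.subscheme
      · exact ⟨b', fun e => hne (h.trans e.symm), genericPoint_specializes _⟩
      · exact ⟨a', h, genericPoint_specializes _⟩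
    let s := (RelSeries.singleton {(x, y) : IrreducibleCloseds J.subscheme × IrreducibleCloseds J.subscheme | x < y}
      ⟨closure {c}, isIrreducible_singleton.closure, isClosed_closure⟩).snoc
      ⟨closure {genericPoint J.subscheme}, isIrreducible_singleton.closure, isClosed_closure⟩
      (closureSingleton_lt hcg hc.symm)
    exact Order.LTSeries.length_le_krullDim s

end Groth.ArSurfBasics
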