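import Groth.Agent.Hensel1.QFSplit
import Mathlib.RingTheory.ZariskisMainTheorem
import Mathlib.RingTheory.Ideal.GoingUp
import Mathlib.RingTheory.Spectrum.Prime.RingHom
import Mathlib.RingTheory.KrullDimension.Basic

/-!
A hypersurface isolated in the closed fibre is finite over a henselian base after one localisation.
(Adapted from `Groth.Agent.ModelsGraphs.TransversalDivisor`, kept apart for a small import closure.)
-/

set_option autoImplicit false

universe u

namespace Groth.ArSurfBasics.HenDiv

theorem exists_finite_away (R A : Type u) [CommRing R] [HenselianLocalRing R] [CommRing A] [Algebra R A]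
    [Algebra.FiniteType R A] (s : A) (P : Ideal A) [P.IsPrime] (hs : s ∈ P)
    (hPR : P.comap (algebraMap R A) = IsLocalRing.maximalIdeal R)
    (hfib : ∀ Q : Ideal A, Q.IsPrime → s ∈ Q →
      Q.comap (algebraMap R A) = IsLocalRing.maximalIdeal R → Q = P) :
    ∃ f : A, f ∉ P ∧ ∀ (A' : Type u) [CommRing A'] [Algebra A A'] [Algebra R A']
      [IsScalarTower R A A'] [IsLocalization.Away f A'],
      Module.Finite R (A' ⧸ Ideal.span {algebraMap A A' s}) := by
  let B := A ⧸ Ideal.span {s}
  let mk : A →+* B := Ideal.Quotient.mk _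
  have hle : Ideal.span {s} ≤ P := (Ideal.span_singleton_le_iff_mem _).2 hs
  let q : Ideal B := P.map mk
  have hcq : q.comap mk = P := by
    rw [Ideal.comap_map_of_surjective' mk Ideal.Quotient.mk_surjective, Ideal.mk_ker,
      sup_eq_left.2 hle]
  haveI : q.IsPrime := Ideal.map_isPrime_of_surjective Ideal.Quotient.mk_surjective
    (by rwa [Ideal.mk_ker])
  haveI : q.LiesOver (IsLocalRing.maximalIdeal R) := ⟨by
    change _ = q.comap (algebraMap R B)
    rw [show algebraMap R B = mk.comp (algebraMap R A) from rfl, ← Ideal.comap_comap, hcq, hPR]⟩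
  haveI : Algebra.QuasiFiniteAt R q := by
    refine Algebra.QuasiFiniteAt.of_isOpen_singleton_fiber ⟨q, inferInstance⟩ ?_
    convert isOpen_univ
    refine Set.eq_univ_of_forall fun ⟨Q, hQ⟩ => Subtype.ext (PrimeSpectrum.ext ?_)
    have h1 : Q.asIdeal.comap (algebraMap R B) = IsLocalRing.maximalIdeal R := by
      rw [Set.mem_preimage, Set.mem_singleton_iff] at hQ
      exact (congrArg PrimeSpectrum.asIdeal hQ).trans (q.over_def (IsLocalRing.maximalIdeal R)).symm
    have h2 : Q.asIdeal.comap mk = P := hfib _ inferInstance (by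
      rw [Ideal.mem_comap, show mk s = 0 from
        Ideal.Quotient.eq_zero_iff_mem.2 (Ideal.mem_span_singleton_self s)]
      exact Q.asIdeal.zero_mem) (by rw [Ideal.comap_comap]; exact h1)
    change Q.asIdeal = q
    rw [← Ideal.map_comap_of_surjective mk Ideal.Quotient.mk_surjective Q.asIdeal, h2]
  obtain ⟨e, heq, ⟨he, hefg⟩, -⟩ := Groth.Hensel1.exists_idempotent_of_quasiFiniteAt (R := R) q
  haveI : Module.Finite R (B ⧸ Ideal.span {1 - e}) := Groth.Hensel1.FGIdem.finite ⟨he, hefg⟩
  obtain ⟨f, rfl⟩ := Ideal.Quotient.mk_surjective e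
  refine ⟨f, fun hf => heq (Ideal.mem_map_of_mem mk hf), fun A' _ _ _ _ _ => ?_⟩
  let B' := A' ⧸ Ideal.span {algebraMap A A' s}
  let φ : B →ₐ[R] B' := Ideal.Quotient.liftₐ _
    ((Ideal.Quotient.mkₐ R _).comp (IsScalarTower.toAlgHom R A A')) fun a ha => by
      obtain ⟨c, rfl⟩ := Ideal.mem_span_singleton.1 ha
      change Ideal.Quotient.mk _ (algebraMap A A' (s * c)) = 0
      rw [map_mul, Ideal.Quotient.eq_zero_iff_mem]
      exact Ideal.mul_mem_right _ _ (Ideal.mem_span_singleton_self _)
  have hfu : IsUnit (φ (mk f)) :=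
    (IsLocalization.Away.algebraMap_isUnit (S := A') f).map (Ideal.Quotient.mk _)
  have hf1 : φ (mk f) = 1 := by
    refine hfu.mul_left_cancel ?_
    rw [mul_one, ← map_mul]
    exact congrArg φ he.eq
  let ψ : (B ⧸ Ideal.span {1 - mk f}) →ₐ[R] B' := Ideal.Quotient.liftₐ _ φ fun a ha => by
    obtain ⟨c, rfl⟩ := Ideal.mem_span_singleton.1 ha
    rw [map_mul, map_sub, map_one, hf1, sub_self, zero_mul]
  have hψ : Function.Surjective ψ := by
    intro b
    obtain ⟨b, rfl⟩ := Ideal.Quotient.mk_surjective b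
    obtain ⟨⟨a, ⟨_, n, rfl⟩⟩, hab⟩ := IsLocalization.surj (Submonoid.powers f) b
    refine ⟨Ideal.Quotient.mk _ (mk a), ?_⟩
    have h := congrArg (Ideal.Quotient.mk (Ideal.span {algebraMap A A' s})) hab
    rw [map_mul, map_pow, map_pow,
      show Ideal.Quotient.mk (Ideal.span {algebraMap A A' s}) (algebraMap A A' f) = 1 from hf1,
      one_pow, mul_one] at h
    exact h.symm
  exact Module.Finite.of_surjective ψ.toLinearMap hψ

theorem ringKrullDim_le_of_isIntegral (R S : Type u) [CommRing R] [CommRing S] [Algebra R S]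
    [Algebra.IsIntegral R S] : ringKrullDim S ≤ ringKrullDim R :=
  Order.krullDim_le_of_strictMono (PrimeSpectrum.comap (algebraMap R S)) fun a b hab =>
    Ideal.IsIntegral.comap_lt_comap (I := a.asIdeal) (J := b.asIdeal) hab

end Groth.ArSurfBasics.HenDiv
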