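import Groth.Prelude.Def_ModelsG
import Groth.Prelude.Def_BlowUp2
import Groth.Agent.ArSurfBasics.CompVert
import Groth.Agent.ArSurfBasics.HenselHyper
import Mathlib.RingTheory.Ideal.KrullsHeightTheorem
import Mathlib.AlgebraicGeometry.Morphisms.Finite

/-!
Horizontal divisors through a closed point of the closed fibre over a henselian DVR.
-/

set_option autoImplicit false
set_option backward.isDefEq.respectTransparency.types false

universe u

open CategoryTheory CategoryTheory.Limits AlgebraicGeometry TopologicalSpace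

namespace Groth.ArSurfBasics.HenDiv

variable {R : Type u} [CommRing R] {Y : Scheme.{u}}

/-- The structure map on sections over an open subset. -/
noncomputable def psi (f : Y ⟶ Spec (CommRingCat.of R)) (U : Y.Opens) : R →+* Γ(Y, U) :=
  ((Scheme.ΓSpecIso (CommRingCat.of R)).inv ≫ f.appLE ⊤ U le_top).hom

theorem fromSpec_comp (f : Y ⟶ Spec (CommRingCat.of R)) {U : Y.Opens} (hU : IsAffineOpen U) :
    hU.fromSpec ≫ f = Spec.map (CommRingCat.ofHom (psi f U)) := by
  have h1 := (isAffineOpen_top _).SpecMap_appLE_fromSpec f hU (le_top : U ≤ f ⁻¹ᵁ ⊤)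
  rw [← h1]
  erw [IsAffineOpen.fromSpec_top, Scheme.isoSpec_Spec_inv]
  rw [← Spec.map_comp]
  rfl

theorem finiteType_psi (f : Y ⟶ Spec (CommRingCat.of R)) [LocallyOfFiniteType f] {U : Y.Opens}
    (hU : IsAffineOpen U) : (psi f U).FiniteType := by
  have h1 := f.finiteType_appLE (isAffineOpen_top _) hU (le_top : U ≤ f ⁻¹ᵁ ⊤)
  have h2 : ((Scheme.ΓSpecIso (CommRingCat.of R)).inv.hom).FiniteType :=
    RingHom.FiniteType.of_surjective _ (ConcreteCategory.bijective_of_isIso _).2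
  exact h1.comp h2

theorem psi_res (f : Y ⟶ Spec (CommRingCat.of R)) {U V : Y.Opens} (h : V ≤ U) (r : R) :
    psi f V r = Y.presheaf.map (homOfLE h).op (psi f U r) :=
  (congrArg (fun e => e.hom ((Scheme.ΓSpecIso (CommRingCat.of R)).inv r))
    (f.appLE_map (le_top : U ≤ f ⁻¹ᵁ ⊤) (homOfLE h).op)).symm

theorem comap_primeIdealOf [IsLocalRing R] (f : Y ⟶ Spec (CommRingCat.of R)) {U : Y.Opens}
    (hU : IsAffineOpen U) (Q : PrimeSpectrum Γ(Y, U)) :
    Q.asIdeal.comap (psi f U) = IsLocalRing.maximalIdeal R ↔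
      f (hU.fromSpec Q) = IsLocalRing.closedPoint R := by
  have h : f (hU.fromSpec Q) = (Spec.map (CommRingCat.ofHom (psi f U))) Q := by
    rw [← Scheme.Hom.comp_apply, fromSpec_comp f hU]
  rw [h]
  exact ⟨fun e => PrimeSpectrum.ext e, fun e => congrArg PrimeSpectrum.asIdeal e⟩

theorem mem_basicOpen_fromSpec {U : Y.Opens} (hU : IsAffineOpen U) (s : Γ(Y, U))
    (Q : PrimeSpectrum Γ(Y, U)) : hU.fromSpec Q ∈ Y.basicOpen s ↔ s ∉ Q.asIdeal := by
  have h := hU.fromSpec_preimage_basicOpen s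
  exact (SetLike.ext_iff.1 h Q)

theorem fromSpec_mem {U : Y.Opens} (hU : IsAffineOpen U) (Q : PrimeSpectrum Γ(Y, U)) :
    hU.fromSpec Q ∈ U := by
  rw [← SetLike.mem_coe, ← hU.range_fromSpec]
  exact ⟨Q, rfl⟩

/-- A closed subset of an affine open all of whose points are closed is finite. -/
theorem finite_of_forall_closed [IsNoetherian Y] (U : Y.Opens) {C : Set Y} (hC : IsClosed C)
    (h : ∀ y ∈ C, y ∈ U → IsClosed ({y} : Set Y)) : (C ∩ (U : Set Y)).Finite := by
  obtain ⟨T, hT, hc, hi, hCT⟩ := NoetherianSpace.exists_finite_set_isClosed_irreducible hC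
  have hgen : ∀ Z ∈ T, ∃ g, IsGenericPoint g Z := fun Z hZ => QuasiSober.sober (hi Z hZ) (hc Z hZ)
  choose g hg using hgen
  refine ((hT.dependent_image fun Z hZ => g Z hZ)).subset ?_
  rintro y ⟨hy, hyU⟩
  obtain ⟨Z, hZ, hyZ⟩ := (hCT ▸ hy : y ∈ ⋃₀ T)
  have hgy : g Z hZ ⤳ y := (hg Z hZ).specializes hyZ
  have hgC : g Z hZ ∈ C := hCT ▸ Set.subset_sUnion_of_mem hZ (hg Z hZ).mem
  exact ⟨Z, hZ, (hgy.mem_closed (h _ hgC (hgy.mem_open U.2 hyU)) rfl).symm⟩

variable [IsDomain R] [IsDiscreteValuationRing R] [HenselianLocalRing R]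
  {X : Over (Spec (CommRingCat.of R))}

/-- A hypersurface isolated in the closed fibre becomes finite on a smaller affine neighbourhood. -/
theorem exists_finite_nhd [LocallyOfFiniteType X.hom] (U : X.left.affineOpens) {x : X.left}
    (hx : x ∈ U.1) (hxS : x ∈ Models.specialFibreSet R X) (s : Γ(X.left, U.1))
    (hxs : x ∉ X.left.basicOpen s)
    (hfib : ∀ y ∈ U.1, y ∈ Models.specialFibreSet R X → y ∉ X.left.basicOpen s → y = x) :
    ∃ (V : X.left.affineOpens) (hVU : V.1 ≤ U.1), x ∈ V.1 ∧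
      (letI := (psi X.hom V.1).toAlgebra
       Module.Finite R (Γ(X.left, V.1) ⧸ Ideal.span {X.left.presheaf.map (homOfLE hVU).op s})) := by
  set P := U.2.primeIdealOf ⟨x, hx⟩
  have hP : U.2.fromSpec P = x := U.2.fromSpec_primeIdealOf _
  letI : Algebra R Γ(X.left, U.1) := (psi X.hom U.1).toAlgebra
  haveI : Algebra.FiniteType R Γ(X.left, U.1) := finiteType_psi X.hom U.2
  obtain ⟨f, hf, hfin⟩ := exists_finite_away R Γ(X.left, U.1) s P.asIdeal
    (by_contra fun h => hxs (hP ▸ (mem_basicOpen_fromSpec U.2 s P).2 h))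
    ((comap_primeIdealOf X.hom U.2 P).2 (hP.symm ▸ hxS))
    (fun Q hQ hsQ hQR => by
      have h1 : U.2.fromSpec ⟨Q, hQ⟩ = x := hfib _ (fromSpec_mem U.2 _)
        ((comap_primeIdealOf X.hom U.2 ⟨Q, hQ⟩).1 hQR)
        fun h => (mem_basicOpen_fromSpec U.2 s _).1 h hsQ
      exact congrArg PrimeSpectrum.asIdeal (U.2.fromSpec.isOpenEmbedding.injective (h1.trans hP.symm)))
  refine ⟨⟨X.left.basicOpen f, U.2.basicOpen f⟩, X.left.basicOpen_le f,
    hP ▸ (mem_basicOpen_fromSpec U.2 f P).2 hf, ?_⟩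
  letI := (psi X.hom (X.left.basicOpen f)).toAlgebra
  haveI : IsLocalization.Away f Γ(X.left, X.left.basicOpen f) := U.2.isLocalization_basicOpen f
  haveI : IsScalarTower R Γ(X.left, U.1) Γ(X.left, X.left.basicOpen f) :=
    IsScalarTower.of_algebraMap_eq fun r => psi_res X.hom (X.left.basicOpen_le f) r
  exact hfin Γ(X.left, X.left.basicOpen f)

variable [IsIntegral X.left] [Flat X.hom] [IsProper X.hom]

/-- A closed point of the closed fibre of a fibred surface is not isolated in it. -/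
theorem exists_ne_generization (hdim : topologicalKrullDim X.left = 2) {x : X.left}
    (hx : IsClosed ({x} : Set X.left)) (hxS : x ∈ Models.specialFibreSet R X) :
    ∃ η ∈ Models.specialFibreSet R X, η ⤳ x ∧ η ≠ x := by
  by_contra! hno
  haveI : IsNoetherian X.left := isNoetherian_of_isProper
  obtain ⟨hfin, hex⟩ := maximal_irreducible_subsets (Models.isClosed_specialFibreSet R X)
  let F : Set (Set X.left) :=
    {Z | Maximal (fun T : Set X.left => IsIrreducible T ∧ T ⊆ Models.specialFibreSet R X) Z ∧ x ∉ Z}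
  have hclZ : ∀ Z, Maximal (fun T : Set X.left => IsIrreducible T ∧ T ⊆ Models.specialFibreSet R X) Z →
      IsClosed Z := fun Z hZ => isClosed_of_closure_subset
    (hZ.2 ⟨hZ.1.1.closure, closure_minimal hZ.1.2 (Models.isClosed_specialFibreSet R X)⟩ subset_closure)
  have hF : IsClosed (⋃₀ F) := by
    rw [Set.sUnion_eq_biUnion]
    exact (hfin.subset fun Z hZ => hZ.1).isClosed_biUnion fun Z hZ => hclZ Z hZ.1
  obtain ⟨_, ⟨U, hU, rfl⟩, hxU, hUF⟩ := X.left.isBasis_affineOpens.exists_subset_of_mem_open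
    (show x ∈ (⋃₀ F)ᶜ from fun ⟨Z, hZ, hxZ⟩ => hZ.2 hxZ) hF.isOpen_compl
  have hfib : ∀ y ∈ U, y ∈ Models.specialFibreSet R X → y = x := fun y hy hyS => by
    obtain ⟨Z, hyZ, hZ⟩ := hex {y} isIrreducible_singleton (Set.singleton_subset_iff.2 hyS)
    have hxZ : x ∈ Z := by_contra fun h => hUF hy ⟨Z, ⟨hZ, h⟩, hyZ rfl⟩
    have hg := hZ.1.1.isGenericPoint_genericPoint_closure
    rw [(hclZ Z hZ).closure_eq] at hg
    have hgx := hno _ (hZ.1.2 hg.mem) (hg.specializes hxZ)
    have hgy := hg.specializes (hyZ rfl)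
    rw [hgx] at hgy
    exact hgy.mem_closed hx rfl
  obtain ⟨V, hVU, hxV, hfinV⟩ := exists_finite_nhd ⟨U, hU⟩ hxU hxS (0 : Γ(X.left, U))
    (by simp) (fun y hy hyS _ => hfib y hy hyS)
  letI := (psi X.hom V.1).toAlgebra
  haveI hA : Module.Finite R Γ(X.left, V.1) := by
    rw [map_zero] at hfinV
    haveI := hfinV
    exact Module.Finite.equiv ((Ideal.quotientEquivAlgOfEq R (Ideal.span_singleton_eq_bot.2 rfl)).trans
      (AlgEquiv.quotientBot R Γ(X.left, V.1))).toLinearEquiv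
  haveI : IsFinite (V.2.fromSpec ≫ X.hom) := by
    rw [fromSpec_comp X.hom V.2, IsFinite.SpecMap_iff]
    exact RingHom.finite_algebraMap.2 hA
  haveI : IsProper V.2.fromSpec := IsProper.of_comp V.2.fromSpec X.hom
  have huniv : (V.1 : Set X.left) = Set.univ := by
    refine IsClopen.eq_univ ⟨?_, V.1.2⟩ ⟨x, hxV⟩
    rw [← V.2.range_fromSpec]
    exact V.2.fromSpec.isClosedMap.isClosed_range
  have hd : topologicalKrullDim (PrimeSpectrum Γ(X.left, V.1)) = topologicalKrullDim X.left :=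
    IsHomeomorph.topologicalKrullDim_eq _ ((isHomeomorph_iff_isEmbedding_surjective).2
      ⟨V.2.fromSpec.isOpenEmbedding.isEmbedding,
        Set.range_eq_univ.1 (V.2.range_fromSpec.trans huniv)⟩)
  rw [PrimeSpectrum.topologicalKrullDim_eq_ringKrullDim, hdim] at hd
  have h := (ringKrullDim_le_of_isIntegral R Γ(X.left, V.1)).trans_eq
    (IsPrincipalIdealRing.ringKrullDim_eq_one R (IsDiscreteValuationRing.not_isField R))
  rw [hd] at h
  exact absurd h (by decide)

/-- A local equation of a horizontal divisor through `x`. -/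
theorem exists_chart (hdim : topologicalKrullDim X.left = 2) {x : X.left}
    (hx : IsClosed ({x} : Set X.left)) (hxS : x ∈ Models.specialFibreSet R X) :
    ∃ (V : X.left.affineOpens) (s : Γ(X.left, V.1)), x ∈ V.1 ∧ x ∉ X.left.basicOpen s ∧ s ≠ 0 ∧
      (∀ y ∈ V.1, y ∈ Models.specialFibreSet R X → y ∉ X.left.basicOpen s → y = x) ∧
      (letI := (psi X.hom V.1).toAlgebra
       Module.Finite R (Γ(X.left, V.1) ⧸ Ideal.span {s})) := by
  classical
  haveI : IsNoetherian X.left := isNoetherian_of_isProper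
  obtain ⟨η, hηS, hηx, hηne⟩ := exists_ne_generization hdim hx hxS
  obtain ⟨hfin, hex⟩ := maximal_irreducible_subsets (Models.isClosed_specialFibreSet R X)
  obtain ⟨_, ⟨U₀, hU₀, rfl⟩, hxU₀, -⟩ :=
    X.left.isBasis_affineOpens.exists_subset_of_mem_open (Set.mem_univ x) isOpen_univ
  let G : Set X.left := {g | g ∈ U₀ ∧ g ∈ Models.specialFibreSet R X ∧
    ∀ z ∈ Models.specialFibreSet R X, z ⤳ g → z = g}
  have hcover : ∀ y ∈ U₀, y ∈ Models.specialFibreSet R X → ∃ g ∈ G, g ⤳ y := fun y hy hyS => by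
    obtain ⟨Z, hyZ, hZ⟩ := hex {y} isIrreducible_singleton (Set.singleton_subset_iff.2 hyS)
    have hg := hZ.1.1.isGenericPoint_genericPoint_closure
    have hgS : hZ.1.1.genericPoint ∈ Models.specialFibreSet R X :=
      closure_minimal hZ.1.2 (Models.isClosed_specialFibreSet R X) hg.mem
    have hgy := hg.specializes (subset_closure (hyZ rfl))
    refine ⟨_, ⟨hgy.mem_open U₀.2 hy, hgS, fun z hz hzg => ?_⟩, hgy⟩
    have hsub : Z ⊆ closure {z} := subset_closure.trans
      (hg.def.symm ▸ specializes_iff_closure_subset.1 hzg)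
    have h2 := hZ.2 ⟨isIrreducible_singleton.closure,
      closure_minimal (Set.singleton_subset_iff.2 hz) (Models.isClosed_specialFibreSet R X)⟩ hsub
    exact hzg.antisymm (hg.specializes (subset_closure (h2 (subset_closure rfl)))) |>.eq
  have hGfin : G.Finite := by
    refine (hfin.dependent_image fun Z hZ => hZ.1.1.genericPoint).subset fun g hg => ?_
    obtain ⟨Z, hgZ, hZ⟩ := hex {g} isIrreducible_singleton (Set.singleton_subset_iff.2 hg.2.1)
    have h := hZ.1.1.isGenericPoint_genericPoint_closure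
    exact ⟨Z, hZ, hg.2.2 _ (closure_minimal hZ.1.2 (Models.isClosed_specialFibreSet R X) h.mem)
      (h.specializes (subset_closure (hgZ rfl)))⟩
  have hxG : x ∉ G := fun h => hηne (h.2.2 η hηS hηx)
  obtain ⟨g₀, hg₀, hg₀η⟩ := hcover η (hηx.mem_open U₀.2 hxU₀) hηS
  have hg₀x : g₀ ⤳ x := hg₀η.trans hηx
  -- a function vanishing at `x` but at no generic point of the closed fibre
  set P := hU₀.primeIdealOf ⟨x, hxU₀⟩
  let Q : G → Ideal Γ(X.left, U₀) := fun g => (hU₀.primeIdealOf ⟨g.1, g.2.1⟩).asIdeal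
  haveI : Fintype G := hGfin.fintype
  obtain ⟨s, hsP, hsQ⟩ : ∃ s ∈ P.asIdeal, ∀ g, s ∉ Q g := by
    by_contra! h
    obtain ⟨g, -, hle⟩ := (Ideal.subset_union_prime (s := Finset.univ) (f := Q) ⟨g₀, hg₀⟩ ⟨g₀, hg₀⟩
      (fun g _ _ _ => (hU₀.primeIdealOf ⟨g.1, g.2.1⟩).isPrime) (I := P.asIdeal)).1 (fun a ha => by
        obtain ⟨g, hg⟩ := h a ha
        exact Set.mem_biUnion (Finset.mem_coe.2 (Finset.mem_univ g)) hg)
    have hsp := ((PrimeSpectrum.le_iff_specializes P (hU₀.primeIdealOf ⟨g.1, g.2.1⟩)).1 hle).map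
      hU₀.fromSpec.continuous
    rw [hU₀.fromSpec_primeIdealOf, hU₀.fromSpec_primeIdealOf] at hsp
    exact hxG ((hsp.mem_closed hx rfl : g.1 = x) ▸ g.2)
  have hxs : x ∉ X.left.basicOpen s := fun h => by
    have := (mem_basicOpen_fromSpec hU₀ s P).1 (by rw [hU₀.fromSpec_primeIdealOf]; exact h)
    exact this hsP
  have hGs : ∀ g ∈ G, g ∈ X.left.basicOpen s := fun g hg => by
    have := (mem_basicOpen_fromSpec hU₀ s (hU₀.primeIdealOf ⟨g, hg.1⟩)).2 (hsQ ⟨g, hg⟩)
    rwa [hU₀.fromSpec_primeIdealOf] at this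
  -- the zeros of `s` on the closed fibre are finitely many closed points
  let C : Set X.left := Models.specialFibreSet R X ∩ ((X.left.basicOpen s : Set X.left))ᶜ
  have hCcl : IsClosed C :=
    (Models.isClosed_specialFibreSet R X).inter (X.left.basicOpen s).2.isClosed_compl
  have hCpt : ∀ y ∈ C, y ∈ U₀ → IsClosed ({y} : Set X.left) := fun y hy hyU => by
    obtain ⟨g, hg, hgy⟩ := hcover y hyU hy.1
    have hne : g ≠ y := fun e => hy.2 (e ▸ hGs g hg)
    refine isClosed_of_closure_subset fun z hz => ?_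
    by_contra hzy
    exact no_chain_in_fibre hdim hg.2.1 hgy hne (specializes_iff_mem_closure.2 hz) (Ne.symm hzy)
  have hT : IsClosed ((C ∩ (U₀ : Set X.left)) \ {x}) := by
    rw [← Set.biUnion_of_singleton ((C ∩ (U₀ : Set X.left)) \ {x})]
    exact ((finite_of_forall_closed U₀ hCcl hCpt).subset Set.sdiff_subset).isClosed_biUnion
      fun y hy => hCpt y hy.1.1 hy.1.2
  obtain ⟨_, ⟨U₁, hU₁, rfl⟩, hxU₁, hU₁T⟩ := X.left.isBasis_affineOpens.exists_subset_of_mem_open
    (show x ∈ ((C ∩ (U₀ : Set X.left)) \ {x})ᶜ ∩ (U₀ : Set X.left) from ⟨fun h => h.2 rfl, hxU₀⟩)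
    (hT.isOpen_compl.inter U₀.2)
  have hle : U₁ ≤ U₀ := fun y hy => (hU₁T hy).2
  set s₁ := X.left.presheaf.map (homOfLE hle).op s with hs₁
  have hb : ∀ y ∈ U₁, (y ∈ X.left.basicOpen s₁ ↔ y ∈ X.left.basicOpen s) := fun y hy => by
    rw [hs₁, Scheme.basicOpen_res]
    exact ⟨fun h => h.2, fun h => ⟨hy, h⟩⟩
  have hfib : ∀ y ∈ U₁, y ∈ Models.specialFibreSet R X → y ∉ X.left.basicOpen s₁ → y = x :=
    fun y hy hyS hys => by
      by_contra hne
      exact (hU₁T hy).1 ⟨⟨⟨hyS, fun h => hys ((hb y hy).2 h)⟩, hle hy⟩, hne⟩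
  obtain ⟨V, hVU, hxV, hfinV⟩ := exists_finite_nhd ⟨U₁, hU₁⟩ hxU₁ hxS s₁
    (fun h => hxs ((hb x hxU₁).1 h)) hfib
  set sV := X.left.presheaf.map (homOfLE hVU).op s₁ with hsV
  have hb' : ∀ y ∈ V.1, (y ∈ X.left.basicOpen sV ↔ y ∈ X.left.basicOpen s₁) := fun y hy => by
    rw [hsV, Scheme.basicOpen_res]
    exact ⟨fun h => h.2, fun h => ⟨hy, h⟩⟩
  refine ⟨V, sV, hxV, fun h => hxs ((hb x hxU₁).1 ((hb' x hxV).1 h)), fun h0 => ?_,
    fun y hy hyS hys => hfib y (hVU hy) hyS fun h => hys ((hb' y hy).2 h), hfinV⟩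
  have hg₀V : g₀ ∈ V.1 := hg₀x.mem_open V.1.2 hxV
  have := (hb' g₀ hg₀V).2 ((hb g₀ (hVU hg₀V)).2 (hGs g₀ hg₀))
  rw [h0, Scheme.basicOpen_zero] at this
  exact this

/-- A horizontal effective Cartier divisor meeting the closed fibre exactly in `x`. -/
theorem exists_divisor (hdim : topologicalKrullDim X.left = 2) {x : X.left}
    (hx : IsClosed ({x} : Set X.left)) (hxS : x ∈ Models.specialFibreSet R X) :
    ∃ (D : Scheme.{u}) (d : D ⟶ X.left), IsClosedImmersion d ∧ BlowUp.IsEffCartierIdeal d.ker ∧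
      (∀ p : D, ∃ q : D, q ⤳ p ∧ ((d ≫ X.hom).base q).asIdeal = ⊥) ∧
      Set.range d.base ∩ Models.specialFibreSet R X = {x} := by
  haveI : IsNoetherian X.left := isNoetherian_of_isProper
  obtain ⟨U, s, hxU, hxs, hs0, hfib, hfin⟩ := exists_chart hdim hx hxS
  haveI : Nonempty U.1 := ⟨⟨x, hxU⟩⟩
  haveI := IsLocallyNoetherian.component_noetherian U
  letI := (psi X.hom U.1).toAlgebra
  haveI := hfin
  let A := Γ(X.left, U.1)
  let B := A ⧸ Ideal.span {s}
  let mk : CommRingCat.of A ⟶ CommRingCat.of B := CommRingCat.ofHom (Ideal.Quotient.mk _)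
  let e : Spec (CommRingCat.of B) ⟶ X.left := Spec.map mk ≫ U.2.fromSpec
  have hee : e ≫ X.hom = Spec.map (CommRingCat.ofHom (algebraMap R B)) := by
    rw [Category.assoc, fromSpec_comp X.hom U.2, ← Spec.map_comp]
    rfl
  haveI : IsFinite (e ≫ X.hom) := by
    rw [hee, IsFinite.SpecMap_iff]
    exact RingHom.finite_algebraMap.2 inferInstance
  haveI : IsProper e := IsProper.of_comp e X.hom
  haveI : IsClosedImmersion (Spec.map mk) :=
    IsClosedImmersion.spec_of_surjective _ Ideal.Quotient.mk_surjective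
  haveI : IsClosedImmersion e := by
    haveI : Mono e := mono_comp _ _
    exact (IsClosedImmersion.iff_isFinite_and_mono e).2 ⟨IsFinite.of_comp e X.hom, inferInstance⟩
  have hemb := e.isClosedEmbedding
  have hrange : Set.range e ⊆ (U.1 : Set X.left) := by
    rintro _ ⟨b, rfl⟩
    exact fromSpec_mem U.2 _
  have hIU : e.ker.ideal U = Ideal.span {s} := by
    rw [Scheme.Hom.ker_apply]
    have h1 : e.app U.1 = U.2.fromSpec.app U.1 ≫ (Spec.map mk).app (U.2.fromSpec ⁻¹ᵁ U.1) :=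
      Scheme.Hom.comp_app _ _ _
    rw [h1, IsAffineOpen.fromSpec_app_self]
    have h2 : ∀ (W : (Spec (CommRingCat.of A)).Opens) (hW : W = ⊤) (a : A),
        ((Scheme.ΓSpecIso (CommRingCat.of A)).inv ≫ (Spec (CommRingCat.of A)).presheaf.map
          (eqToHom hW).op ≫ (Spec.map mk).app W) a = 0 ↔ a ∈ Ideal.span {s} := by
      rintro W rfl a
      rw [eqToHom_refl, op_id, (Spec (CommRingCat.of A)).presheaf.map_id, Category.id_comp,
        ← Ideal.Quotient.eq_zero_iff_mem]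
      have h3 : (Scheme.ΓSpecIso (CommRingCat.of A)).inv ≫ (Spec.map mk).app ⊤ =
          mk ≫ (Scheme.ΓSpecIso (CommRingCat.of B)).inv := (Scheme.ΓSpecIso_inv_naturality mk).symm
      rw [h3]
      change (Scheme.ΓSpecIso (CommRingCat.of B)).inv (Ideal.Quotient.mk (Ideal.span {s}) a) = 0 ↔ _
      exact map_eq_zero_iff _
        (ConcreteCategory.bijective_of_isIso (Scheme.ΓSpecIso (CommRingCat.of B)).inv).1
    ext a
    rw [RingHom.mem_ker]
    simp only [Category.assoc]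
    exact h2 _ U.2.fromSpec_preimage_self a
  refine ⟨_, e, inferInstance, fun y => ?_, fun p => ?_, ?_⟩
  · by_cases hy : y ∈ Set.range e
    · exact ⟨U, hrange hy, s, mem_nonZeroDivisors_of_ne_zero hs0, hIU⟩
    · obtain ⟨_, ⟨W, hW, rfl⟩, hyW, hWe⟩ :=
        X.left.isBasis_affineOpens.exists_subset_of_mem_open hy hemb.isClosed_range.isOpen_compl
      refine ⟨⟨W, hW⟩, hyW, 1, Submonoid.one_mem _, ?_⟩
      rw [Ideal.span_singleton_one]
      haveI : IsEmpty (e ⁻¹ᵁ W : Scheme.{u}) := ⟨fun z => hWe z.2 ⟨z.1, rfl⟩⟩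
      rw [Scheme.Hom.ker_apply, eq_top_iff]
      intro a _
      rw [RingHom.mem_ker]
      haveI : Subsingleton Γ(Spec (CommRingCat.of B), e ⁻¹ᵁ W) := by
        have hbot : e ⁻¹ᵁ W = ⊥ :=
          Opens.ext (Set.eq_empty_iff_forall_notMem.2 fun z hz => hWe hz ⟨z, rfl⟩)
        rw [hbot]
        infer_instance
      exact Subsingleton.elim _ _
  · obtain ⟨q, hq, hqp⟩ := Ideal.exists_minimalPrimes_le (J := p.asIdeal) (I := (⊥ : Ideal B)) bot_le
    haveI := Ideal.minimalPrimes_isPrime hq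
    refine ⟨⟨q, inferInstance⟩, (PrimeSpectrum.le_iff_specializes _ _).1 hqp, ?_⟩
    rw [hee]
    change q.comap (algebraMap R B) = ⊥
    by_contra hne
    have hm : q.comap (algebraMap R B) = IsLocalRing.maximalIdeal R :=
      IsLocalRing.eq_maximalIdeal ((Ideal.IsPrime.comap _).isMaximal hne)
    set q' : Ideal A := q.comap (Ideal.Quotient.mk (Ideal.span {s})) with hq'
    have hsq' : s ∈ q' := by
      rw [hq', Ideal.mem_comap, Ideal.Quotient.eq_zero_iff_mem.2 (Ideal.mem_span_singleton_self s)]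
      exact q.zero_mem
    let Qp : PrimeSpectrum A := ⟨q', inferInstance⟩
    have hqx : U.2.fromSpec Qp = x := hfib _ (fromSpec_mem U.2 _)
      ((comap_primeIdealOf X.hom U.2 Qp).1 hm) fun h => (mem_basicOpen_fromSpec U.2 s _).1 h hsq'
    have hmin : q' ∈ (Ideal.span {s}).minimalPrimes := by
      have := Ideal.comap_minimalPrimes_eq_of_surjective
        (f := Ideal.Quotient.mk (Ideal.span {s})) Ideal.Quotient.mk_surjective (⊥ : Ideal B)
      rw [← RingHom.ker_eq_comap_bot, Ideal.mk_ker] at this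
      exact this.symm ▸ Set.mem_image_of_mem _ hq
    have hht : q'.height ≤ 1 :=
      Ideal.height_le_one_of_isPrincipal_of_mem_minimalPrimes (Ideal.span {s}) q' hmin
    obtain ⟨η, hηS, hηx, hηne⟩ := exists_ne_generization hdim hx hxS
    obtain ⟨g, hg, hgS⟩ := exists_generic_generization hηS
    have hηU : η ∈ U.1 := hηx.mem_open U.1.2 hxU
    have hgU : g ∈ U.1 := hg.mem_open U.1.2 hηU
    have hlt : ∀ {a b : PrimeSpectrum A}, U.2.fromSpec a ⤳ U.2.fromSpec b → a ≠ b →
        a.asIdeal < b.asIdeal := fun {a b} h hne =>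
      lt_of_le_of_ne ((PrimeSpectrum.le_iff_specializes _ _).2
        (U.2.fromSpec.isOpenEmbedding.isInducing.specializes_iff.1 h))
        fun e => hne (PrimeSpectrum.ext e)
    let Pη := U.2.primeIdealOf ⟨η, hηU⟩
    let Pg := U.2.primeIdealOf ⟨g, hgU⟩
    have eη : U.2.fromSpec Pη = η := U.2.fromSpec_primeIdealOf _
    have eg : U.2.fromSpec Pg = g := U.2.fromSpec_primeIdealOf _
    have h1 : Pη.asIdeal < q' := hlt (a := Pη) (b := Qp) (by rw [eη, hqx]; exact hηx)
      fun e => hηne (by rw [← eη, e, hqx])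
    have h2 : Pg.asIdeal < Pη.asIdeal := hlt (by rw [eη, eg]; exact hg)
      fun e => hgS (by rw [← eg, e, eη]; exact hηS)
    haveI : Pη.asIdeal.IsPrime := Pη.isPrime
    have h3 := (Ideal.height_strict_mono_of_isPrime h1).trans_le hht
    rw [Order.lt_one_iff, Ideal.height_eq_zero_iff_eq_bot] at h3
    exact not_lt_bot (h3 ▸ h2)
  · refine Set.eq_singleton_iff_unique_mem.2 ⟨⟨?_, hxS⟩, ?_⟩
    · set P := U.2.primeIdealOf ⟨x, hxU⟩
      have hP : U.2.fromSpec P = x := U.2.fromSpec_primeIdealOf _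
      have hsP : s ∈ P.asIdeal := by_contra fun h => hxs (hP ▸ (mem_basicOpen_fromSpec U.2 s P).2 h)
      have hPm : P ∈ Set.range (Spec.map mk) := by
        change P ∈ Set.range (PrimeSpectrum.comap (Ideal.Quotient.mk (Ideal.span {s})))
        rw [range_comap_of_surjective _ _ Ideal.Quotient.mk_surjective, Ideal.mk_ker,
          PrimeSpectrum.mem_zeroLocus]
        exact (Ideal.span_singleton_le_iff_mem _).2 hsP
      obtain ⟨b, hb⟩ := hPm
      exact ⟨b, by rw [← hP, ← hb]; exact Scheme.Hom.comp_apply _ _ _⟩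
    · rintro _ ⟨⟨b, rfl⟩, hyS⟩
      refine hfib _ (hrange ⟨b, rfl⟩) hyS fun h => ?_
      have h' : U.2.fromSpec (Spec.map mk b) ∈ X.left.basicOpen s := h
      refine (mem_basicOpen_fromSpec U.2 s _).1 h' ?_
      change Ideal.Quotient.mk (Ideal.span {s}) s ∈ b.asIdeal
      rw [Ideal.Quotient.eq_zero_iff_mem.2 (Ideal.mem_span_singleton_self s)]
      exact b.asIdeal.zero_mem

end Groth.ArSurfBasics.HenDiv
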