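import Groth.Agent.ArSurfBasics.CompVert
import Groth.Agent.ArSurfBasics.HorizDivisor
import Groth.Agent.FlatMor2.DimTrdeg
import Groth.Agent.DivisorLength.Basic
import Mathlib.RingTheory.KrullDimension.Regular
import Mathlib.RingTheory.Jacobson.Ring
import Mathlib.AlgebraicGeometry.FunctionField

/-!
Closed points of the closed fibre of a flat proper integral surface over a DVR have two-dimensional
local rings.
-/

set_option autoImplicit false
set_option backward.isDefEq.respectTransparency.types false

universe u

open CategoryTheory CategoryTheory.Limits AlgebraicGeometry TopologicalSpace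

namespace Groth.ArSurfBasics.ClosedDim

variable {R : Type u} [CommRing R] [IsDomain R] [IsDiscreteValuationRing R]
  {X : Over (Spec (CommRingCat.of R))} [IsIntegral X.left]

theorem stalkHom_eq (U : X.left.Opens) (x : X.left) (hx : x ∈ U) :
    Models.stalkHom R X x = (X.left.presheaf.germ U x hx).hom.comp (HenDiv.psi X.hom U) := by
  ext r
  change X.left.presheaf.germ ⊤ x trivial (Coh.toGlobal X.hom r) = _
  rw [← TopCat.Presheaf.germ_res_apply X.left.presheaf (homOfLE (le_top : U ≤ ⊤)) x hx]
  rfl

/-- The function field as an algebra over the base. -/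
noncomputable abbrev ffHom : R →+* X.left.functionField :=
  (X.left.presheaf.germ ⊤ (genericPoint X.left) trivial).hom.comp
    (show R →+* Γ(X.left, ⊤) from Coh.toGlobal X.hom)

/-- The transcendence degree of the function field over `R` is the dimension of the closed fibre at a
closed point. -/
theorem dim_eq_trdeg [LocallyOfFiniteType X.hom] [Flat X.hom] {x : X.left}
    (hx : IsClosed ({x} : Set X.left)) (hxS : x ∈ Models.specialFibreSet R X) :
    ∃ d : ℕ, ringKrullDim (X.left.presheaf.stalk x) = (d + 1 : ℕ) ∧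
      (letI := (ffHom (X := X)).toAlgebra; Algebra.trdeg R X.left.functionField = d) := by
  haveI : IsLocallyNoetherian X.left := LocallyOfFiniteType.isLocallyNoetherian X.hom
  obtain ⟨_, ⟨U, hU, rfl⟩, hxU, -⟩ :=
    X.left.isBasis_affineOpens.exists_subset_of_mem_open (Set.mem_univ x) isOpen_univ
  let A := Γ(X.left, U)
  let P := hU.primeIdealOf ⟨x, hxU⟩
  letI : Algebra R A := (HenDiv.psi X.hom U).toAlgebra
  haveI : Algebra.FiniteType R A := HenDiv.finiteType_psi X.hom hU
  have hPR : P.asIdeal.comap (algebraMap R A) = IsLocalRing.maximalIdeal R :=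
    (HenDiv.comap_primeIdealOf X.hom hU P).2 (by rw [hU.fromSpec_primeIdealOf]; exact hxS)
  haveI : P.asIdeal.IsMaximal := hU.primeIdealOf_isMaximal_of_isClosed ⟨x, hxU⟩ hx
  let B := X.left.presheaf.stalk x
  letI : Algebra A B := TopCat.Presheaf.algebra_section_stalk X.left.presheaf ⟨x, hxU⟩
  haveI : IsLocalization.AtPrime B P.asIdeal := hU.isLocalization_stalk ⟨x, hxU⟩
  letI : Algebra R B := (Models.stalkHom R X x).toAlgebra
  haveI : IsScalarTower R A B := IsScalarTower.of_algebraMap_eq fun r =>
    congrArg (fun φ : R →+* B => φ r) (stalkHom_eq U x hxU)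
  haveI : Algebra.EssFiniteType A B := Algebra.EssFiniteType.of_isLocalization B P.asIdeal.primeCompl
  haveI : Algebra.EssFiniteType R B := Algebra.EssFiniteType.comp R A B
  haveI : IsLocalHom (algebraMap R B) := ⟨fun a ha => by
    by_contra h
    rw [IsScalarTower.algebraMap_apply R A B] at ha
    exact (IsLocalization.AtPrime.isUnit_to_map_iff B P.asIdeal _).1 ha
      (Ideal.mem_comap.1 (hPR.ge ((IsLocalRing.mem_maximalIdeal a).2 h)))⟩
  haveI : Module.Flat R B := by
    have h1 : (HenDiv.psi X.hom U).Flat := RingHom.Flat.comp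
      (RingHom.Flat.of_bijective (ConcreteCategory.bijective_of_isIso
        (Scheme.ΓSpecIso (CommRingCat.of R)).inv))
      (Flat.flat_appLE X.hom (isAffineOpen_top _) hU le_top)
    haveI : Module.Flat R A := h1
    haveI : Module.Flat A B := IsLocalization.flat B P.asIdeal.primeCompl
    exact Module.Flat.trans R A B
  have hinj : Function.Injective (algebraMap R B) := by
    haveI : Module.FaithfullyFlat R B := Module.FaithfullyFlat.of_flat_of_isLocalHom
    exact FaithfulSMul.algebraMap_injective R B
  haveI : FaithfulSMul R B := (faithfulSMul_iff_algebraMap_injective R B).2 hinj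
  obtain ⟨d, e, hd, he, hde⟩ := Groth.FlatMor2.DimTrdeg.exists_dim_eq (A := R) (B := B)
  -- the residue extension is finite
  have he0 : e = 0 := by
    haveI : Algebra.FiniteType R (A ⧸ P.asIdeal) :=
      Algebra.FiniteType.of_surjective (Ideal.Quotient.mkₐ R P.asIdeal) Ideal.Quotient.mk_surjective
    haveI : Algebra.FiniteType R (IsLocalRing.ResidueField B) := by
      let φ : A →ₐ[R] IsLocalRing.ResidueField B := IsScalarTower.toAlgHom R A _
      refine Algebra.FiniteType.of_surjective φ fun z => ?_
      obtain ⟨b, rfl⟩ := IsLocalRing.residue_surjective z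
      obtain ⟨⟨a, s⟩, has⟩ := IsLocalization.surj P.asIdeal.primeCompl b
      obtain ⟨t, ht⟩ : ∃ t, (s : A) * t - 1 ∈ P.asIdeal := by
        obtain ⟨t, m, hm, htm⟩ := (‹P.asIdeal.IsMaximal›).exists_inv s.2
        exact ⟨t, by rw [show (s : A) * t - 1 = -m by rw [← htm]; ring]; exact neg_mem hm⟩
      refine ⟨a * t, ?_⟩
      have h1 : IsLocalRing.residue B (algebraMap A B ((s : A) * t - 1)) = 0 :=
        Ideal.Quotient.eq_zero_iff_mem.2 ((IsLocalization.AtPrime.to_map_mem_maximal_iff B P.asIdeal _).2 ht)
      change IsLocalRing.residue B (algebraMap A B (a * t)) = _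
      simp only [map_sub, map_mul, map_one, sub_eq_zero] at h1
      rw [map_mul, ← has, map_mul, map_mul, mul_assoc, h1, mul_one]
    haveI : Algebra.FiniteType (IsLocalRing.ResidueField R) (IsLocalRing.ResidueField B) :=
      Algebra.FiniteType.of_restrictScalars_finiteType R _ _
    haveI : Module.Finite (IsLocalRing.ResidueField R) (IsLocalRing.ResidueField B) :=
      finite_of_finite_type_of_isJacobsonRing _ _
    have h0 : Algebra.trdeg (IsLocalRing.ResidueField R) (IsLocalRing.ResidueField B) = 0 := trdeg_eq_zero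
    exact_mod_cast (h0.symm.trans he).symm
  obtain ⟨π, hπ⟩ := IsDiscreteValuationRing.exists_irreducible R
  have hdimB : ringKrullDim B = (d + 1 : ℕ) := by
    have h := ringKrullDim_quotient_span_singleton_succ_eq_ringKrullDim (R := B) (x := algebraMap R B π)
      (IsRegular.of_ne_zero fun h => hπ.ne_zero (hinj (h.trans (map_zero _).symm))).left
      (fun h => hπ.not_isUnit (IsLocalHom.map_nonunit π h))
    rw [← h, show Ideal.span {algebraMap R B π} = (IsLocalRing.maximalIdeal R).map (algebraMap R B) by
      rw [hπ.maximalIdeal_eq, Ideal.map_span, Set.image_singleton], hd]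
    push_cast
    rfl
  refine ⟨d, hdimB, ?_⟩
  letI := (ffHom (X := X)).toAlgebra
  haveI : IsScalarTower R B X.left.functionField := IsScalarTower.of_algebraMap_eq fun r =>
    (TopCat.Presheaf.germ_stalkSpecializes_apply X.left.presheaf (U := ⊤) trivial
      ((genericPoint_spec X.left).specializes trivial : genericPoint X.left ⤳ x) (Coh.toGlobal X.hom r)).symm
  haveI : Algebra.IsAlgebraic B X.left.functionField :=
    IsLocalization.isAlgebraic X.left.functionField (nonZeroDivisors B)
  rw [← trdeg_add_eq R B (A := X.left.functionField), trdeg_eq_zero (R := B) (A := X.left.functionField),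
    add_zero, hde, he0, add_zero]

variable [Flat X.hom] [IsProper X.hom]

/-- Closed points of the closed fibre have two-dimensional local rings. -/
theorem ringKrullDim_stalk_eq_two (hdim : topologicalKrullDim X.left = 2) {y : X.left}
    (hy : IsClosed ({y} : Set X.left)) (hyS : y ∈ Models.specialFibreSet R X) :
    ringKrullDim (X.left.presheaf.stalk y) = 2 := by
  haveI : IsNoetherian X.left := isNoetherian_of_isProper
  -- a chain of length two
  obtain ⟨s, hs⟩ : ∃ s : LTSeries (IrreducibleCloseds X.left), 2 ≤ s.length := by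
    by_contra! h
    have : topologicalKrullDim X.left ≤ 1 := iSup_le fun s => by exact_mod_cast Nat.le_of_lt_succ (h s)
    rw [hdim] at this
    exact absurd this (by decide)
  obtain ⟨c, hc, hcl⟩ := (s 0).isClosed.exists_closed_singleton (s 0).isIrreducible.nonempty
  have hcS : c ∈ Models.specialFibreSet R X := by
    have h1 : IsClosed (X.hom '' {c}) := X.hom.isClosedMap _ hcl
    rw [Set.image_singleton] at h1
    exact ((IsLocalRing.specializes_closedPoint (X.hom c)).mem_closed h1 rfl).symm
  obtain ⟨d, hd, hd'⟩ := dim_eq_trdeg hcl hcS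
  obtain ⟨e, he, he'⟩ := dim_eq_trdeg hy hyS
  have hde : d = e := by exact_mod_cast hd'.symm.trans he'
  subst hde
  rw [he]
  obtain ⟨_, ⟨U, hU, rfl⟩, hcU, -⟩ :=
    X.left.isBasis_affineOpens.exists_subset_of_mem_open (Set.mem_univ c) isOpen_univ
  -- lower bound
  have key : ∀ i : Fin (s.length + 1), ∃ q : X.left, IsGenericPoint q (s i : Set X.left) :=
    fun i => QuasiSober.sober (s i).isIrreducible (s i).isClosed
  choose q hq using key
  have hqU : ∀ i, q i ∈ U := fun i => by
    refine ((hq i).specializes ?_).mem_open U.2 hcU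
    exact s.monotone (Fin.zero_le i) hc
  have hlt : ∀ i j, i < j → (hU.primeIdealOf ⟨q j, hqU j⟩).asIdeal < (hU.primeIdealOf ⟨q i, hqU i⟩).asIdeal := by
    intro i j hij
    have hss : (s i : Set X.left) ⊂ s j := SetLike.coe_ssubset_coe.2 (s.strictMono hij)
    refine lt_of_le_of_ne ((Groth.DivisorLength.specializes_iff (W := ⟨U, hU⟩) (hqU j) (hqU i)).1
      ((hq j).specializes (hss.1 (hq i).mem))) fun e => hss.ne ?_
    have h := congrArg hU.fromSpec (PrimeSpectrum.ext e)
    rw [hU.fromSpec_primeIdealOf, hU.fromSpec_primeIdealOf] at h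
    rw [← (hq i).def, ← (hq j).def, show q j = q i from h]
  have hle : (hU.primeIdealOf ⟨q 0, hqU 0⟩).asIdeal ≤ (hU.primeIdealOf ⟨c, hcU⟩).asIdeal :=
    (Groth.DivisorLength.specializes_iff (W := ⟨U, hU⟩) (hqU 0) hcU).1 ((hq 0).specializes hc)
  haveI : IsNoetherianRing Γ(X.left, U) := IsLocallyNoetherian.component_noetherian ⟨U, hU⟩
  haveI := fun i => (hU.primeIdealOf ⟨q i, hqU i⟩).isPrime
  have h1 : (2 : ℕ∞) ≤ (hU.primeIdealOf ⟨q 0, hqU 0⟩).asIdeal.height := by
    have a1 := Order.add_one_le_of_lt (Ideal.height_strict_mono_of_isPrime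
      (hlt 0 ⟨1, by omega⟩ (by simp [Fin.lt_def])))
    have a2 := Order.add_one_le_of_lt (Ideal.height_strict_mono_of_isPrime
      (hlt ⟨1, by omega⟩ ⟨2, by omega⟩ (by simp [Fin.lt_def])))
    calc (2 : ℕ∞) = (0 + 1) + 1 := by norm_num
      _ ≤ _ := (add_le_add_left ((add_le_add_left bot_le 1).trans a2) 1).trans a1
  have h2 : ((2 : ℕ) : WithBot ℕ∞) ≤ ringKrullDim (X.left.presheaf.stalk c) := by
    rw [Groth.DivisorLength.dim_stalk (W := ⟨U, hU⟩) hcU]
    exact WithBot.coe_le_coe.2 (h1.trans (Ideal.height_mono hle))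
  -- upper bound
  have h3 : ringKrullDim (X.left.presheaf.stalk c) ≤ 2 := by
    rw [← hdim, ← PrimeSpectrum.topologicalKrullDim_eq_ringKrullDim]
    exact (X.left.fromSpecStalk c).isEmbedding.isInducing.topologicalKrullDim_le
  rw [hd] at h2 h3
  have h4 : d + 1 = 2 := le_antisymm (by exact_mod_cast h3) (by exact_mod_cast h2)
  rw [h4]
  rfl

end Groth.ArSurfBasics.ClosedDim
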