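import Groth.Agent.HensPair.SteinNormalization
import Groth.Agent.HensPair.SteinNormalPoint
import Groth.Agent.VarietyBC.GlobalField
import Groth.Agent.ModelsGraphs.FieldChain
import Mathlib.FieldTheory.PurelyInseparable.Basic
import Mathlib.FieldTheory.Perfect

/-!
# A field of functions on the closed fibre of a proper model over a DVR with perfect residue field
forces cohomological flatness in degree 0
-/

set_option autoImplicit false

universe u

open CategoryTheory CategoryTheory.Limits AlgebraicGeometry TopologicalSpace Opposite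

namespace Groth.ArSurfBasics.CohFlatSurj

variable {R : Type u} [CommRing R] [IsDomain R] [IsDiscreteValuationRing R]
  {X : Over (Spec (CommRingCat.of R))}

local notation "sres" => Spec.map (CommRingCat.ofHom (IsLocalRing.residue R))

lemma idealSheaf_max : Curv2.idealSheaf R (IsLocalRing.maximalIdeal R) = (sres).ker := by
  haveI : IsClosedImmersion (sres) :=
    IsClosedImmersion.spec_of_surjective _ Ideal.Quotient.mk_surjective
  rw [Scheme.ker_of_isAffine, Curv2.idealSheaf]
  congr 1
  ext x
  rw [RingHom.mem_ker]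
  have h0 := ConcreteCategory.congr_hom
    (Scheme.ΓSpecIso_naturality (CommRingCat.ofHom (IsLocalRing.residue R))) x
  have h : (Scheme.ΓSpecIso _).hom.hom ((sres).appTop.hom x) =
      IsLocalRing.residue R ((Scheme.ΓSpecIso (CommRingCat.of R)).hom.hom x) := h0
  constructor
  · intro hx
    obtain ⟨y, hy, rfl⟩ := (Ideal.mem_map_iff_of_surjective _
      ((Scheme.ΓSpecIso (CommRingCat.of R)).symm.commRingCatIsoToRingEquiv.surjective)).1 hx
    refine (Scheme.ΓSpecIso _).commRingCatIsoToRingEquiv.injective ?_
    rw [map_zero]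
    refine h.trans ?_
    change IsLocalRing.residue R
      (((Scheme.ΓSpecIso (CommRingCat.of R)).inv ≫ (Scheme.ΓSpecIso (CommRingCat.of R)).hom).hom y) = 0
    rw [Iso.inv_hom_id]
    exact (IsLocalRing.residue_eq_zero_iff y).2 hy
  · intro hx
    rw [hx, map_zero] at h
    have hmem := (IsLocalRing.residue_eq_zero_iff _).1 h.symm
    have := Ideal.mem_map_of_mem (Scheme.ΓSpecIso (CommRingCat.of R)).inv.hom hmem
    have e : ((Scheme.ΓSpecIso (CommRingCat.of R)).hom ≫ (Scheme.ΓSpecIso (CommRingCat.of R)).inv).hom x = x := by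
      rw [Iso.hom_inv_id]; rfl
    exact e ▸ this

/-- The closed fibre factors through the residue field. -/
theorem exists_toResidue : ∃ w : (Models.specialFibreIdeal R X).subscheme ⟶
    Spec (CommRingCat.of (IsLocalRing.ResidueField R)),
    w ≫ sres = (Models.specialFibreIdeal R X).subschemeι ≫ X.hom := by
  haveI : IsClosedImmersion (sres) :=
    IsClosedImmersion.spec_of_surjective _ Ideal.Quotient.mk_surjective
  have h : (sres).ker ≤ ((Models.specialFibreIdeal R X).subschemeι ≫ X.hom).ker := by
    rw [← idealSheaf_max]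
    exact Scheme.IdealSheafData.le_map_comap _ _
  exact ⟨IsClosedImmersion.lift (sres) _ h, IsClosedImmersion.lift_fac _ _ h⟩

/-- A morphism to the model over the residue field lands in the closed fibre. -/
theorem exists_lift {T : Scheme.{u}} (t : T ⟶ X.left)
    (u : T ⟶ Spec (CommRingCat.of (IsLocalRing.ResidueField R))) (h : u ≫ sres = t ≫ X.hom) :
    ∃ l : T ⟶ (Models.specialFibreIdeal R X).subscheme,
      l ≫ (Models.specialFibreIdeal R X).subschemeι = t := by
  have h' : (Models.specialFibreIdeal R X).subschemeι.ker ≤ t.ker := by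
    rw [Scheme.IdealSheafData.ker_subschemeι, Models.specialFibreIdeal, idealSheaf_max,
      ← Scheme.IdealSheafData.le_map_iff_comap_le]
    change (sres).ker ≤ t.ker.map X.hom
    rw [← Scheme.Hom.ker_comp, ← h]
    exact Scheme.Hom.le_ker_comp _ _
  exact ⟨IsClosedImmersion.lift _ _ h', IsClosedImmersion.lift_fac _ _ h'⟩

/-- A field of functions on the closed fibre is the image of the global functions. -/
theorem appTop_surjective [IsProper X.hom] [PerfectField (IsLocalRing.ResidueField R)]
    [ConnectedSpace (Models.specialFibreIdeal R X).subscheme]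
    (hF : IsField Γ((Models.specialFibreIdeal R X).subscheme, ⊤)) :
    Function.Surjective (Models.specialFibreIdeal R X).subschemeι.appTop.hom := by
  set F := (Models.specialFibreIdeal R X).subscheme
  set i : F ⟶ X.left := (Models.specialFibreIdeal R X).subschemeι
  haveI : IsProper (i ≫ X.hom) := inferInstance
  haveI : CompactSpace X.left := QuasiCompact.compactSpace_of_compactSpace X.hom
  haveI : QuasiSeparatedSpace X.left := quasiSeparatedSpace_of_quasiSeparated X.hom
  let A : Type u := Γ(X.left, ⊤)
  let f : X.left ⟶ Spec (CommRingCat.of A) := X.left.toSpecΓ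
  let ψ : CommRingCat.of R ⟶ CommRingCat.of A := (Scheme.ΓSpecIso _).inv ≫ X.hom.appTop
  have hfψ : f ≫ Spec.map ψ = X.hom := by
    change X.left.toSpecΓ ≫ Spec.map ((Scheme.ΓSpecIso _).inv ≫ X.hom.appTop) = X.hom
    rw [Spec.map_comp, ← Scheme.toSpecΓ_naturality_assoc, toSpecΓ_SpecMap_ΓSpecIso_inv,
      Category.comp_id]
  haveI : IsProper f := by
    haveI : IsProper (f ≫ Spec.map ψ) := by rw [hfψ]; infer_instance
    exact IsProper.of_comp f (Spec.map ψ)
  have hgc : GeometricallyConnected f := by
    refine Groth.HensPair.geometricallyConnected_of_isIso_app f Groth.CohFin.projFinite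
      fun V _ => ?_
    haveI : IsIso (f.app ⊤) := by
      change IsIso X.left.toSpecΓ.appTop
      rw [Scheme.toSpecΓ_appTop]
      infer_instance
    exact Groth.HensPair.isIso_app_of_le f (isAffineOpen_top _) (V := V) le_top
  -- the residue field acts on the closed fibre
  obtain ⟨w, hw⟩ := exists_toResidue (X := X)
  let φ : A →+* Γ(F, ⊤) := i.appTop.hom
  let χ : R →+* Γ(F, ⊤) := φ.comp ψ.hom
  have hχ : χ = ((Scheme.ΓSpecIso _).inv ≫ w.appTop).hom.comp (IsLocalRing.residue R) := by
    change ((Scheme.ΓSpecIso _).inv ≫ X.hom.appTop ≫ i.appTop).hom =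
      (CommRingCat.ofHom (IsLocalRing.residue R) ≫ (Scheme.ΓSpecIso _).inv ≫ w.appTop).hom
    rw [← Scheme.Hom.comp_appTop, ← hw, Scheme.Hom.comp_appTop, Scheme.ΓSpecIso_inv_naturality_assoc]
  let K₂ := φ.range
  letI : Algebra R Γ(F, ⊤) := χ.toAlgebra
  haveI : Module.Finite R Γ(F, ⊤) := by
    have h := Groth.ModelsGraphs.FieldChain.finite_toGlobal (Models.specialFibreIdeal R X)
    have e : (show R →+* Γ(F, ⊤) from Coh.toGlobal (i ≫ X.hom)) = χ := rfl
    rw [e] at h
    exact h
  letI : Algebra R K₂ := (φ.rangeRestrict.comp ψ.hom).toAlgebra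
  haveI : IsScalarTower R K₂ Γ(F, ⊤) := IsScalarTower.of_algebraMap_eq fun _ => rfl
  haveI : Algebra.IsIntegral R Γ(F, ⊤) := inferInstance
  haveI : Algebra.IsIntegral K₂ Γ(F, ⊤) := Algebra.IsIntegral.tower_top R
  haveI := hF.isDomain
  have hK₂ : IsField K₂ :=
    isField_of_isIntegral_of_isField (S := Γ(F, ⊤)) Subtype.val_injective hF
  letI := hK₂.toField
  letI := hF.toField
  -- it is a perfect field
  let χk : IsLocalRing.ResidueField R →+* K₂ := Ideal.Quotient.lift _ (φ.rangeRestrict.comp ψ.hom)
    fun m hm => Subtype.ext ((congr($hχ m)).trans (by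
      rw [RingHom.comp_apply, (IsLocalRing.residue_eq_zero_iff m).2 hm, map_zero]
      rfl))
  letI : Algebra (IsLocalRing.ResidueField R) K₂ := χk.toAlgebra
  haveI : IsScalarTower R (IsLocalRing.ResidueField R) K₂ := IsScalarTower.of_algebraMap_eq fun _ => rfl
  haveI : Algebra.IsIntegral R K₂ :=
    Algebra.IsIntegral.of_injective (IsScalarTower.toAlgHom R K₂ Γ(F, ⊤)) Subtype.val_injective
  haveI : Algebra.IsIntegral (IsLocalRing.ResidueField R) K₂ := Algebra.IsIntegral.tower_top R
  haveI : PerfectField K₂ := Algebra.IsAlgebraic.perfectField (K := IsLocalRing.ResidueField R)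
  -- the closed fibre is the fibre over `Spec K₂`
  let g : Spec (CommRingCat.of K₂) ⟶ Spec (CommRingCat.of A) :=
    Spec.map (CommRingCat.ofHom φ.rangeRestrict)
  haveI : IsClosedImmersion g := IsClosedImmersion.spec_of_surjective _ φ.rangeRestrict_surjective
  let q : F ⟶ Spec (CommRingCat.of K₂) := F.toSpecΓ ≫ Spec.map (CommRingCat.ofHom φ.range.subtype)
  have hsq : i ≫ f = q ≫ g := by
    change i ≫ X.left.toSpecΓ = (F.toSpecΓ ≫ Spec.map _) ≫ Spec.map _
    rw [Category.assoc, ← Spec.map_comp, Scheme.toSpecΓ_naturality]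
    rfl
  have hg : g ≫ Spec.map ψ = Spec.map (CommRingCat.ofHom χk) ≫ sres := by
    rw [← Spec.map_comp, ← Spec.map_comp]
    rfl
  have hlift : ∀ {T : Scheme.{u}} (t : T ⟶ X.left) (s : T ⟶ Spec (CommRingCat.of K₂)),
      t ≫ f = s ≫ g → ∃ l : T ⟶ F, l ≫ i = t ∧ l ≫ q = s := by
    intro T t s hts
    obtain ⟨l, hl⟩ := exists_lift t (s ≫ Spec.map (CommRingCat.ofHom χk)) (by
      rw [Category.assoc, ← hg, ← Category.assoc, ← hts, Category.assoc, hfψ])
    refine ⟨l, hl, (cancel_mono g).1 ?_⟩
    rw [Category.assoc, ← hsq, ← Category.assoc, hl, hts]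
  have H : IsPullback i q f g := IsPullback.of_isLimit' ⟨hsq⟩
    (PullbackCone.IsLimit.mk _ (fun c => (hlift c.fst c.snd c.condition).choose)
      (fun c => (hlift c.fst c.snd c.condition).choose_spec.1)
      (fun c => (hlift c.fst c.snd c.condition).choose_spec.2)
      (fun c m h1 _ => (cancel_mono i).1
        (h1.trans (hlift c.fst c.snd c.condition).choose_spec.1.symm)))
  have hgcq : GeometricallyConnected q := MorphismProperty.of_isPullback H hgc
  -- hence purely inseparable, hence equal
  let E := AlgebraicClosure K₂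
  let sE : Spec (CommRingCat.of E) ⟶ Spec (CommRingCat.of K₂) :=
    Spec.map (CommRingCat.ofHom (algebraMap K₂ E))
  haveI : ConnectedSpace (pullback q sE : Scheme.{u}) :=
    GeometricallyConnected.geometrically_connectedSpace (f := q) sE (pullback.fst q sE)
      (pullback.snd q sE) (IsPullback.of_hasPullback q sE)
  haveI : CompactSpace F := QuasiCompact.compactSpace_of_compactSpace (i ≫ X.hom)
  haveI : QuasiSeparatedSpace F := quasiSeparatedSpace_of_quasiSeparated (i ≫ X.hom)
  obtain ⟨e⟩ := Groth.VarietyBC.GlobalField.exists_ringEquiv (k := K₂) (E := E) q (by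
    change φ.range.subtype = _
    change (CommRingCat.ofHom φ.range.subtype).hom = _
    refine congrArg CommRingCat.Hom.hom ?_
    rw [Scheme.Hom.comp_appTop, Scheme.toSpecΓ_appTop, ← Scheme.ΓSpecIso_inv_naturality_assoc,
      Iso.inv_hom_id, Category.comp_id]
    rfl) (IsPullback.of_hasPullback q sE)
  haveI : IsPurelyInseparable K₂ Γ(F, ⊤) :=
    Groth.VarietyBC.GlobalField.isPurelyInseparable_of_idem (E := E) fun x hx => by
      rcases Groth.VarietyBC.GlobalField.eq_zero_or_one_of_idem (e x) (by rw [← map_mul, hx]) with h | h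
      · exact Or.inl (e.injective (h.trans (map_zero e).symm))
      · exact Or.inr (e.injective (h.trans (map_one e).symm))
  intro y
  obtain ⟨⟨_, a, rfl⟩, hy⟩ :=
    IsPurelyInseparable.surjective_algebraMap_of_isSeparable K₂ Γ(F, ⊤) y
  exact ⟨a, hy⟩

lemma support_specialFibreIdeal :
    ((Models.specialFibreIdeal R X).support : Set X.left) = Models.specialFibreSet R X := by
  haveI : IsClosedImmersion (sres) :=
    IsClosedImmersion.spec_of_surjective _ Ideal.Quotient.mk_surjective
  rw [Models.specialFibreIdeal, idealSheaf_max, Scheme.IdealSheafData.support_comap,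
    TopologicalSpace.Closeds.coe_preimage, Scheme.Hom.support_ker,
    (Scheme.Hom.isClosedEmbedding (sres)).isClosed_range.closure_eq]
  refine congrArg (X.hom.base ⁻¹' ·) ?_
  ext x
  constructor
  · rintro ⟨y, rfl⟩
    exact IsLocalRing.comap_closedPoint (IsLocalRing.residue R) ▸
      congrArg _ (Subsingleton.elim y _)
  · rintro rfl
    exact ⟨IsLocalRing.closedPoint _, IsLocalRing.comap_closedPoint (IsLocalRing.residue R)⟩

/-- The closed fibre subscheme is connected when the closed fibre is. -/
theorem connectedSpace_specialFibre (h : _root_.IsConnected (Models.specialFibreSet R X)) :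
    ConnectedSpace (Models.specialFibreIdeal R X).subscheme := by
  set i := (Models.specialFibreIdeal R X).subschemeι
  have hr : Set.range i = Models.specialFibreSet R X := by
    rw [← support_specialFibreIdeal]
    exact Scheme.IdealSheafData.range_subschemeι _
  rw [← hr, ← Set.image_univ] at h
  rw [connectedSpace_iff_univ]
  exact ⟨h.1.of_image, i.isClosedEmbedding.isInducing.isPreconnected_image.1 h.2⟩

/-- The statement on cohomology follows from the one on global functions. -/
theorem surjective_H_map (I : X.left.IdealSheafData) (h : Function.Surjective I.subschemeι.appTop.hom) :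
    Function.Surjective (Sheaf.H.map ((SheafOfModules.toSheaf X.left.ringCatSheaf).map
      (ClSub.toSubscheme I)) 0) := by
  intro y
  let g := (SheafOfModules.toSheaf X.left.ringCatSheaf).map (ClSub.toSubscheme I)
  let e1 := Sheaf.H.equiv₀ (Coh.toAb (Coh.structureModule X.left))
    (T := (⊤ : TopologicalSpace.Opens X.left)) isTerminalTop
  let e2 := Sheaf.H.equiv₀ (Coh.toAb (ClSub.quotMod I))
    (T := (⊤ : TopologicalSpace.Opens X.left)) isTerminalTop
  obtain ⟨a, ha⟩ := h (e2 y)
  refine ⟨e1.symm a, e2.injective ?_⟩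
  refine (Sheaf.H.equiv₀_naturality (T := (⊤ : TopologicalSpace.Opens X.left)) isTerminalTop g
    (e1.symm a)).symm.trans ?_
  refine Eq.trans ?_ ha
  exact congrArg _ (e1.apply_symm_apply a)

end Groth.ArSurfBasics.CohFlatSurj
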