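import Groth.Agent.ArSurfBasics.CompVert
import Groth.Agent.ModelsGraphs.InterBasic
import Groth.Agent.Calg6.ClosedImmStalk

/-!
# The component list of a connected closed fibre
-/

set_option autoImplicit false

universe u

open CategoryTheory CategoryTheory.Limits AlgebraicGeometry TopologicalSpace

namespace Groth.ArSurfBasics.CompList

open Groth.ModelsGraphs.Inter

variable {R : Type u} [CommRing R] [IsDomain R] [IsDiscreteValuationRing R]
  {X : Over (Spec (CommRingCat.of R))}

/-- On a proper model of dimension two with connected closed fibre no component is a point. -/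
theorem nontrivial_component [IsProper X.hom] (hdim : topologicalKrullDim X.left = 2)
    (hconn : _root_.IsPreconnected (Models.specialFibreSet R X))
    {Z : Set X.left} (hZ : Z ∈ Models.fibreComponents R X) : Z.Nontrivial := by
  by_contra hnt
  obtain ⟨x, hxZ⟩ := hZ.1.1.nonempty
  obtain rfl : Z = {x} := (Set.not_nontrivial_iff.1 hnt).eq_singleton_of_mem hxZ
  haveI : IsNoetherian X.left := isNoetherian_of_isProper
  have hxS : x ∈ Models.specialFibreSet R X := hZ.1.2 rfl
  have hxcl : IsClosed ({x} : Set X.left) := by
    refine isClosed_of_closure_subset (hZ.2 ⟨isIrreducible_singleton.closure, ?_⟩ subset_closure)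
    exact closure_minimal hZ.1.2 (Models.isClosed_specialFibreSet R X)
  obtain ⟨hfin, hcov⟩ := maximal_irreducible_subsets (Models.isClosed_specialFibreSet R X)
  -- the closed fibre is the single point
  have hS : ∀ z ∈ Models.specialFibreSet R X, z = x := by
    intro z hz
    by_contra hne
    let W : Set X.left := ⋃ T ∈ {T | T ∈ Models.fibreComponents R X ∧ T ≠ {x}}, T
    have hW : IsClosed W := Set.Finite.isClosed_biUnion (hfin.subset fun T hT => hT.1) fun T hT =>
      isClosed_of_closure_subset (hT.1.2 ⟨hT.1.1.1.closure,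
        closure_minimal hT.1.1.2 (Models.isClosed_specialFibreSet R X)⟩ subset_closure)
    have hsub : Models.specialFibreSet R X ⊆ {x} ∪ W := fun w hw => by
      obtain ⟨T, hwT, hT⟩ := hcov {w} isIrreducible_singleton (Set.singleton_subset_iff.2 hw)
      by_cases hTx : T = {x}
      · exact Or.inl (hTx ▸ hwT rfl)
      · exact Or.inr (Set.mem_biUnion (show T ∈ {T | _} from ⟨hT, hTx⟩) (hwT rfl))
    obtain ⟨w, -, hwx, hwW⟩ := isPreconnected_closed_iff.1 hconn _ _ hxcl hW hsub ⟨x, hxS, rfl⟩
      ⟨z, hz, (hsub hz).resolve_left hne⟩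
    obtain ⟨T, hT, hwT⟩ := Set.mem_iUnion₂.1 hwW
    rw [Set.mem_singleton_iff.1 hwx] at hwT
    exact hT.2 (Set.Subset.antisymm (hZ.2 hT.1.1 (Set.singleton_subset_iff.2 hwT))
      (Set.singleton_subset_iff.2 hwT))
  -- every point specialises to it
  have hall : ∀ p : X.left, p ⤳ x := by
    intro p
    obtain ⟨q, hq, hqS⟩ : IsLocalRing.closedPoint R ∈ X.hom '' closure {p} := by
      have hc : IsClosed (X.hom '' closure ({p} : Set X.left)) := X.hom.isClosedMap _ isClosed_closure
      exact hc.closure_subset_iff.2
        (Set.singleton_subset_iff.2 ⟨p, subset_closure rfl, rfl⟩)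
        (IsLocalRing.specializes_closedPoint (X.hom p)).mem_closure
    rw [← hS q hqS]
    exact specializes_iff_mem_closure.2 hq
  -- so the surface is the spectrum of a local ring of dimension at most one
  have hsurj : Function.Surjective (X.left.fromSpecStalk x) := fun p =>
    (Scheme.range_fromSpecStalk (X := X.left) (x := x)).symm.subset (hall p)
  have hhom : IsHomeomorph (X.left.fromSpecStalk x) :=
    ((X.left.fromSpecStalk x).isEmbedding.toHomeomorphOfSurjective hsurj).isHomeomorph
  have h2 : ringKrullDim (X.left.presheaf.stalk x) = 2 := by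
    rw [← PrimeSpectrum.topologicalKrullDim_eq_ringKrullDim, ← hdim]
    exact hhom.topologicalKrullDim_eq
  obtain ⟨π, hπ⟩ := IsDiscreteValuationRing.exists_irreducible R
  set a := Models.stalkHom R X x π
  have ha : ¬ IsUnit a := (mem_specialFibreSet_iff hπ x).1 hxS
  have hm : IsLocalRing.maximalIdeal (X.left.presheaf.stalk x) ∈ (Ideal.span {a}).minimalPrimes := by
    refine ⟨⟨inferInstance, (Ideal.span_singleton_le_iff_mem _).2 ha⟩, fun q hq hqm => ?_⟩
    haveI := hq.1
    obtain ⟨y, hy, hu, hd⟩ := Groth.RefRank.exists_generization_of_prime q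
    have hyS : y ∈ Models.specialFibreSet R X := by
      rw [mem_specialFibreSet_iff hπ]
      have hr : Groth.RefRank.rspec hy a = Models.stalkHom R X y π :=
        Groth.RefRank.rspec_germ hy (U := ⊤) trivial (Coh.toGlobal X.hom π)
      rw [← hr, hu, not_not]
      exact hq.2 (Ideal.mem_span_singleton_self a)
    by_contra hne
    have hlt := Ideal.height_strict_mono_of_isPrime_of_isPrime (lt_of_le_not_ge hqm hne)
    rw [hS y hyS, ← IsLocalRing.maximalIdeal_height_eq_ringKrullDim] at hd
    exact hlt.ne (WithBot.coe_injective hd).symm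
  rw [← IsLocalRing.maximalIdeal_height_eq_ringKrullDim] at h2
  have h1 := Ideal.height_le_one_of_isPrincipal_of_mem_minimalPrimes _ _ hm
  rw [WithBot.coe_injective h2] at h1
  norm_num at h1

/-- A list of the components of the closed fibre. -/
theorem exists_componentList [IsProper X.hom] [Flat X.hom] (hdim : topologicalKrullDim X.left = 2)
    (hconn : _root_.IsPreconnected (Models.specialFibreSet R X)) :
    ∃ (n : ℕ) (Γ : Fin n → ArSurf.VertComp R X), Models.IsComponentList R X Γ := by
  haveI : IsNoetherian X.left := isNoetherian_of_isProper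
  have hfin : (Models.fibreComponents R X).Finite :=
    (maximal_irreducible_subsets (Models.isClosed_specialFibreSet R X)).1
  obtain ⟨n, e, hinj, he⟩ := hfin.fin_param
  have hm : ∀ i, e i ∈ Models.fibreComponents R X := fun i => he ▸ Set.mem_range_self i
  have hG' : ∀ i, ∃ G : ArSurf.VertComp R X, Set.range G.ι.base = e i := fun i => by
    obtain ⟨a, ha, b, hb, hab⟩ := nontrivial_component hdim hconn (hm i)
    exact exists_vertComp hdim (hm i) ha hb hab
  choose G hG using hG' 
  refine ⟨n, G, ?_, ?_⟩
  · simpa only [funext hG] using hinj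
  · simpa only [funext hG] using he

/-- The length of the closed fibre at the generic point of a component is its multiplicity. -/
theorem length_stalk_eq_mult [IsLocallyNoetherian X.left] {Y : Scheme.{u}} (i : Y ⟶ X.left)
    [IsClosedImmersion i] (hi : i.ker = Models.specialFibreIdeal R X) (Γ : ArSurf.VertComp R X) (y : Y)
    (hy : i y = Models.genPtOf R X Γ) :
    (Module.length (Y.presheaf.stalk y) (Y.presheaf.stalk y)).toNat = Models.mult R X Γ := by
  obtain ⟨π, hπ⟩ := IsDiscreteValuationRing.exists_irreducible R
  rw [Groth.Calg6.ClosedImmStalk.length_stalk i y, hi, Models.mult, ← hy]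
  obtain ⟨W, hW, hyW, -⟩ := exists_isAffineOpen_mem_and_subset (U := (⊤ : X.left.Opens)) (x := i y) trivial
  have e : IntMult.stalkIdeal (Models.specialFibreIdeal R X) (i y) =
      (IsLocalRing.maximalIdeal R).map (Models.stalkHom R X (i y)) := by
    rw [Groth.ParaFormal.stalkIdeal_eq _ ⟨W, hW⟩ hyW, map_germ_specialFibre hπ ⟨W, hW⟩ (i y) hyW,
      hπ.maximalIdeal_eq, Ideal.map_span, Set.image_singleton]
  rw [e]

end Groth.ArSurfBasics.CompList
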