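import Groth.Agent.ArSurfBasics.Chains
import Mathlib.Topology.Sober

/-!
Spaces of dimension exactly one through chains of specializations.
-/

set_option autoImplicit false

universe u

open TopologicalSpace

namespace Groth.ArSurfBasics

theorem topologicalKrullDim_eq_one {α : Type*} [TopologicalSpace α] [T0Space α] [QuasiSober α]
    (h3 : ∀ a b c : α, a ⤳ b → a ≠ b → b ⤳ c → b = c) {a b : α} (hab : a ⤳ b) (hne : a ≠ b) :
    topologicalKrullDim α = 1 := by
  refine le_antisymm ?_ ?_
  · refine iSup_le fun p => ?_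
    by_contra hp
    have hp2 : 2 ≤ p.length := by
      by_contra hlt
      exact hp (by exact_mod_cast Nat.le_of_lt_succ (Nat.lt_of_not_ge hlt))
    have key : ∀ i : Fin (p.length + 1), ∃ q : α, IsGenericPoint q (p i : Set α) :=
      fun i => QuasiSober.sober (p i).isIrreducible (p i).isClosed
    choose q hq using key
    have hsp : ∀ i j, i < j → q j ⤳ q i ∧ q j ≠ q i := fun i j hij => by
      have hlt : (p i : Set α) ⊂ p j := SetLike.coe_ssubset_coe.2 (p.strictMono hij)
      refine ⟨(hq j).specializes (hlt.1 (hq i).mem), fun e => hlt.ne ?_⟩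
      rw [← (hq i).def, ← (hq j).def, e]
    obtain ⟨h1, n1⟩ := hsp ⟨1, by omega⟩ ⟨2, by omega⟩ (by simp [Fin.lt_def])
    obtain ⟨h0, n0⟩ := hsp ⟨0, by omega⟩ ⟨1, by omega⟩ (by simp [Fin.lt_def])
    exact n0 (h3 _ _ _ h1 n1 h0)
  · let s := (RelSeries.singleton {(x, y) : IrreducibleCloseds α × IrreducibleCloseds α | x < y}
      ⟨closure {b}, isIrreducible_singleton.closure, isClosed_closure⟩).snoc
      ⟨closure {a}, isIrreducible_singleton.closure, isClosed_closure⟩
      (closureSingleton_lt hab hne)
    exact Order.LTSeries.length_le_krullDim s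

end Groth.ArSurfBasics
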