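import Groth.Agent.VarietyBC.ZMTIso
import Groth.Agent.ArSurfBasics.Fibre
import Mathlib.AlgebraicGeometry.Morphisms.QuasiFinite

/-!
A proper birational morphism is either an isomorphism near a normal point, or the fibre over that
point has no isolated point.
-/

set_option autoImplicit false

universe u

open CategoryTheory CategoryTheory.Limits AlgebraicGeometry TopologicalSpace

namespace Groth.ArSurfBasics

/-- In a Noetherian sober space a point without strict specializations and generizations is open. -/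
theorem isOpen_singleton_of_isolated {α : Type*} [TopologicalSpace α] [NoetherianSpace α]
    [QuasiSober α] [T0Space α] (x : α) (h : ∀ z, z ⤳ x ∨ x ⤳ z → z = x) : IsOpen ({x} : Set α) := by
  obtain ⟨hfin, hex⟩ := maximal_irreducible_subsets (S := (Set.univ : Set α)) isClosed_univ
  let F : Set (Set α) := {Z | Maximal (fun T : Set α => IsIrreducible T ∧ T ⊆ Set.univ) Z ∧ x ∉ Z}
  have hcl : ∀ Z ∈ F, IsClosed Z := fun Z hZ => isClosed_of_closure_subset
    (hZ.1.2 ⟨hZ.1.1.1.closure, Set.subset_univ _⟩ subset_closure)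
  have hU : IsClosed (⋃₀ F) := by
    rw [Set.sUnion_eq_biUnion]
    exact (hfin.subset fun Z hZ => hZ.1).isClosed_biUnion hcl
  suffices hS : ({x} : Set α) = (⋃₀ F)ᶜ by rw [hS]; exact hU.isOpen_compl
  ext z
  constructor
  · rintro rfl ⟨Z, hZ, hz⟩
    exact hZ.2 hz
  · intro hz
    by_contra hne
    obtain ⟨Z, hzZ, hZ⟩ := hex {z} isIrreducible_singleton (Set.subset_univ _)
    refine hz ⟨Z, ⟨hZ, fun hxZ => ?_⟩, hzZ rfl⟩
    have hg := hZ.1.1.isGenericPoint_genericPoint_closure
    have h1 := h _ (Or.inl (hg.specializes (subset_closure hxZ)))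
    have h2 : hZ.1.1.genericPoint ⤳ z := hg.specializes (subset_closure (hzZ rfl))
    rw [h1] at h2
    exact hne (h _ (Or.inr h2))

/-- A point of a fibre without relations to other points of the fibre is a quasi-finite point. -/
theorem quasiFiniteAt_of_isolated {X Y : Scheme.{u}} (f : X ⟶ Y) [LocallyOfFiniteType f]
    [IsNoetherian X] (x : X) (h : ∀ z, f z = f x → z ⤳ x ∨ x ⤳ z → z = x) : f.QuasiFiniteAt x := by
  rw [Scheme.Hom.quasiFiniteAt_iff_isOpen_singleton_asFiber, ← (f.fiberHomeo (f x)).isOpen_image]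
  simp only [Set.image_singleton, Scheme.Hom.asFiber, Homeomorph.apply_symm_apply]
  haveI : QuasiSober (f ⁻¹' {f x} : Set X) := (f.fiberHomeo (f x)).symm.isClosedEmbedding.quasiSober
  refine isOpen_singleton_of_isolated _ fun z hz => Subtype.ext (h z z.2 ?_)
  exact hz.imp (fun h => h.map continuous_subtype_val) (fun h => h.map continuous_subtype_val)

/-- ZMT dichotomy: over a normal point either an isomorphism nearby, or every point of the fibre
has a strict generization or specialization inside the fibre. -/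
theorem isIso_nhd_or_related {X Y : Scheme.{u}} [IsIntegral X] [IsIntegral Y] [IsNoetherian X]
    (f : X ⟶ Y) [IsProper f] {W : Y.Opens} (hW : (W : Set Y).Nonempty) [IsIso (f ∣_ W)]
    (y : Y) [IsIntegrallyClosed (Y.presheaf.stalk y)] :
    (∃ V : Y.Opens, y ∈ V ∧ IsIso (f ∣_ V)) ∨
      ∀ x, f x = y → ∃ z, f z = y ∧ z ≠ x ∧ (z ⤳ x ∨ x ⤳ z) := by
  refine or_iff_not_imp_left.2 fun hno x hx => ?_
  by_contra! hc
  refine hno (Groth.VarietyBC.exists_isIso_of_quasiFiniteAt f hW y x hx
    (quasiFiniteAt_of_isolated f x fun z hz hrel => ?_))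
  by_contra hne
  obtain ⟨h1, h2⟩ := hc z (hz.trans hx) hne
  exact hrel.elim h1 h2

/-- A morphism which is an isomorphism near every point of the target is an isomorphism. -/
theorem isIso_of_forall_nhd {X Y : Scheme.{u}} (f : X ⟶ Y)
    (h : ∀ y, ∃ V : Y.Opens, y ∈ V ∧ IsIso (f ∣_ V)) : IsIso f := by
  choose V hV hiso using h
  have hsup : (⨆ y, V y) = ⊤ := top_le_iff.1 fun y _ => Opens.mem_iSup.2 ⟨y, hV y⟩
  exact (IsZariskiLocalAtTarget.iff_of_iSup_eq_top (P := MorphismProperty.isomorphisms Scheme) _ hsup).2 hiso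

end Groth.ArSurfBasics
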