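import Groth.Agent.ArSurfBasics.PointRecognition
import Groth.Agent.Ega4Algebra1.DimMaps

/-!
Proper birational morphisms of regular surfaces are composites of blow-ups of closed points.
-/

set_option autoImplicit false
set_option backward.isDefEq.respectTransparency.types false
set_option maxHeartbeats 1000000

universe u

open CategoryTheory CategoryTheory.Limits AlgebraicGeometry TopologicalSpace IsLocalRing

namespace Groth.ArSurfBasics.Factorization

variable {X Y : Scheme.{u}}

/-- The non-closed points contracted to closed points. -/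
def exc (f : X ⟶ Y) : Set X := {x | ¬ IsClosed ({x} : Set X) ∧ IsClosed ({f x} : Set Y)}

/-- A chain of three strict specializations does not fit into a surface. -/
theorem false_of_chain (hdim : topologicalKrullDim X ≤ 2) {a b c d : X} (h1 : b ⤳ a) (h1' : b ≠ a)
    (h2 : c ⤳ b) (h2' : c ≠ b) (h3 : d ⤳ c) (h3' : d ≠ c) : False := by
  have l1 : a < b := lt_of_le_not_ge h1 fun h => h1' (Specializes.antisymm (h : a ⤳ b) h1).eq.symm
  have l2 : b < c := lt_of_le_not_ge h2 fun h => h2' (Specializes.antisymm (h : b ⤳ c) h2).eq.symm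
  have l3 : c < d := lt_of_le_not_ge h3 fun h => h3' (Specializes.antisymm (h : c ⤳ d) h3).eq.symm
  let s : LTSeries X := (((RelSeries.singleton _ a).snoc b l1).snoc c (by simpa using l2)).snoc
    d (by simpa using l3)
  have h3 : ((3 : ℕ) : WithBot ℕ∞) ≤ Order.krullDim X := Order.LTSeries.length_le_krullDim s
  have hd' : Order.krullDim X ≤ 2 := by
    rwa [show Order.krullDim X = topologicalKrullDim X from
      (Order.krullDim_eq_of_orderIso irreducibleSetEquivPoints).symm]
  exact absurd (h3.trans hd') (by norm_num)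

theorem exists_specialization_of_not_isClosed {x : X} (hx : ¬ IsClosed ({x} : Set X)) :
    ∃ z, x ⤳ z ∧ x ≠ z := by
  by_contra hno
  push Not at hno
  refine hx (closure_eq_iff_isClosed.1 (Set.eq_of_subset_of_subset (fun z hz => ?_) subset_closure))
  exact (hno z (specializes_iff_mem_closure.2 hz)).symm

theorem isClosed_of_dim_two (hdim : topologicalKrullDim X ≤ 2) {x : X}
    (h2 : 2 ≤ ringKrullDim (X.presheaf.stalk x)) : IsClosed ({x} : Set X) := by
  rw [← closure_eq_iff_isClosed]
  refine (Set.eq_of_subset_of_subset (fun x' hx' => ?_) subset_closure)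
  by_contra hne'
  have hsp : x ⤳ x' := specializes_iff_mem_closure.2 hx'
  have hlt : x' < x := lt_of_le_not_ge hsp fun h => hne' (Specializes.antisymm (h : x' ⤳ x) hsp).eq
  have h3 := (Groth.Duality.ringKrullDim_stalk_le x').trans hdim
  rw [ringKrullDim_stalk_eq_coheight] at h3 h2
  rw [show (2 : WithBot ℕ∞) = (((2 : ℕ) : ℕ∞) : WithBot ℕ∞) from rfl] at h2 h3
  have h2' : ((2 : ℕ) : ℕ∞) ≤ Order.coheight x := WithBot.coe_le_coe.1 h2
  have h3' : Order.coheight x' ≤ ((2 : ℕ) : ℕ∞) := WithBot.coe_le_coe.1 h3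
  have := Order.coheight_strictAnti hlt (lt_of_le_of_lt
    ((Order.coheight_anti hlt.le).trans h3') (ENat.coe_lt_top 2))
  exact absurd ((h2'.trans_lt this).trans_le h3') (lt_irrefl _)

theorem isIntegrallyClosed_stalk (hY : ∀ y : Y, IsRegularLocalRing (Y.presheaf.stalk y)) (z : Y) :
    IsIntegrallyClosed (Y.presheaf.stalk z) := by
  haveI := hY z
  haveI := Groth.PicAux.ufd_of_isRegularLocalRing (Y.presheaf.stalk z)
  infer_instance

variable [IsIntegral X] [IsIntegral Y]

theorem apply_genericPoint (f : X ⟶ Y) {V : Y.Opens} (hV : IsIso (f ∣_ V)) (hVne : (V : Set Y).Nonempty) :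
    f (genericPoint X) = genericPoint Y ∧ genericPoint Y ∈ V := by
  obtain ⟨v, hv⟩ := hVne
  have hg : genericPoint Y ∈ V := ((genericPoint_spec Y).mem_open_set_iff V.2).2 ⟨v, trivial, hv⟩
  obtain ⟨w, hw⟩ := (f ∣_ V).homeomorph.surjective ⟨genericPoint Y, hg⟩
  have hfw : f w.1 = genericPoint Y := by simpa using congrArg Subtype.val hw
  have h1 : f (genericPoint X) ⤳ genericPoint Y :=
    hfw ▸ ((genericPoint_spec X).specializes (Set.mem_univ w.1)).map f.continuous
  exact ⟨(h1.antisymm ((genericPoint_spec Y).specializes (Set.mem_univ _))).eq, hg⟩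

theorem genericPoint_not_isClosed (hdim : topologicalKrullDim X = 2) :
    ¬ IsClosed ({genericPoint X} : Set X) := by
  intro hc
  haveI : Subsingleton X := ⟨fun a b => by
    have h : ∀ c : X, c = genericPoint X := fun c => by
      have := ((genericPoint_spec X).specializes (Set.mem_univ c))
      rw [specializes_iff_mem_closure, hc.closure_eq] at this
      exact this
    rw [h a, h b]⟩
  haveI : Subsingleton (TopologicalSpace.IrreducibleCloseds X) := ⟨fun s t => TopologicalSpace.IrreducibleCloseds.ext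
    ((Subsingleton.eq_univ_of_nonempty s.isIrreducible.1).trans
      (Subsingleton.eq_univ_of_nonempty t.isIrreducible.1).symm)⟩
  have h0 : topologicalKrullDim X ≤ 0 := Order.krullDim_nonpos_of_subsingleton
  rw [hdim] at h0
  exact absurd h0 (by norm_num)

variable [IsLocallyNoetherian Y] (f : X ⟶ Y) [IsProper f]
  {V : Y.Opens} (hV : IsIso (f ∣_ V)) (hVne : (V : Set Y).Nonempty)
  (hY : ∀ y : Y, IsRegularLocalRing (Y.presheaf.stalk y))

include hV hVne hY in
theorem geometricallyConnected : GeometricallyConnected f := by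
  obtain ⟨hfgen, hg⟩ := apply_genericPoint f hV hVne
  have hdom : f.base (genericPoint X) ⤳ genericPoint Y := by rw [hfgen]
  have hσ := Groth.HensPair.bijective_stalkToFunctionField_of_mem f hdom hV (by rw [hfgen]; exact hg)
  exact Groth.HensPair.geometricallyConnected_of_isIso_app f Groth.PnCoh.projFinite fun U _ =>
    Groth.HensPair.isIso_app_of_isIntegralElem f Groth.PnCoh.projFinite hdom (isIntegrallyClosed_stalk hY)
      (fun z _ => hσ.2 z) U

include hV hVne hY in
/-- A fibre with two points lies over a point with two-dimensional local ring. -/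
theorem two_le_dim {x x' : X} (hne : x ≠ x') (hx' : f x' = f x) :
    2 ≤ ringKrullDim (Y.presheaf.stalk (f x)) := by
  refine not_lt.1 fun hlt => ?_
  haveI := geometricallyConnected f hV hVne hY
  obtain ⟨hfgen, hg⟩ := apply_genericPoint f hV hVne
  have hdom : f.base (genericPoint X) ⤳ genericPoint Y := by rw [hfgen]
  have hσ := Groth.HensPair.bijective_stalkToFunctionField_of_mem f hdom hV (by rw [hfgen]; exact hg)
  haveI := isIntegrallyClosed_stalk hY (f x)
  haveI := hY (f x)
  have hq := Groth.HensPair.quasiFiniteAt_of_valuationRing f hdom hσ.2 x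
    (Groth.HensPair.valuationRing_of_krullDim_lt_two hlt)
  have huniv := hq.isClopen_singleton_asFiber.eq_univ ⟨_, rfl⟩
  have hmem : x' ∈ Set.range (f.fiberι (f x)) := by rw [Scheme.Hom.range_fiberι]; exact hx'
  obtain ⟨z, hz⟩ := hmem
  have hzx : z = f.asFiber x := by
    have : z ∈ ({f.asFiber x} : Set _) := huniv ▸ Set.mem_univ z
    exact this
  rw [hzx, Scheme.Hom.fiberι_asFiber] at hz
  exact hne hz

variable [IsLocallyNoetherian X] [CompactSpace X] (hdY : topologicalKrullDim Y ≤ 2)

include hV hVne hY hdY in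
/-- Points off the images of contracted curves have singleton fibres. -/
theorem subsingleton_fibre {y : Y} (hy : y ∉ f '' exc f) : (f ⁻¹' {y}).Subsingleton := by
  intro x hx x' hx'
  by_contra hne
  have hx0 : f x = y := hx
  subst hx0
  have hyc : IsClosed ({f x} : Set Y) := isClosed_of_dim_two hdY (two_le_dim f hV hVne hY hne hx')
  haveI := geometricallyConnected f hV hVne hY
  haveI : AlgebraicGeometry.IsNoetherian X := {}
  let F : Set X := f ⁻¹' {f x}
  have hcl : ∀ z ∈ F, IsClosed ({z} : Set X) := fun z hz => by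
    by_contra hzc
    exact hy ⟨z, ⟨hzc, (hz : f z = f x).symm ▸ hyc⟩, hz⟩
  have hFc : IsClosed F := hyc.preimage f.continuous
  obtain ⟨S, hSfin, hSc, hSirr, hS⟩ := NoetherianSpace.exists_finite_set_isClosed_irreducible hFc
  have hFfin : F.Finite := by
    rw [hS]
    refine hSfin.sUnion fun s hs => ?_
    obtain ⟨z, hz⟩ := QuasiSober.sober (hSirr s hs) (hSc s hs)
    rw [← hz.def, (hcl z (hS ▸ ⟨s, hs, hz.mem⟩)).closure_eq]
    exact Set.finite_singleton z
  have hrest : IsClosed (F \ {x}) := by
    rw [← Set.biUnion_of_singleton (F \ {x})]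
    exact (hFfin.subset Set.sdiff_subset).isClosed_biUnion fun z hz => hcl z hz.1
  have hpre : _root_.IsPreconnected F := (f.isConnected_preimage_singleton (f x)).isPreconnected
  obtain ⟨w, -, hw1, hw2⟩ := isPreconnected_closed_iff.1 hpre {x} (F \ {x}) (hcl x rfl) hrest
    (fun z hz => (em (z = x)).imp id fun h => ⟨hz, h⟩) ⟨x, rfl, rfl⟩
    ⟨x', hx', hx', fun h : x' = x => hne h.symm⟩
  exact hw2.2 hw1

omit [IsLocallyNoetherian Y] in
include hV hVne in
/-- There are only finitely many contracted curves. -/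
theorem finite_exc (hdX : topologicalKrullDim X = 2) (hdY' : topologicalKrullDim Y = 2) : (exc f).Finite := by
  obtain ⟨hfgen, hg⟩ := apply_genericPoint f hV hVne
  haveI : AlgebraicGeometry.IsNoetherian X := {}
  have hinj : ∀ a b : X, f a ∈ V → f a = f b → a = b := fun a b ha hab =>
    congrArg Subtype.val ((f ∣_ V).homeomorph.injective (a₁ := ⟨a, ha⟩) (a₂ := ⟨b, (hab ▸ ha : f b ∈ V)⟩)
      (Subtype.ext (by simpa using hab)))
  obtain ⟨S, hSfin, hSc, hSirr, hS⟩ := NoetherianSpace.exists_finite_set_isClosed_irreducible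
    ((V.2.isClosed_compl).preimage f.continuous)
  choose gp hgp using fun s : S => QuasiSober.sober (hSirr s s.2) (hSc s s.2)
  haveI := hSfin.to_subtype
  refine (Set.finite_range gp).subset fun x ⟨hxc, hfxc⟩ => ?_
  have hxC : x ∈ f ⁻¹' (V : Set Y)ᶜ := fun h => hxc (by
    have : f ⁻¹' {f x} = {x} := Set.eq_singleton_iff_unique_mem.2 ⟨rfl, fun z hz => hinj z x (by
      rw [show f z = f x from hz]; exact h) hz⟩
    exact this ▸ hfxc.preimage f.continuous)
  obtain ⟨s, hs, hxs⟩ := hS.subset hxC
  refine ⟨⟨s, hs⟩, ?_⟩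
  by_contra hne
  obtain ⟨z, hxz, hxz'⟩ := exists_specialization_of_not_isClosed hxc
  have hgs : gp ⟨s, hs⟩ ⤳ x := (hgp ⟨s, hs⟩).specializes hxs
  refine false_of_chain hdX.le hxz hxz' hgs hne
    ((genericPoint_spec X).specializes (Set.mem_univ _)) fun e => ?_
  have hmem : gp ⟨s, hs⟩ ∈ f ⁻¹' (V : Set Y)ᶜ := hS ▸ ⟨s, hs, (hgp ⟨s, hs⟩).mem⟩
  rw [← e, Set.mem_preimage, hfgen] at hmem
  exact hmem hg

omit [IsLocallyNoetherian X] [CompactSpace X] in
include hV hVne hY in
/-- A morphism with singleton fibres over an open is an isomorphism there. -/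
theorem isIso_restrict {W : Y.Opens} (hW : ∀ y ∈ W, (f ⁻¹' {y}).Subsingleton) : IsIso (f ∣_ W) := by
  obtain ⟨hfgen, hg⟩ := apply_genericPoint f hV hVne
  rcases W.carrier.eq_empty_or_nonempty with hWe | ⟨w, hw⟩
  · haveI : IsEmpty (W : Scheme.{u}) := ⟨fun z => (hWe ▸ z.2 : z.1 ∈ (∅ : Set Y))⟩
    infer_instance
  have hgW : genericPoint Y ∈ W := ((genericPoint_spec Y).mem_open_set_iff W.2).2 ⟨w, trivial, hw⟩
  have hξ : f (genericPoint X) ∈ W := hfgen.symm ▸ hgW
  haveI : Nonempty (W : Scheme.{u}) := ⟨⟨_, hgW⟩⟩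
  haveI : Nonempty (f ⁻¹ᵁ W : Scheme.{u}) := ⟨⟨_, hξ⟩⟩
  haveI : IsIntegral (W : Scheme.{u}) := isIntegral_of_isOpenImmersion W.ι
  haveI : IsIntegral (f ⁻¹ᵁ W : Scheme.{u}) := isIntegral_of_isOpenImmersion (f ⁻¹ᵁ W).ι
  have hgenW : (genericPoint (W : Scheme.{u})).1 = genericPoint Y := by
    exact genericPoint_eq_of_isOpenImmersion W.ι
  have hgenX : (genericPoint (f ⁻¹ᵁ W : Scheme.{u})).1 = genericPoint X := by
    exact genericPoint_eq_of_isOpenImmersion (f ⁻¹ᵁ W).ι
  have hgen : (f ∣_ W) (genericPoint (f ⁻¹ᵁ W : Scheme.{u})) = genericPoint (W : Scheme.{u}) := by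
    apply Subtype.ext
    rw [hgenW, ← hfgen, ← hgenX]
    simp
  have hbir : IsIso ((f ∣_ W).stalkMap (genericPoint (f ⁻¹ᵁ W : Scheme.{u}))) := by
    refine ((MorphismProperty.isomorphisms CommRingCat.{u}).arrow_mk_iso_iff
      (morphismRestrictStalkMap f W _)).2 ?_
    show IsIso (f.stalkMap (genericPoint (f ⁻¹ᵁ W : Scheme.{u})).1)
    rw [hgenX]
    exact ((MorphismProperty.isomorphisms CommRingCat.{u}).arrow_mk_iso_iff
      (morphismRestrictStalkMap f V ⟨genericPoint X, by
        show f (genericPoint X) ∈ V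
        rw [hfgen]; exact hg⟩)).1 (by
          show IsIso _
          infer_instance)
  have hn : Pi1.IsNormalScheme (W : Scheme.{u}) := fun z => by
    haveI := hY z.1
    haveI : IsRegularLocalRing ((W : Scheme.{u}).presheaf.stalk z) :=
      IsRegularLocalRing.of_ringEquiv (W.stalkIso z).commRingCatIsoToRingEquiv.symm
    haveI := Groth.PicAux.ufd_of_isRegularLocalRing ((W : Scheme.{u}).presheaf.stalk z)
    exact ⟨inferInstance, inferInstance⟩
  refine (Groth.Agent.S2415.result hn (f ∣_ W) hgen hbir fun z => ?_).2 inferInstance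
  refine Set.Subsingleton.finite fun a ha b hb => Subtype.ext (hW z.1 z.2 ?_ ?_)
  · simpa using congrArg Subtype.val (ha : (f ∣_ W) a = z)
  · simpa using congrArg Subtype.val (hb : (f ∣_ W) b = z)

omit [IsIntegral X] [IsIntegral Y] [IsLocallyNoetherian Y] [IsLocallyNoetherian X] [CompactSpace X] [IsProper f] in
/-- A blow-up of a closed point with two-dimensional regular local ring starts a contraction sequence. -/
theorem contractionSeq_blowUp_comp {A B C : Scheme.{u}} [AlgebraicGeometry.IsNoetherian B] (b : A ⟶ B) [IsProper b] {y : B}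
    (hy : IsClosed ({y} : Set B)) [IsRegularLocalRing (B.presheaf.stalk y)]
    (hd : ringKrullDim (B.presheaf.stalk y) = 2)
    (hb : BlowUp.IsBlowUp b (Scheme.IdealSheafData.vanishingIdeal ⟨{y}, hy⟩))
    {r : B ⟶ C} (hr : Models.IsContractionSeq r) : Models.IsContractionSeq (b ≫ r) := by
  obtain ⟨j, hj, -, hjr, hjk, ⟨t⟩⟩ := Groth.ArSurfBasics.ExcLineGlobal.exists_excLine b hy hb hd
  refine Models.IsContractionSeq.step j b r hj ?_ ?_ hr
  · exact ⟨hjk ▸ hb.1, ResidueField (B.presheaf.stalk y), inferInstance, Iso.refl _,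
      ⟨(Scheme.Modules.pullbackCongr (Category.id_comp j)).app _ ≪≫
        eqToIso (congrArg (fun J => (Scheme.Modules.pullback j).obj (ClSub.idealMod J)) hjk) ≪≫ t⟩⟩
  · refine ⟨inferInstance, inferInstance, y, hy, ?_, ‹_›, hd, hb⟩
    obtain ⟨a, -⟩ := PointRecognition.exists_two (ResidueField (B.presheaf.stalk y))
    refine Set.eq_singleton_iff_unique_mem.2 ⟨⟨a, ?_⟩, ?_⟩
    · exact (hjr ▸ ⟨a, rfl⟩ : j a ∈ b ⁻¹' {y})
    · rintro _ ⟨c, rfl⟩
      exact (hjr ▸ ⟨c, rfl⟩ : j c ∈ b ⁻¹' {y})

omit f in
/-- **Factorization**: composites of a proper birational morphism of regular surfaces with a contraction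
sequence are contraction sequences, unless it is an isomorphism. -/
theorem contractionSeq_comp (n : ℕ) : ∀ {X Y C : Scheme.{u}} [IsIntegral X] [IsIntegral Y]
    [AlgebraicGeometry.IsNoetherian X] [AlgebraicGeometry.IsNoetherian Y] (f : X ⟶ Y) [IsProper f]
    (_ : ∀ x : X, IsRegularLocalRing (X.presheaf.stalk x)) (_ : ∀ y : Y, IsRegularLocalRing (Y.presheaf.stalk y))
    (_ : topologicalKrullDim X = 2) (_ : topologicalKrullDim Y = 2)
    {V : Y.Opens} (_ : IsIso (f ∣_ V)) (_ : (V : Set Y).Nonempty)
    (_ : (exc f).ncard ≤ n) (_ : ¬ IsIso f)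
    {r : Y ⟶ C} (_ : Models.IsContractionSeq r), Models.IsContractionSeq (f ≫ r) := by
  induction n using Nat.strong_induction_on with
  | _ n ih =>
    intro X Y C _ _ _ _ f _ hX hY hdX hdY V hV hVne hn hniso r hr
    have hfin := finite_exc f hV hVne hdX hdY
    obtain ⟨y, hyE⟩ : (f '' exc f).Nonempty := by
      by_contra h
      refine hniso ?_
      have htop : IsIso (f ∣_ (⊤ : Y.Opens)) := isIso_restrict f hV hVne hY fun y _ =>
        subsingleton_fibre f hV hVne hY hdY.le fun hy => h ⟨y, hy⟩
      haveI := htop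
      haveI : IsIso (⊤ : Y.Opens).ι := inferInstanceAs (IsIso Y.topIso.hom)
      haveI : IsIso (f ⁻¹ᵁ (⊤ : Y.Opens)).ι := inferInstanceAs (IsIso X.topIso.hom)
      have heq : f = inv (f ⁻¹ᵁ (⊤ : Y.Opens)).ι ≫ (f ∣_ (⊤ : Y.Opens)) ≫ (⊤ : Y.Opens).ι := by
        rw [morphismRestrict_ι, IsIso.inv_hom_id_assoc]
      rw [heq]
      infer_instance
    obtain ⟨x, hx, rfl⟩ := hyE
    obtain ⟨x', hxx', hne⟩ := exists_specialization_of_not_isClosed hx.1
    have hfx' : f x' = f x := by
      have h : f x' ∈ ({f x} : Set Y) := hx.2.closure_eq ▸ (hxx'.map f.continuous).mem_closure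
      exact h
    obtain ⟨hfgen, hgV⟩ := apply_genericPoint f hV hVne
    have hd : ringKrullDim (Y.presheaf.stalk (f x)) = 2 :=
      le_antisymm ((Groth.Duality.ringKrullDim_stalk_le _).trans hdY.le) (two_le_dim f hV hVne hY hne hfx')
    have hgen : f x ≠ genericPoint Y := fun e => genericPoint_not_isClosed hdY (e ▸ hx.2)
    haveI := hY (f x)
    -- blow up the point
    let I := Scheme.IdealSheafData.vanishingIdeal (⟨{f x}, hx.2⟩ : Closeds Y)
    obtain ⟨Y', π, hπ⟩ := Groth.Agent.S8859.result Y I
    obtain ⟨g, hg, -⟩ := hπ.2 _ f (FactorBlowUp.isEffCartierIdeal_comap f hX hY hdX.le hdY.le hV hVne hx.2 hgen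
      ⟨x, x', hne, rfl, hfx'⟩)
    have hI : I ≠ ⊥ := fun h0 => by
      have h1 := congrArg (fun J => (Scheme.IdealSheafData.support J : Set Y)) h0
      simp only [I, Scheme.IdealSheafData.coe_support_vanishingIdeal, Scheme.IdealSheafData.support_bot] at h1
      have hmem : genericPoint Y ∈ ({f x} : Set Y) := (Set.ext_iff.1 h1 _).2 trivial
      exact hgen hmem.symm
    obtain ⟨_, hπgen, -⟩ := Groth.Agent.S2348.result I hI π hπ
    haveI : IsProper π := Groth.HTopHyper.isProper_of_isBlowUp hπ fun U =>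
      haveI := IsLocallyNoetherian.component_noetherian (X := Y) U
      (isNoetherianRing_iff_ideal_fg _).1 inferInstance _
    haveI : IsLocallyNoetherian Y' := LocallyOfFiniteType.isLocallyNoetherian π
    haveI : CompactSpace Y' := QuasiCompact.compactSpace_of_compactSpace π
    haveI : AlgebraicGeometry.IsNoetherian Y' := {}
    have hgf : ∀ z, π (g z) = f z := fun z => by rw [← Scheme.Hom.comp_apply, hg]
    haveI : IsProper (g ≫ π) := by rw [hg]; infer_instance
    haveI : IsProper g := IsProper.of_comp g π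
    by_cases hgiso : IsIso g
    · have hfb : BlowUp.IsBlowUp f I := hg ▸ Groth.RefRank.isBlowUp_iso_comp hπ (asIso g)
      exact contractionSeq_blowUp_comp f hx.2 hd hfb hr
    · have hr' := contractionSeq_blowUp_comp π hx.2 hd hπ hr
      have hY' := fun z => PointRecognition.isRegularLocalRing_blowUp hx.2 hY hd π hπ z
      -- `g` is birational
      let W : Y.Opens := V ⊓ ⟨({f x} : Set Y)ᶜ, hx.2.isOpen_compl⟩
      have hπW : IsIso (π ∣_ W) := Groth.BlowUpBasics.isIso_morphismRestrict hπ W (by
        rw [Scheme.IdealSheafData.coe_support_vanishingIdeal]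
        exact Set.disjoint_singleton_left.2 fun h => h.2 rfl)
      have hgW : genericPoint Y ∈ W := ⟨hgV, hgen.symm⟩
      have hfW : IsIso (f ∣_ W) := isIso_restrict f hV hVne hY fun z hz => fun a ha b hb =>
        congrArg Subtype.val ((f ∣_ V).homeomorph.injective
          (a₁ := ⟨a, show f a ∈ V by rw [show f a = z from ha]; exact hz.1⟩) (a₂ := ⟨b, show f b ∈ V by rw [show f b = z from hb]; exact hz.1⟩)
          (Subtype.ext (by simpa using (show f a = z from ha).trans (show f b = z from hb).symm)))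
      have hgU : IsIso (g ∣_ (π ⁻¹ᵁ W)) := by
        have h1 : IsIso ((g ≫ π) ∣_ W) := by rw [hg]; exact hfW
        rw [morphismRestrict_comp] at h1
        exact @IsIso.of_isIso_comp_right _ _ _ _ _ (g ∣_ (π ⁻¹ᵁ W)) (π ∣_ W) hπW h1
      have hπWne : ((π ⁻¹ᵁ W : Y'.Opens) : Set Y').Nonempty := ⟨genericPoint Y', by
        show π (genericPoint Y') ∈ W
        rw [hπgen]; exact hgW⟩
      have hgsurj : Function.Surjective g := fun z => by
        obtain ⟨hggen, -⟩ := apply_genericPoint g hgU hπWne
        exact ((genericPoint_spec Y').specializes (Set.mem_univ z)).mem_closed g.isClosedMap.isClosed_range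
          ⟨_, hggen⟩
      -- dimension of the blow-up
      have hdY' : topologicalKrullDim Y' = 2 := by
        refine le_antisymm ((Groth.Ega4Algebra1.topologicalKrullDim_le_of_specializing g
          g.isClosedMap.specializingMap hgsurj).trans hdX.le) ?_
        have hπsurj : Function.Surjective π := fun z =>
          ((genericPoint_spec Y).specializes (Set.mem_univ z)).mem_closed π.isClosedMap.isClosed_range
            ⟨_, hπgen⟩
        exact hdY.ge.trans (Groth.Ega4Algebra1.topologicalKrullDim_le_of_specializing π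
          π.isClosedMap.specializingMap hπsurj)
      -- fewer contracted curves
      have hsub : exc g ⊆ exc f := fun z ⟨hz, hgz⟩ => ⟨hz, by
        have := π.isClosedMap _ hgz
        rwa [Set.image_singleton, hgf] at this⟩
      obtain ⟨j, hj, -, hjr, -, -⟩ := ExcLineGlobal.exists_excLine π hx.2 hπ hd
      obtain ⟨a, b, hab⟩ := PointRecognition.exists_two (ResidueField (Y.presheaf.stalk (f x)))
      have : ∃ z ∈ exc f, z ∉ exc g := by
        obtain ⟨η, hη⟩ := QuasiSober.sober ((IrreducibleSpace.isIrreducible_univ (CohB1.ProjSpace 1 (ResidueField (Y.presheaf.stalk (f x))))).image j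
          j.continuous.continuousOn) (j.isClosedMap _ isClosed_univ)
        rw [Set.image_univ] at hη
        have hηc : ¬ IsClosed ({η} : Set Y') := fun hc => hab (by
          have key : ∀ c, j c = η := fun c => by
            have h : j c ∈ closure ({η} : Set Y') := hη.def.symm ▸ ⟨c, rfl⟩
            rw [hc.closure_eq] at h
            exact h
          exact j.isClosedEmbedding.injective ((key a).trans (key b).symm))
        obtain ⟨z, rfl⟩ := hgsurj η
        have hfz : f z = f x := by
          rw [← hgf]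
          exact (hjr ▸ hη.mem : g z ∈ π ⁻¹' {f x})
        refine ⟨z, ⟨fun hc => hηc (by simpa using g.isClosedMap _ hc), ?_⟩, fun h => hηc h.2⟩
        rw [hfz]; exact hx.2
      obtain ⟨z, hzf, hzg⟩ := this
      have hlt : (exc g).ncard < (exc f).ncard :=
        Set.ncard_lt_ncard ⟨hsub, fun h => hzg (h hzf)⟩ hfin
      rw [← hg, Category.assoc]
      exact ih (exc g).ncard (hlt.trans_le hn) g hX hY' hdX hdY' hgU hπWne le_rfl hgiso hr'

/-- A proper birational morphism of regular surfaces is a contraction sequence. -/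
theorem isContractionSeq [AlgebraicGeometry.IsNoetherian Y] (hX : ∀ x : X, IsRegularLocalRing (X.presheaf.stalk x))
    (hdX : topologicalKrullDim X = 2) (hdY2 : topologicalKrullDim Y = 2) {V : Y.Opens} (hV : IsIso (f ∣_ V))
    (hVne : (V : Set Y).Nonempty) (hY : ∀ y : Y, IsRegularLocalRing (Y.presheaf.stalk y)) :
    Models.IsContractionSeq f := by
  by_cases h : IsIso f
  · exact Models.IsContractionSeq.iso (asIso f)
  · haveI : AlgebraicGeometry.IsNoetherian X := {}
    have := contractionSeq_comp (exc f).ncard f hX hY hdX hdY2 hV hVne le_rfl h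
      (Models.IsContractionSeq.iso (Iso.refl Y))
    simpa using this

/-- If a morphism is not an isomorphism near a point, the fibre of that point has two points. -/
theorem exists_pair_of_not_iso_near [AlgebraicGeometry.IsNoetherian Y]
    (hdX : topologicalKrullDim X = 2) (hdY2 : topologicalKrullDim Y = 2) {V : Y.Opens} (hV : IsIso (f ∣_ V))
    (hVne : (V : Set Y).Nonempty) (hY : ∀ y : Y, IsRegularLocalRing (Y.presheaf.stalk y)) {y : Y}
    (hP : ∀ W : Y.Opens, y ∈ W → ¬ IsIso (f ∣_ W)) :
    ∃ x x' : X, x ≠ x' ∧ f x = y ∧ f x' = y := by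
  by_contra hno
  have hB : y ∉ f '' exc f := by
    rintro ⟨x, hx, rfl⟩
    obtain ⟨x', hxx', hne⟩ := exists_specialization_of_not_isClosed hx.1
    have hfx' : f x' ∈ ({f x} : Set Y) := hx.2.closure_eq ▸ (hxx'.map f.continuous).mem_closure
    exact hno ⟨x, x', hne, rfl, hfx'⟩
  have hfin : (f '' exc f).Finite := (finite_exc f hV hVne hdX hdY2).image f
  have hclosed : IsClosed (f '' exc f) := by
    rw [← Set.biUnion_of_singleton (f '' exc f)]
    refine hfin.isClosed_biUnion ?_
    rintro _ ⟨x, hx, rfl⟩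
    exact hx.2
  exact hP ⟨(f '' exc f)ᶜ, hclosed.isOpen_compl⟩ hB
    (isIso_restrict f hV hVne hY fun z hz => subsingleton_fibre f hV hVne hY hdY2.le hz)

end Groth.ArSurfBasics.Factorization
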