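import Groth.Agent.ArSurfBasics.BlowUpChartAt
import Groth.Agent.ArSurfBasics.Factorization
import Groth.Agent.BlowUpBasics.CartierDiv

/-!
Principalization of an ideal with finite support at regular two-dimensional points by blow-ups of closed points.
-/

set_option autoImplicit false
set_option backward.isDefEq.respectTransparency.types false
set_option maxHeartbeats 1000000

universe u

open CategoryTheory CategoryTheory.Limits AlgebraicGeometry TopologicalSpace IsLocalRing IntMult

namespace Groth.ArSurfBasics.Principalization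

variable {X : Scheme.{u}}

theorem stalkIdeal_eq_top_iff (I : X.IdealSheafData) (x : X) :
    stalkIdeal I x = ⊤ ↔ x ∉ I.support := by
  obtain ⟨U, hx, -⟩ := Groth.Divisors.exists_affine_le x ⊤ trivial
  rw [Groth.ParaFormal.stalkIdeal_eq I U hx, Scheme.IdealSheafData.mem_support_iff_of_mem hx,
    Scheme.mem_zeroLocus_iff]
  constructor
  · intro htop h
    have hle : (I.ideal U).map (X.presheaf.germ U.1 x hx).hom ≤ maximalIdeal (X.presheaf.stalk x) := by
      rw [Ideal.map_le_iff_le_comap]
      intro a ha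
      exact (mem_maximalIdeal _).2 fun hu => h a ha ((X.mem_basicOpen a x hx).2 hu)
    exact Ideal.IsPrime.ne_top' (top_le_iff.1 (htop ▸ hle))
  · intro h
    simp only [not_forall, not_not] at h
    obtain ⟨a, ha, hax⟩ := h
    exact Ideal.eq_top_of_isUnit_mem _ (Ideal.mem_map_of_mem _ ha) ((X.mem_basicOpen a x hx).1 hax)

theorem stalkIdeal_mul (I J : X.IdealSheafData) (x : X) :
    stalkIdeal (I * J) x = stalkIdeal I x * stalkIdeal J x := by
  obtain ⟨U, hx, -⟩ := Groth.Divisors.exists_affine_le x ⊤ trivial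
  rw [Groth.ParaFormal.stalkIdeal_eq _ U hx, Groth.ParaFormal.stalkIdeal_eq _ U hx,
    Groth.ParaFormal.stalkIdeal_eq _ U hx, Scheme.IdealSheafData.ideal_mul, Pi.mul_apply, Ideal.map_mul]

theorem stalkIdeal_pow (I : X.IdealSheafData) (x : X) (n : ℕ) :
    stalkIdeal (I ^ n) x = stalkIdeal I x ^ n := by
  induction n with
  | zero =>
    obtain ⟨U, hx, -⟩ := Groth.Divisors.exists_affine_le x ⊤ trivial
    rw [pow_zero, pow_zero, Groth.ParaFormal.stalkIdeal_eq _ U hx]
    simp [Ideal.map_top]
  | succ n ih => rw [pow_succ, pow_succ, stalkIdeal_mul, ih]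

theorem le_of_stalks {I J : X.IdealSheafData} (h : ∀ x, stalkIdeal I x ≤ stalkIdeal J x) : I ≤ J := by
  intro U a ha
  rw [Groth.ParaFormal.ideal_eq_comap_stalk]
  exact fun x hx => h x ((Groth.ParaFormal.ideal_eq_comap_stalk I U a).1 ha x hx)

/-- The colength at a point. -/
noncomputable def col (I : X.IdealSheafData) (x : X) : ℕ :=
  (Module.length (X.presheaf.stalk x) (X.presheaf.stalk x ⧸ stalkIdeal I x)).toNat

/-- Finite support in regular two-dimensional closed points. -/
structure Good (I : X.IdealSheafData) : Prop where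
  finite : (I.support : Set X).Finite
  isClosed : ∀ x ∈ I.support, IsClosed ({x} : Set X)
  regular : ∀ x ∈ I.support, IsRegularLocalRing (X.presheaf.stalk x)
  dim : ∀ x ∈ I.support, ringKrullDim (X.presheaf.stalk x) = 2

theorem exists_pow_le [IsLocallyNoetherian X] {I : X.IdealSheafData} {x : X}
    (hcl : ∀ x' : X, x' ∈ I.support → x' ⤳ x → x' = x) :
    ∃ n, maximalIdeal (X.presheaf.stalk x) ^ n ≤ stalkIdeal I x := by
  refine Ideal.exists_pow_le_of_le_radical_of_fg ?_ (Ideal.fg_of_isNoetherianRing _)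
  rw [Ideal.radical_eq_sInf]
  refine le_sInf fun P ⟨hP, hPprime⟩ => ?_
  haveI := hPprime
  obtain ⟨x', h, rfl⟩ := Groth.ParaFormal.exists_spec_comap_eq x P
  have hx' : x' ∈ I.support := by
    by_contra hno
    rw [← stalkIdeal_eq_top_iff, ← Groth.ParaFormal.stalkIdeal_spec I h] at hno
    have := (Ideal.map_mono hP).trans (Ideal.map_comap_le
      (f := (X.presheaf.stalkSpecializes h).hom) (K := maximalIdeal (X.presheaf.stalk x')))
    rw [hno] at this
    exact Ideal.IsPrime.ne_top' (top_le_iff.1 this)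
  have e := hcl x' hx' h
  subst e
  rw [TopCat.Presheaf.stalkSpecializes_refl]
  exact le_of_eq (Ideal.comap_id _).symm

theorem length_ne_top {A : Type u} [CommRing A] [IsLocalRing A] [IsNoetherianRing A] {I : Ideal A} {n : ℕ}
    (hIn : maximalIdeal A ^ n ≤ I) : Module.length A (A ⧸ I) ≠ ⊤ := by
  haveI : Ring.KrullDimLE 0 (A ⧸ I) := Ring.krullDimLE_zero_iff.2 fun P hP => by
    haveI := hP
    have hPc : maximalIdeal A ≤ P.comap (Ideal.Quotient.mk I) := fun r hr =>
      (hP.comap (Ideal.Quotient.mk I)).mem_of_pow_mem n (by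
        rw [Ideal.mem_comap, Ideal.Quotient.eq_zero_iff_mem.2 (hIn (Ideal.pow_mem_pow hr n))]
        exact zero_mem _)
    have hmax : maximalIdeal A = P.comap (Ideal.Quotient.mk I) :=
      (IsLocalRing.maximalIdeal.isMaximal A).eq_of_le ((hP.comap _).ne_top) hPc
    rw [← Ideal.map_comap_of_surjective _ Ideal.Quotient.mk_surjective P, ← hmax]
    refine (Ideal.map_eq_top_or_isMaximal_of_surjective _ Ideal.Quotient.mk_surjective
      (IsLocalRing.maximalIdeal.isMaximal A)).resolve_left ?_
    rw [hmax, Ideal.map_comap_of_surjective _ Ideal.Quotient.mk_surjective]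
    exact hP.ne_top
  haveI : IsArtinianRing (A ⧸ I) := isArtinianRing_iff_krullDimLE_zero.2 inferInstance
  haveI : IsArtinian A (A ⧸ I) := isArtinian_of_surjective_algebraMap (Ideal.Quotient.mk_surjective (I := I))
  exact Module.length_ne_top

theorem length_eq_of_ringEquiv {A B : Type u} [CommRing A] [CommRing B] (e : A ≃+* B) (I : Ideal A) :
    Module.length A (A ⧸ I) = Module.length B (B ⧸ I.map (e : A →+* B)) := by
  rw [Module.length_quotient, Module.length_quotient]
  have h := Order.coheight_orderIso (RingEquiv.idealComapOrderIso e).symm I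
  rw [← h]
  congr 1

variable [IsLocallyNoetherian X]

theorem cast_col {I : X.IdealSheafData} (hI : Good I) {x : X} (hx : x ∈ I.support) :
    (col I x : ℕ∞) = Module.length (X.presheaf.stalk x) (X.presheaf.stalk x ⧸ stalkIdeal I x) := by
  haveI := hI.regular x hx
  obtain ⟨n, hn⟩ := exists_pow_le (I := I) (x := x) (fun x' hx' h => by
    have := (hI.isClosed x' hx').closure_eq ▸ h.mem_closure
    exact (this : x ∈ ({x'} : Set X)).symm)
  exact ENat.coe_toNat (length_ne_top hn)

theorem col_pos {I : X.IdealSheafData} (hI : Good I) {x : X} (hx : x ∈ I.support) : 0 < col I x := by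
  rw [← Nat.cast_pos (α := ℕ∞), cast_col hI hx, Module.length_pos_iff]
  exact Ideal.Quotient.nontrivial_iff.2 fun h => ((stalkIdeal_eq_top_iff I x).1 h) hx

/-- The local statement at a point over the centre. -/
theorem over_point {X' : Scheme.{u}} (b : X' ⟶ X) {x : X} (hx : IsClosed ({x} : Set X))
    [IsRegularLocalRing (X.presheaf.stalk x)] (hdim : ringKrullDim (X.presheaf.stalk x) = 2)
    (hb : BlowUp.IsBlowUp b (Scheme.IdealSheafData.vanishingIdeal ⟨{x}, hx⟩))
    (I : X.IdealSheafData) (I₁ : X'.IdealSheafData) {d n : ℕ}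
    (hn : maximalIdeal (X.presheaf.stalk x) ^ n ≤ stalkIdeal I x) (hd : 1 ≤ d)
    (hId : stalkIdeal I x ≤ maximalIdeal (X.presheaf.stalk x) ^ d)
    (hId' : ¬ stalkIdeal I x ≤ maximalIdeal (X.presheaf.stalk x) ^ (d + 1))
    (heq : I.comap b = I₁ * (Scheme.IdealSheafData.vanishingIdeal ⟨{x}, hx⟩).comap b ^ d)
    (z : X') (hz : b z = x) :
    IsRegularLocalRing (X'.presheaf.stalk z) ∧
    (∀ Q : Ideal (X'.presheaf.stalk z), Q.IsPrime →
      stalkIdeal ((Scheme.IdealSheafData.vanishingIdeal ⟨{x}, hx⟩).comap b) z ≤ Q → stalkIdeal I₁ z ≤ Q →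
      Q = maximalIdeal _) ∧
    (z ∈ I₁.support → ringKrullDim (X'.presheaf.stalk z) = 2 ∧
      Module.length (X'.presheaf.stalk z) (X'.presheaf.stalk z ⧸ stalkIdeal I₁ z) <
        Module.length (X.presheaf.stalk x) (X.presheaf.stalk x ⧸ stalkIdeal I x)) := by
  subst hz
  obtain ⟨a, a', hp, P, hP, θ, haP, hθ, hloc⟩ := BlowUpChartAt.exists_chart b z hx hb hdim
  letI := θ.toAlgebra
  letI := (b.stalkMap z).hom.toAlgebra
  haveI := hloc
  haveI : IsScalarTower (X.presheaf.stalk (b z)) (Groth.PointBlowUp.Chart a) (X'.presheaf.stalk z) :=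
    IsScalarTower.of_algebraMap_eq' hθ.symm
  haveI hreg : IsRegularLocalRing (X'.presheaf.stalk z) := by
    haveI := Groth.PointBlowUp.isRegularLocalRing_chart (hA := hdim) hp.mem_left P
    exact IsRegularLocalRing.of_ringEquiv (R := Localization.AtPrime P)
      (IsLocalization.algEquiv P.primeCompl (Localization.AtPrime P) (X'.presheaf.stalk z)).toRingEquiv
  have hD : stalkIdeal ((Scheme.IdealSheafData.vanishingIdeal ⟨{b z}, hx⟩).comap b) z =
      Ideal.span {algebraMap (X.presheaf.stalk (b z)) (X'.presheaf.stalk z) a} := by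
    rw [Groth.ParaFormal.stalkIdeal_comap, FactorBlowUp.stalkIdeal_vanishingIdeal hx]
    show Ideal.map (algebraMap (X.presheaf.stalk (b z)) (X'.presheaf.stalk z)) _ = _
    rw [IsScalarTower.algebraMap_eq (X.presheaf.stalk (b z)) (Groth.PointBlowUp.Chart a) (X'.presheaf.stalk z),
      ← Ideal.map_map, Groth.BlowUpBasics.map_eq_span hp.mem_left, Ideal.map_span, Set.image_singleton]
    rfl
  have hJb : stalkIdeal I₁ z * Ideal.span {algebraMap (X.presheaf.stalk (b z)) (X'.presheaf.stalk z) a} ^ d =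
      (stalkIdeal I (b z)).map (algebraMap (X.presheaf.stalk (b z)) (X'.presheaf.stalk z)) := by
    rw [← hD, ← stalkIdeal_pow, ← stalkIdeal_mul, ← heq, Groth.ParaFormal.stalkIdeal_comap]
    rfl
  refine ⟨hreg, fun Q hQ h1 h2 => ?_, fun hzs => ?_⟩
  · exact PointColength.eq_maximal_of_le (stalkIdeal I (b z)) d P hp haP hId hId' hJb Q hQ
      (h1 (hD ▸ Ideal.mem_span_singleton_self _)) h2
  · exact PointColength.dim_and_length (stalkIdeal I (b z)) d P hp haP hn hd hId hId' hJb
      fun h => ((stalkIdeal_eq_top_iff I₁ z).1 h) hzs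

theorem isIso_restrict_mono {A B : Scheme.{u}} (f : A ⟶ B) {U W : B.Opens} (h : W ≤ U) [IsIso (f ∣_ U)] :
    IsIso (f ∣_ W) := by
  have h1 : MorphismProperty.isomorphisms Scheme.{u} ((f ∣_ U) ∣_ (U.ι ⁻¹ᵁ W)) :=
    IsZariskiLocalAtTarget.restrict (P := MorphismProperty.isomorphisms Scheme.{u})
      (show MorphismProperty.isomorphisms Scheme.{u} (f ∣_ U) from inferInstanceAs (IsIso (f ∣_ U))) _
  have h2 := ((MorphismProperty.isomorphisms Scheme.{u}).arrow_mk_iso_iff
    (morphismRestrictRestrict f U (U.ι ⁻¹ᵁ W))).1 h1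
  have e : U.ι ''ᵁ (U.ι ⁻¹ᵁ W) = W := by
    rw [Scheme.Hom.image_preimage_eq_opensRange_inf, Scheme.Opens.opensRange_ι]
    exact inf_eq_right.2 h
  exact ((MorphismProperty.isomorphisms Scheme.{u}).arrow_mk_iso_iff (morphismRestrictEq f e)).1 h2

variable [CompactSpace X]

/-- One blow-up. -/
theorem step {I : X.IdealSheafData} (hI : Good I) {x : X} (hxI : x ∈ I.support) :
    ∃ (X₁ : Scheme.{u}) (b : X₁ ⟶ X) (_ : IsLocallyNoetherian X₁) (_ : CompactSpace X₁) (_ : IsProper b)
      (I₁ : X₁.IdealSheafData) (d : ℕ),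
      BlowUp.IsBlowUp b (Scheme.IdealSheafData.vanishingIdeal ⟨{x}, hI.isClosed x hxI⟩) ∧
      I.comap b = I₁ * (Scheme.IdealSheafData.vanishingIdeal ⟨{x}, hI.isClosed x hxI⟩).comap b ^ d ∧
      Good I₁ ∧ (I₁.support : Set X₁) ⊆ b ⁻¹' I.support ∧
      (∀ z ∈ I₁.support, (b z = x → col I₁ z < col I x) ∧ (b z ≠ x → col I₁ z = col I (b z))) ∧
      (∀ z z' : X₁, b z ≠ x → b z = b z' → z = z') := by
  haveI : AlgebraicGeometry.IsNoetherian X := {}
  have hx := hI.isClosed x hxI
  haveI := hI.regular x hxI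
  have hdim := hI.dim x hxI
  let m := Scheme.IdealSheafData.vanishingIdeal (⟨{x}, hx⟩ : Closeds X)
  obtain ⟨X₁, b, hb⟩ := Groth.Agent.S8859.result X m
  haveI : IsProper b := Groth.HTopHyper.isProper_of_isBlowUp hb fun U =>
    haveI := IsLocallyNoetherian.component_noetherian (X := X) U
    (isNoetherianRing_iff_ideal_fg _).1 inferInstance _
  haveI : IsLocallyNoetherian X₁ := LocallyOfFiniteType.isLocallyNoetherian b
  haveI : CompactSpace X₁ := QuasiCompact.compactSpace_of_compactSpace b
  haveI : AlgebraicGeometry.IsNoetherian X₁ := {}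
  obtain ⟨n, hn⟩ := exists_pow_le (I := I) (x := x) fun x' hx' h => by
    have := (hI.isClosed x' hx').closure_eq ▸ h.mem_closure
    exact (this : x ∈ ({x'} : Set X)).symm
  haveI : IsDomain (X.presheaf.stalk x) := Groth.Ega4Algebra1.isDomain_of_isRegularLocalRing _
  obtain ⟨a₀, b₀, hp₀⟩ := Groth.PointBlowUp.exists_param (hA := hdim) (A := X.presheaf.stalk x)
  obtain ⟨d, hd, hd'⟩ := PointColength.exists_gt_and_le (stalkIdeal I x) hp₀ hn
  have hle1 : stalkIdeal I x ≤ maximalIdeal (X.presheaf.stalk x) :=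
    le_maximalIdeal fun h => ((stalkIdeal_eq_top_iff I x).1 h) hxI
  have hd1 : 1 ≤ d := Nat.one_le_iff_ne_zero.2 fun h0 => hd' (by rw [h0, zero_add, pow_one]; exact hle1)
  have hDtop : ∀ z, b z ≠ x → stalkIdeal (m.comap b) z = ⊤ := fun z hz => by
    rw [stalkIdeal_eq_top_iff, ← SetLike.mem_coe, Scheme.IdealSheafData.support_comap]
    simpa [m, Scheme.IdealSheafData.coe_support_vanishingIdeal] using hz
  have hle : I.comap b ≤ m.comap b ^ d := le_of_stalks fun z => by
    rw [stalkIdeal_pow]
    by_cases hz : b z = x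
    · subst hz
      rw [Groth.ParaFormal.stalkIdeal_comap, Groth.ParaFormal.stalkIdeal_comap,
        FactorBlowUp.stalkIdeal_vanishingIdeal hx, ← Ideal.map_pow]
      exact Ideal.map_mono hd
    · rw [hDtop z hz, Ideal.top_pow]
      exact le_top
  obtain ⟨I₁, hI₁⟩ := Groth.BlowUpBasics.exists_eq_mul_of_le
    (Groth.Divisors.isEffCartierIdeal_pow hb.1 d) hle
  have hover := fun z hz => over_point b hx hdim hb I I₁ hn hd1 hd hd' hI₁ z hz
  have hoff : ∀ z, b z ≠ x → stalkIdeal I₁ z = (stalkIdeal I (b z)).map (b.stalkMap z).hom := fun z hz => by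
    rw [← Groth.ParaFormal.stalkIdeal_comap, hI₁, stalkIdeal_mul, stalkIdeal_pow, hDtop z hz, Ideal.top_pow,
      Ideal.mul_top]
  have hiso : ∀ z, b z ≠ x → IsIso (b.stalkMap z) := fun z hz =>
    Groth.Divisors.isIso_stalkMap_off hb z (by
      rw [← SetLike.mem_coe, Scheme.IdealSheafData.coe_support_vanishingIdeal]
      exact hz)
  let W : X.Opens := ⟨({x} : Set X)ᶜ, hx.isOpen_compl⟩
  haveI : IsIso (b ∣_ W) := Groth.BlowUpBasics.isIso_morphismRestrict hb W (by
    rw [Scheme.IdealSheafData.coe_support_vanishingIdeal]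
    exact Set.disjoint_singleton_left.2 fun h => h rfl)
  have hinj : ∀ z z', b z ≠ x → b z = b z' → z = z' := fun z z' hz hzz' =>
    congrArg Subtype.val ((b ∣_ W).homeomorph.injective (a₁ := ⟨z, hz⟩)
      (a₂ := ⟨z', fun e => hz (hzz'.trans e)⟩) (Subtype.ext (by simpa using hzz')))
  have hsub : (I₁.support : Set X₁) ⊆ b ⁻¹' I.support := fun z hz => by
    by_cases hzx : b z = x
    · rw [Set.mem_preimage, hzx]; exact hxI
    · by_contra hno
      refine ((stalkIdeal_eq_top_iff I₁ z).1 ?_) hz
      rw [hoff z hzx, (stalkIdeal_eq_top_iff I (b z)).2 hno, Ideal.map_top]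
  have hcl : ∀ z ∈ I₁.support, IsClosed ({z} : Set X₁) := fun z hz => by
    rw [← closure_eq_iff_isClosed]
    refine Set.eq_of_subset_of_subset (fun z' hz' => ?_) subset_closure
    have hsp : z ⤳ z' := specializes_iff_mem_closure.2 hz'
    have hz'I : z' ∈ I₁.support := hsp.mem_closed I₁.support.isClosed hz
    have hbz : b z' = b z :=
      ((hI.isClosed (b z) (hsub hz)).closure_eq ▸ (hsp.map b.continuous).mem_closure : b z' ∈ ({b z} : Set X))
    by_cases hzx : b z = x
    · obtain ⟨-, hQ, -⟩ := hover z' (hbz.trans hzx)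
      refine (FactorBlowUp.eq_of_comap_eq_maximal hsp (hQ _ inferInstance ?_ ?_)).symm
      · rw [← Ideal.map_le_iff_le_comap, Groth.ParaFormal.stalkIdeal_spec]
        refine le_maximalIdeal fun h => ((stalkIdeal_eq_top_iff _ z).1 h) ?_
        rw [← SetLike.mem_coe, Scheme.IdealSheafData.support_comap]
        simpa [m, Scheme.IdealSheafData.coe_support_vanishingIdeal] using hzx
      · rw [← Ideal.map_le_iff_le_comap, Groth.ParaFormal.stalkIdeal_spec]
        exact le_maximalIdeal fun h => ((stalkIdeal_eq_top_iff _ z).1 h) hz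
    · exact (hinj z z' hzx hbz.symm).symm
  have hreg : ∀ z ∈ I₁.support, IsRegularLocalRing (X₁.presheaf.stalk z) ∧
      ringKrullDim (X₁.presheaf.stalk z) = 2 := fun z hz => by
    by_cases hzx : b z = x
    · exact ⟨(hover z hzx).1, ((hover z hzx).2.2 hz).1⟩
    · haveI := hI.regular (b z) (hsub hz)
      haveI := hiso z hzx
      let e := (asIso (b.stalkMap z)).commRingCatIsoToRingEquiv
      exact ⟨IsRegularLocalRing.of_ringEquiv e,
        (ringKrullDim_eq_of_ringEquiv e).symm.trans (hI.dim (b z) (hsub hz))⟩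
  have hGood : Good I₁ := by
    refine ⟨?_, hcl, fun z hz => (hreg z hz).1, fun z hz => (hreg z hz).2⟩
    obtain ⟨S, hSfin, hSc, hSirr, hS⟩ :=
      NoetherianSpace.exists_finite_set_isClosed_irreducible I₁.support.isClosed
    rw [hS]
    refine hSfin.sUnion fun s hs => ?_
    obtain ⟨w, hw⟩ := QuasiSober.sober (hSirr s hs) (hSc s hs)
    have hwI : w ∈ (I₁.support : Set X₁) := hS ▸ ⟨s, hs, hw.mem⟩
    rw [← hw.def, (hcl w hwI).closure_eq]
    exact Set.finite_singleton w
  refine ⟨X₁, b, inferInstance, inferInstance, inferInstance, I₁, d, hb, hI₁, hGood, hsub,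
    fun z hz => ⟨fun hzx => ?_, fun hzx => ?_⟩, hinj⟩
  · have := ((hover z hzx).2.2 hz).2
    rw [← cast_col hI hxI, ← cast_col hGood hz] at this
    exact_mod_cast this
  · haveI := hiso z hzx
    have h := length_eq_of_ringEquiv (asIso (b.stalkMap z)).commRingCatIsoToRingEquiv (stalkIdeal I (b z))
    unfold col
    rw [hoff z hzx]
    exact congrArg ENat.toNat h.symm

/-- **Principalization** with finite support in regular two-dimensional closed points. -/
theorem exists_principalization (N : ℕ) : ∀ {X : Scheme.{u}} [IsLocallyNoetherian X] [CompactSpace X]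
    (I : X.IdealSheafData), Good I → (∀ x ∈ I.support, col I x ≤ N) →
    ∀ {C : Scheme.{u}} (r : X ⟶ C), Models.IsContractionSeq r →
      ∃ (X' : Scheme.{u}) (g : X' ⟶ X), Models.IsContractionSeq (g ≫ r) ∧
        IsIso (g ∣_ (⟨(I.support : Set X)ᶜ, I.support.isClosed.isOpen_compl⟩ : X.Opens)) ∧
        BlowUp.IsEffCartierIdeal (I.comap g) ∧
        ∀ D : X.IdealSheafData, BlowUp.IsEffCartierIdeal D → BlowUp.IsEffCartierIdeal (D.comap g) := by
  induction N using Nat.strong_induction_on with
  | _ N ihN =>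
    suffices H : ∀ k : ℕ, ∀ {X : Scheme.{u}} [IsLocallyNoetherian X] [CompactSpace X]
        (I : X.IdealSheafData), Good I → (∀ x ∈ I.support, col I x ≤ N) →
        {x ∈ (I.support : Set X) | col I x = N}.ncard ≤ k →
        ∀ {C : Scheme.{u}} (r : X ⟶ C), Models.IsContractionSeq r →
          ∃ (X' : Scheme.{u}) (g : X' ⟶ X), Models.IsContractionSeq (g ≫ r) ∧
            IsIso (g ∣_ (⟨(I.support : Set X)ᶜ, I.support.isClosed.isOpen_compl⟩ : X.Opens)) ∧
            BlowUp.IsEffCartierIdeal (I.comap g) ∧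
            ∀ D : X.IdealSheafData, BlowUp.IsEffCartierIdeal D → BlowUp.IsEffCartierIdeal (D.comap g) by
      intro X _ _ I hI hN C r hr
      exact H _ I hI hN le_rfl r hr
    intro k
    induction k using Nat.strong_induction_on with
    | _ k ihk =>
      intro X _ _ I hI hN hk C r hr
      set S := {x ∈ (I.support : Set X) | col I x = N}
      by_cases hne : S.Nonempty
      · obtain ⟨x, hxI, hxN⟩ := hne
        obtain ⟨X₁, b, _, _, _, I₁, d, hb, hI₁, hG, hsub, hcol, hinj⟩ := step hI hxI
        haveI : AlgebraicGeometry.IsNoetherian X := {}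
        haveI := hI.regular x hxI
        have hr' := Factorization.contractionSeq_blowUp_comp b (hI.isClosed x hxI) (hI.dim x hxI) hb hr
        have hN₁ : ∀ z ∈ I₁.support, col I₁ z ≤ N := fun z hz => by
          by_cases hzx : b z = x
          · exact ((hcol z hz).1 hzx).le.trans (hN x hxI)
          · rw [(hcol z hz).2 hzx]; exact hN _ (hsub hz)
        have hlt : {z ∈ (I₁.support : Set X₁) | col I₁ z = N}.ncard < k := by
          refine lt_of_lt_of_le ?_ hk
          have hfin : S.Finite := hI.finite.subset fun y hy => hy.1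
          refine lt_of_le_of_lt (Set.ncard_le_ncard_of_injOn (t := S \ {x}) b ?_ ?_ (hfin.subset Set.sdiff_subset))
            (Set.ncard_lt_ncard (Set.sdiff_singleton_ssubset.2 ⟨hxI, hxN⟩) hfin)
          · rintro z ⟨hz, hzN⟩
            have hzx : b z ≠ x := fun e => absurd hzN (((hcol z hz).1 e).trans_le (hN x hxI)).ne
            exact ⟨⟨hsub hz, ((hcol z hz).2 hzx).symm.trans hzN⟩, hzx⟩
          · rintro z ⟨hz, hzN⟩ z' - e
            exact hinj z z' (fun e' => absurd hzN (((hcol z hz).1 e').trans_le (hN x hxI)).ne) e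
        obtain ⟨X', g, hg, hgiso, hgI, hgD⟩ := ihk _ hlt I₁ hG hN₁ le_rfl (b ≫ r) hr'
        refine ⟨X', g ≫ b, by rwa [Category.assoc], ?_, ?_, fun D hD => ?_⟩
        · let U : X.Opens := ⟨(I.support : Set X)ᶜ, I.support.isClosed.isOpen_compl⟩
          haveI : IsIso (b ∣_ U) := Groth.BlowUpBasics.isIso_morphismRestrict hb U (by
            rw [Scheme.IdealSheafData.coe_support_vanishingIdeal]
            exact Set.disjoint_singleton_left.2 fun h => h hxI)
          haveI : IsIso (g ∣_ (b ⁻¹ᵁ U)) := @isIso_restrict_mono _ _ g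
            ⟨(I₁.support : Set X₁)ᶜ, I₁.support.isClosed.isOpen_compl⟩ _
            (fun z hz hz' => hz (hsub hz')) hgiso
          show IsIso ((g ≫ b) ∣_ U)
          rw [morphismRestrict_comp]
          exact IsIso.comp_isIso' ‹IsIso (g ∣_ (b ⁻¹ᵁ U))› ‹IsIso (b ∣_ U)›
        · rw [Scheme.IdealSheafData.comap_comp, hI₁, Groth.Divisors.comap_mul, Groth.Divisors.comap_pow]
          exact Groth.Divisors.isEffCartierIdeal_mul hgI
            (Groth.Divisors.isEffCartierIdeal_pow (hgD _ hb.1) d)
        · rw [Scheme.IdealSheafData.comap_comp]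
          exact hgD _ (Groth.Divisors.isEffCartierIdeal_comap_blowUp hb hD)
      · rcases Nat.eq_zero_or_pos N with h0 | hpos
        · have hI0 : I = ⊤ := Groth.ParaFormal.idealSheaf_ext fun y => by
            rw [(stalkIdeal_eq_top_iff I y).2 fun hy => absurd (hN y hy) (by
              rw [h0]; exact not_le.2 (col_pos hI hy)),
              (stalkIdeal_eq_top_iff ⊤ y).2 (by rw [Scheme.IdealSheafData.support_top]; exact fun h => h)]
          refine ⟨X, 𝟙 X, by rwa [Category.id_comp], ?_, ?_, fun D hD => by rwa [Scheme.IdealSheafData.comap_id]⟩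
          · exact inferInstance
          · rw [Scheme.IdealSheafData.comap_id, hI0]
            exact Groth.Divisors.isEffCartierIdeal_top
        · refine ihN (N - 1) (by omega) I hI (fun y hy => ?_) r hr
          have := hN y hy
          rcases lt_or_eq_of_le this with h | h
          · omega
          · exact absurd ⟨y, hy, h⟩ hne

end Groth.ArSurfBasics.Principalization
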