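import Groth.Agent.ArSurfBasics.ArithBlowUp
import Groth.Agent.ArSurfBasics.CompVert
import Groth.Agent.ResolveSurf.ContractionDesc
import Groth.Agent.Calg6.ClosedImmStalk
import Groth.Agent.ModelsGraphs.ExcCriterion
import Groth.Agent.ModelsGraphs.InterVert
import Groth.Agent.ModelsGraphs.InterGen
import Groth.Agent.ModelsGraphs.RedFibre
import Groth.Agent.S7907
import Groth.Agent.ArSurfBasics.Factorization
import Groth.Agent.ArSurfBasics.PointPrincipalization

/-!
Exceptional curves contracted to a normal surface: two of them are disjoint, and on a surface dominating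
one without contracted exceptional curves they are contracted.
-/

set_option autoImplicit false
set_option backward.isDefEq.respectTransparency.types false
set_option maxHeartbeats 1000000

universe u

open CategoryTheory CategoryTheory.Limits AlgebraicGeometry TopologicalSpace IntMult

namespace Groth.ArSurfBasics.ExcContracted

/-- The curve of an exceptional curve of the first kind is integral with at least two points. -/
theorem isIntegral_of_isExcCurve {E W : Scheme.{u}} {ι : E ⟶ W} (hE : Models.IsExcCurve ι) :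
    IsIntegral E ∧ ∃ a c : E, a ≠ c := by
  obtain ⟨-, k, _, φ, -⟩ := hE
  obtain ⟨a, c, hac⟩ := PointRecognition.exists_two k
  haveI : IsIntegral (CohB1.ProjSpace 1 k) := Groth.Curves1.RR.isIntegral_projSpace k 1
  haveI : Nonempty E := ⟨φ.hom a⟩
  exact ⟨isIntegral_of_isOpenImmersion φ.inv, φ.hom a, φ.hom c, fun h => hac (φ.hom.homeomorph.injective h)⟩

/-- Being exceptional is local around the curve. -/
theorem isExcCurve_comp {E W Z : Scheme.{u}} [IsIntegral W] [IsLocallyNoetherian Z] (ι : E ⟶ W) [IsClosedImmersion ι] (hE : Models.IsExcCurve ι)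
    (b : W ⟶ Z) [IsClosedImmersion (ι ≫ b)] {V : Z.Opens} (hV : IsIso (b ∣_ V))
    (hr : ∀ e, b (ι e) ∈ V) : Models.IsExcCurve (ι ≫ b) := by
  obtain ⟨hC, k, _, φ, ⟨t⟩⟩ := hE
  have hiso : ∀ w : W, b w ∈ V → IsIso (b.stalkMap w) := fun w hw =>
    ((MorphismProperty.isomorphisms CommRingCat.{u}).arrow_mk_iso_iff
      (morphismRestrictStalkMap b V ⟨w, hw⟩)).1 (by
        show IsIso _
        infer_instance)
  have hinj : ∀ a c : W, b a ∈ V → b a = b c → a = c := fun a c ha h =>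
    congrArg Subtype.val ((b ∣_ V).homeomorph.injective (a₁ := ⟨a, ha⟩)
      (a₂ := ⟨c, show b c ∈ V from h ▸ ha⟩) (Subtype.ext (by simpa using h)))
  have hb : ∀ e, stalkIdeal (ι ≫ b).ker (b (ι e)) = (stalkIdeal ι.ker (ι e)).comap (b.stalkMap (ι e)).hom :=
    fun e => by
      have h1 := Groth.Calg6.ClosedImmStalk.ker_stalkMap_eq (ι ≫ b) e
      have h2 := Groth.Calg6.ClosedImmStalk.ker_stalkMap_eq ι e
      refine h1.symm.trans ?_
      refine (congrArg (fun f => RingHom.ker (CommRingCat.Hom.hom f)) (Scheme.Hom.stalkMap_comp ι b e)).trans ?_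
      exact (RingHom.comap_ker _ _).symm.trans (congrArg (Ideal.comap _) h2)
  have hsur : ∀ e, Function.Surjective (b.stalkMap (ι e)).hom := fun e => by
    haveI := hiso _ (hr e)
    exact (asIso (b.stalkMap (ι e))).commRingCatIsoToRingEquiv.surjective
  have hK : (ι ≫ b).ker.comap b = ι.ker := by
    refine Groth.ParaFormal.idealSheaf_ext fun w => ?_
    rw [Groth.ParaFormal.stalkIdeal_comap]
    by_cases hw : w ∈ Set.range ι
    · obtain ⟨e, rfl⟩ := hw
      rw [hb e, Ideal.map_comap_of_surjective _ (hsur e)]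
    · rw [(Principalization.stalkIdeal_eq_top_iff ι.ker w).2 ?_,
        (Principalization.stalkIdeal_eq_top_iff (ι ≫ b).ker (b w)).2 ?_, Ideal.map_top]
      · intro h
        rw [← SetLike.mem_coe, Scheme.Hom.support_ker, (ι ≫ b).isClosedEmbedding.isClosed_range.closure_eq] at h
        obtain ⟨e, he⟩ := h
        exact hw ⟨e, hinj _ _ (hr e) he⟩
      · intro h
        rw [← SetLike.mem_coe, Scheme.Hom.support_ker, ι.isClosedEmbedding.isClosed_range.closure_eq] at h
        exact hw h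
  have hC' : BlowUp.IsEffCartierIdeal (ι ≫ b).ker := by
    refine Groth.Divisors.isEffCartierIdeal_of_stalk _ fun x hx U hxU => ?_
    rw [← SetLike.mem_coe, Scheme.Hom.support_ker, (ι ≫ b).isClosedEmbedding.isClosed_range.closure_eq] at hx
    obtain ⟨e, rfl⟩ := hx
    rw [← Groth.ParaFormal.stalkIdeal_eq _ U hxU]
    haveI := hiso _ (hr e)
    let eqv := (asIso (b.stalkMap (ι e))).commRingCatIsoToRingEquiv
    obtain ⟨q, hq, hqe⟩ : ∃ q ∈ nonZeroDivisors (W.presheaf.stalk (ι e)), stalkIdeal ι.ker (ι e) = Ideal.span {q} := by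
      obtain ⟨U', hU', f, hf, hfe⟩ := hC (ι e)
      refine ⟨W.presheaf.germ U'.1 (ι e) hU' f, ?_, ?_⟩
      · refine mem_nonZeroDivisors_of_ne_zero fun h0 => ?_
        haveI : Nonempty U'.1 := ⟨⟨_, hU'⟩⟩
        refine nonZeroDivisors.ne_zero hf (germ_injective_of_isIntegral W (ι e) hU' ?_)
        rw [h0, map_zero]
      · rw [Groth.ParaFormal.stalkIdeal_eq _ U' hU', hfe, Ideal.map_span, Set.image_singleton]
    haveI : IsDomain (Z.presheaf.stalk ((ι ≫ b) e)) := eqv.toMulEquiv.isDomain (W.presheaf.stalk (ι e))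
    refine ⟨eqv.symm q, mem_nonZeroDivisors_of_ne_zero (fun h => nonZeroDivisors.ne_zero hq ?_), ?_⟩
    · exact eqv.symm.injective (h.trans (map_zero _).symm)
    refine (hb e).trans ((congrArg (Ideal.comap _) hqe).trans ?_)
    show Ideal.comap (eqv : Z.presheaf.stalk (b (ι e)) →+* W.presheaf.stalk (ι e)) (Ideal.span {q}) = _
    exact (Ideal.map_symm eqv).symm.trans ((Ideal.map_span _ _).trans (congrArg Ideal.span Set.image_singleton))
  refine ⟨hC', k, ‹_›, φ, ⟨?_⟩⟩
  let p := (Groth.PicAux.pullback_idealMod b hC' (hK.symm ▸ hC)).some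
  exact (Scheme.Modules.pullbackCongr (Category.assoc φ.hom ι b).symm).app _ ≪≫
    ((Scheme.Modules.pullbackComp (φ.hom ≫ ι) b).app _).symm ≪≫
    (Scheme.Modules.pullback (φ.hom ≫ ι)).mapIso (p ≪≫ eqToIso (congrArg ClSub.idealMod hK)) ≪≫ t

theorem iso_mono {A B : Scheme.{u}} {f : A ⟶ B} {U W : B.Opens} (h : ∀ z ∈ W, z ∈ U) (hf : IsIso (f ∣_ U)) :
    IsIso (f ∣_ W) :=
  haveI := hf
  Principalization.isIso_restrict_mono f h

variable {R : Type u} [CommRing R] [IsDomain R] [IsDiscreteValuationRing R]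

/-- An exceptional curve mapping to one point of a proper scheme over `R` is a vertical prime divisor. -/
theorem exists_vertComp {X Y : Over (Spec (CommRingCat.of R))} (hX : ArSurf.IsArithSurface R X) [IsProper Y.hom]
    (f : X ⟶ Y) {E : Scheme.{u}} (ι : E ⟶ X.left) [IsClosedImmersion ι] (hE : Models.IsExcCurve ι)
    {y : Y.left} (hy : Set.range ((ι ≫ f.left).base : E → Y.left) = {y}) :
    IsClosed ({y} : Set Y.left) ∧ ∃ Γ : ArSurf.VertComp R X,
      Set.range (Γ.ι.base : Γ.curve.left → X.left) = Set.range ι.base ∧ Models.IsExcCurve Γ.ι := by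
  haveI := hX.2.1
  haveI := hX.2.2.2.1
  haveI : IsProper X.hom := Groth.ModelsGraphs.InterVert.isProper_of_isArithSurface hX
  haveI : IsProper (f.left ≫ Y.hom) := by rw [Over.w f]; infer_instance
  haveI : IsProper f.left := IsProper.of_comp f.left Y.hom
  have hyc : IsClosed ({y} : Set Y.left) := hy ▸ (ι ≫ f.left).isClosedMap.isClosed_range
  refine ⟨hyc, ?_⟩
  obtain ⟨hEi, a, c, hac⟩ := isIntegral_of_isExcCurve hE
  haveI := hEi
  have hye : ∀ e, f.left (ι e) = y := fun e => by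
    have : (ι ≫ f.left) e ∈ ({y} : Set Y.left) := hy ▸ ⟨e, rfl⟩
    exact this
  have hys : Y.hom y = IsLocalRing.closedPoint R := by
    have h1 : IsClosed ({Y.hom y} : Set (Spec (CommRingCat.of R))) := by
      simpa using Y.hom.isClosedMap _ hyc
    have h2 := (PrimeSpectrum.isClosed_singleton_iff_isMaximal (Y.hom y : PrimeSpectrum R)).1 h1
    exact PrimeSpectrum.ext (IsLocalRing.eq_maximalIdeal h2)
  have hS : Set.range ι.base ⊆ Models.specialFibreSet R X := by
    rintro _ ⟨e, rfl⟩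
    show X.hom (ι e) = _
    rw [← Over.w f, Scheme.Hom.comp_apply, hye, hys]
  obtain ⟨c', hc', hcg⟩ : ∃ c' : E, c' ≠ genericPoint E ∧ genericPoint E ⤳ c' := by
    by_cases h : a = genericPoint E
    · exact ⟨c, fun e => hac (h.trans e.symm), genericPoint_specializes _⟩
    · exact ⟨a, h, genericPoint_specializes _⟩
  have hZ : Set.range ι.base ∈ Models.fibreComponents R X := by
    refine ⟨⟨?_, hS⟩, fun T hT hle t ht => ?_⟩
    · rw [← Set.image_univ]
      exact (IrreducibleSpace.isIrreducible_univ E).image _ ι.continuous.continuousOn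
    · obtain ⟨g, hg⟩ := QuasiSober.sober hT.1.closure isClosed_closure
      have hgS : g ∈ Models.specialFibreSet R X :=
        closure_minimal hT.2 (Models.isClosed_specialFibreSet R X) hg.mem
      have h1 : g ⤳ ι (genericPoint E) := hg.specializes (subset_closure (hle ⟨_, rfl⟩))
      have hge : g = ι (genericPoint E) := by
        by_contra hne
        exact no_chain_in_fibre hX.2.2.1 hgS h1 hne (hcg.map ι.continuous)
          (fun e => hc' (ι.isClosedEmbedding.injective e).symm)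
      have h2 : g ⤳ t := hg.specializes (subset_closure ht)
      rw [hge] at h2
      exact h2.mem_closed ι.isClosedEmbedding.isClosed_range ⟨_, rfl⟩
  obtain ⟨Γ, hΓ⟩ := Groth.ArSurfBasics.exists_vertComp hX.2.2.1 hZ ⟨a, rfl⟩ ⟨c, rfl⟩
    (fun e => hac (ι.isClosedEmbedding.injective e))
  haveI := Γ.isIntegral
  have hk : Γ.ι.ker = ι.ker := by
    rw [Groth.AlgSp3.ker_eq_vanishingIdeal_of_isReduced, Groth.AlgSp3.ker_eq_vanishingIdeal_of_isReduced]
    exact congrArg Scheme.IdealSheafData.vanishingIdeal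
      (TopologicalSpace.Closeds.ext (congrArg closure hΓ))
  refine ⟨Γ, hΓ, ?_⟩
  obtain ⟨hC, k, hk', φ, ⟨t⟩⟩ := hE
  let u := IsClosedImmersion.lift Γ.ι ι hk.le
  haveI : IsIso u := IsClosedImmersion.isIso_lift Γ.ι ι hk
  have hu : u ≫ Γ.ι = ι := IsClosedImmersion.lift_fac _ _ _
  refine ⟨hk ▸ hC, k, hk', φ ≪≫ asIso u, ⟨?_⟩⟩
  exact eqToIso (congrArg (fun J => (Scheme.Modules.pullback ((φ ≪≫ asIso u).hom ≫ Γ.ι)).obj (ClSub.idealMod J)) hk) ≪≫
    (Scheme.Modules.pullbackCongr (by rw [Iso.trans_hom, asIso_hom, Category.assoc, hu])).app _ ≪≫ t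

variable {Y : Over (Spec (CommRingCat.of R))} [IsIntegral Y.left]
  (hnor : ∀ y : Y.left, IsIntegrallyClosed (Y.left.presheaf.stalk y))
  (hdimY : topologicalKrullDim Y.left = 2) [Flat Y.hom] (hproj : Neron.IsProjectiveOver R Y)

include hnor hdimY hproj in
/-- Two exceptional curves contracted by a birational morphism to a normal surface are disjoint. -/
theorem disjoint_excCurves {X : Over (Spec (CommRingCat.of R))} (hX : ArSurf.IsArithSurface R X) (f : X ⟶ Y)
    (hbir : ∃ U : Y.left.Opens, (U : Set Y.left).Nonempty ∧ IsIso (f.left ∣_ U))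
    {E F : Scheme.{u}} (ι : E ⟶ X.left) [IsClosedImmersion ι] (hE : Models.IsExcCurve ι)
    (j : F ⟶ X.left) [IsClosedImmersion j] (hF : Models.IsExcCurve j)
    {y y' : Y.left} (hy : Set.range ((ι ≫ f.left).base : E → Y.left) = {y})
    (hy' : Set.range ((j ≫ f.left).base : F → Y.left) = {y'})
    (hne : Set.range ι.base ≠ Set.range j.base) : Disjoint (Set.range ι.base) (Set.range j.base) := by
  haveI := hX.2.1
  haveI := hX.2.2.2.1
  haveI : IsProper Y.hom := isProper_of_isProjectiveOver hproj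
  haveI : IsProper X.hom := Groth.ModelsGraphs.InterVert.isProper_of_isArithSurface hX
  haveI : IsLocallyNoetherian X.left := LocallyOfFiniteType.isLocallyNoetherian X.hom
  obtain ⟨hyc, Γ₁, hΓ₁, hx₁⟩ := exists_vertComp hX f ι hE hy
  obtain ⟨-, Γ₂, hΓ₂, hx₂⟩ := exists_vertComp hX f j hF hy'
  rw [← hΓ₁, ← hΓ₂] at hne ⊢
  by_contra hmeet
  have himg : ∀ (Γ : ArSurf.VertComp R X) {A : Scheme.{u}} (i : A ⟶ X.left) (p : Y.left),
      Set.range (Γ.ι.base : Γ.curve.left → X.left) = Set.range i.base →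
      Set.range ((i ≫ f.left).base : A → Y.left) = {p} →
      Set.range ((Γ.ι ≫ f.left).base : Γ.curve.left → Y.left) = {p} := fun Γ A i p h1 h2 => by
    rw [Scheme.Hom.comp_base, TopCat.coe_comp, Set.range_comp] at h2 ⊢
    rw [h1]
    exact h2
  obtain ⟨x, hx₁', hx₂'⟩ := Set.not_disjoint_iff.1 hmeet
  have hyy : y' = y := by
    obtain ⟨a, rfl⟩ := hx₁'
    obtain ⟨c, hc⟩ := hx₂'
    have h1 : f.left (Γ₁.ι a) ∈ ({y} : Set Y.left) := himg Γ₁ ι y hΓ₁ hy ▸ ⟨a, rfl⟩
    have h2 : f.left (Γ₂.ι c) ∈ ({y'} : Set Y.left) := himg Γ₂ j y' hΓ₂ hy' ▸ ⟨c, rfl⟩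
    rw [hc] at h2
    exact h2.symm.trans h1
  have hreg : Models.IsRegularScheme X.left := hX.1
  have hm₁ := Groth.ModelsGraphs.InterVert.range_mem_fibreComponents hX Γ₁
  have hm₂ := Groth.ModelsGraphs.InterVert.range_mem_fibreComponents hX Γ₂
  have hinv : ∀ Γ : ArSurf.VertComp R X, Set.range Γ.ι.base ∈ Models.fibreComponents R X →
      ∃ L : X.left.Modules, ClSub.IsInverseOf L (ClSub.idealMod Γ.ι.ker) := fun Γ h => by
    obtain ⟨M, -, hM⟩ := Groth.PicAux.exists_isInverseOf (Groth.PicAux.isInvertible_idealMod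
      (Groth.ModelsGraphs.Inter.isEffCartier hreg h))
    exact ⟨M, Groth.PicAux.isInverseOf_symm hM⟩
  obtain ⟨L₁, hL₁⟩ := hinv Γ₁ hm₁
  obtain ⟨L₂, hL₂⟩ := hinv Γ₂ hm₂
  have h11 := ((Groth.ModelsGraphs.ExcCriterion.isExcCurve_iff Γ₁ hx₁.1 hL₁).1 hx₁).2
  have h22 := ((Groth.ModelsGraphs.ExcCriterion.isExcCurve_iff Γ₂ hx₂.1 hL₂).1 hx₂).2
  let G : Fin 2 → ArSurf.VertComp R X := ![Γ₁, Γ₂]
  let L : Fin 2 → X.left.Modules := ![L₁, L₂]
  have hcomp : ∀ i, Set.range (G i).ι.base ∈ Models.fibreComponents R X :=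
    Fin.forall_fin_two.2 ⟨hm₁, hm₂⟩
  have hL : ∀ i, ClSub.IsInverseOf (L i) (ClSub.idealMod (G i).ι.ker) :=
    Fin.forall_fin_two.2 ⟨hL₁, hL₂⟩
  have hsym : ArSurf.inter R X L₂ Γ₁ = ArSurf.inter R X L₁ Γ₂ :=
    Groth.ModelsGraphs.InterVert.inter_symm hreg hcomp hL 0 1
  have hgen : Models.genPtOf R X Γ₁ ∉ Γ₂.ι.ker.support := fun hm => hne (by
    rw [← (Groth.ModelsGraphs.Inter.isGenericPoint_genPtOf Γ₁).def,
      ← (Groth.ModelsGraphs.Inter.isGenericPoint_genPtOf Γ₂).def,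
      Groth.ModelsGraphs.Inter.eq_genPtOf hm₁ (Groth.ModelsGraphs.Inter.genPtOf_mem hm₂)
        ((Groth.ModelsGraphs.Inter.mem_support_ker_iff _ _).1 hm)])
  have hm := Groth.ModelsGraphs.InterGen.inter_nonneg_and_eq_zero_iff Γ₁
    (Groth.ModelsGraphs.Inter.isEffCartier hreg hm₂) hgen hL₂
  have hpos : 0 < ArSurf.inter R X L₂ Γ₁ := lt_of_le_of_ne hm.1 fun h0 => hmeet (by
    have := hm.2.1 h0.symm
    rwa [Scheme.Hom.support_ker, Γ₂.ι.isClosedEmbedding.isClosed_range.closure_eq] at this)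
  have hd₁ := Groth.ModelsGraphs.RedFibre.wdeg_dvd_inter L₂ Γ₁
  have hd₂ := Groth.ModelsGraphs.RedFibre.wdeg_dvd_inter L₁ Γ₂
  have hle₁ := Int.le_of_dvd hpos hd₁
  have hle₂ := Int.le_of_dvd (hsym ▸ hpos) hd₂
  have hneg := Groth.Agent.S7907.result R X hX Y hnor hdimY hproj f hbir y hyc G
    (fun i k h => by
      fin_cases i <;> fin_cases k <;> first | rfl | exact absurd h hne | exact absurd h.symm hne)
    (Fin.forall_fin_two.2 ⟨himg Γ₁ ι y hΓ₁ hy, hyy ▸ himg Γ₂ j y' hΓ₂ hy'⟩) L hL ![1, 1]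
    (fun h => by simpa using congrFun h 0)
  rw [Fintype.sum_prod_type] at hneg
  simp only [Fin.sum_univ_two, G, L, Matrix.cons_val_zero, Matrix.cons_val_one, Matrix.cons_val_fin_one,
    one_mul] at hneg
  omega

omit [IsDiscreteValuationRing R] in
/-- Composing with a contraction keeps birationality. -/
theorem exists_isIso_comp {W Z T : Scheme.{u}} [IsIntegral Z] [IsIntegral T] (b : W ⟶ Z) {y : Z}
    (hy : IsClosed ({y} : Set Z)) (hyg : y ≠ genericPoint Z) (hb : IsIso (b ∣_ (⟨{y}ᶜ, hy.isOpen_compl⟩ : Z.Opens)))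
    (φ : Z ⟶ T) {U : T.Opens} (hU : (U : Set T).Nonempty) (hφ : IsIso (φ ∣_ U)) :
    ∃ U' : T.Opens, (U' : Set T).Nonempty ∧ IsIso ((b ≫ φ) ∣_ U') := by
  obtain ⟨hgen, hgU⟩ := Groth.ArSurfBasics.Factorization.apply_genericPoint φ hφ hU
  let U' : T.Opens := ⟨(U : Set T) ∩ (closure {φ y})ᶜ, U.2.inter isClosed_closure.isOpen_compl⟩
  refine ⟨U', ⟨genericPoint T, hgU, fun h => hyg ?_⟩, ?_⟩
  · have he : φ y = genericPoint T :=
      ((specializes_iff_mem_closure.2 h).antisymm (genericPoint_specializes _)).eq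
    exact congrArg Subtype.val ((φ ∣_ U).homeomorph.injective (a₁ := ⟨y, show φ y ∈ U from he ▸ hgU⟩)
      (a₂ := ⟨genericPoint Z, show φ (genericPoint Z) ∈ U from hgen ▸ hgU⟩)
      (Subtype.ext (by simpa using he.trans hgen.symm)))
  · have h1 : IsIso (b ∣_ (φ ⁻¹ᵁ U')) := iso_mono
      (U := ⟨{y}ᶜ, hy.isOpen_compl⟩) (fun z (hz : φ z ∈ U') (e : z = y) => hz.2 (subset_closure (e ▸ rfl))) hb
    have h2 : IsIso (φ ∣_ U') := iso_mono (fun z hz => hz.1) hφ
    rw [morphismRestrict_comp]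
    exact IsIso.comp_isIso' h1 h2

omit [IsDiscreteValuationRing R] in
/-- Birationality descends along a contraction. -/
theorem exists_isIso_of_comp {W Z T : Scheme.{u}} [IsIntegral W] [IsIntegral Z] [IsIntegral T] (b : W ⟶ Z) {y : Z}
    (hy : IsClosed ({y} : Set Z)) (hyg : y ≠ genericPoint Z) (hbg : b (genericPoint W) = genericPoint Z)
    (hb : IsIso (b ∣_ (⟨{y}ᶜ, hy.isOpen_compl⟩ : Z.Opens))) (hsurj : y ∈ Set.range b)
    (φ : Z ⟶ T) {U : T.Opens} (hU : (U : Set T).Nonempty) (hφ : IsIso ((b ≫ φ) ∣_ U)) :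
    ∃ U' : T.Opens, (U' : Set T).Nonempty ∧ IsIso (φ ∣_ U') := by
  obtain ⟨hgen, hgU⟩ := Groth.ArSurfBasics.Factorization.apply_genericPoint (b ≫ φ) hφ hU
  let U' : T.Opens := ⟨(U : Set T) ∩ (closure {φ y})ᶜ, U.2.inter isClosed_closure.isOpen_compl⟩
  refine ⟨U', ⟨genericPoint T, hgU, fun h => hyg ?_⟩, ?_⟩
  · obtain ⟨w, rfl⟩ := hsurj
    have he : (b ≫ φ) w = genericPoint T :=
      ((specializes_iff_mem_closure.2 h).antisymm (genericPoint_specializes _)).eq
    have hw : w = genericPoint W := congrArg Subtype.val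
      (((b ≫ φ) ∣_ U).homeomorph.injective (a₁ := ⟨w, show (b ≫ φ) w ∈ U from he ▸ hgU⟩)
        (a₂ := ⟨genericPoint W, show (b ≫ φ) (genericPoint W) ∈ U from hgen ▸ hgU⟩)
        (Subtype.ext (by
          change ((((b ≫ φ) ∣_ U)) ⟨w, _⟩).1 = (((b ≫ φ) ∣_ U) ⟨genericPoint W, _⟩).1
          erw [morphismRestrict_base_coe, morphismRestrict_base_coe]
          exact he.trans hgen.symm)))
    rw [hw, hbg]
  · have h1 : IsIso (b ∣_ (φ ⁻¹ᵁ U')) := iso_mono
      (U := ⟨{y}ᶜ, hy.isOpen_compl⟩) (fun z (hz : φ z ∈ U') (e : z = y) => hz.2 (subset_closure (e ▸ rfl))) hb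
    have h2 : IsIso ((b ≫ φ) ∣_ U') := iso_mono (fun z hz => hz.1) hφ
    rw [morphismRestrict_comp] at h2
    exact @IsIso.of_isIso_comp_left _ _ _ _ _ (b ∣_ (φ ⁻¹ᵁ U')) (φ ∣_ U') h1 h2

include hnor hdimY hproj in
/-- Above a surface without contracted exceptional curves, contracted exceptional curves are contracted. -/
theorem contracted_of_contractionSeq {W Z : Scheme.{u}} {r : W ⟶ Z} (hr : Models.IsContractionSeq r) :
    ∀ (s : Z ⟶ Spec (CommRingCat.of R)) (g : Z ⟶ Y.left), g ≫ Y.hom = s → ArSurf.IsArithSurface R (Over.mk s) →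
      (∃ U : Y.left.Opens, (U : Set Y.left).Nonempty ∧ IsIso (g ∣_ U)) →
      (∀ (E : Scheme.{u}) (ι : E ⟶ Z) [IsClosedImmersion ι], Models.IsExcCurve ι →
        ¬ ∃ y : Y.left, Set.range ((ι ≫ g).base : E → Y.left) = {y}) →
      (∃ U : Y.left.Opens, (U : Set Y.left).Nonempty ∧ IsIso ((r ≫ g) ∣_ U)) ∧
      ∀ (E : Scheme.{u}) (ι : E ⟶ W) [IsClosedImmersion ι], Models.IsExcCurve ι →
        (∃ y : Y.left, Set.range ((ι ≫ r ≫ g).base : E → Y.left) = {y}) → ∀ e e', r (ι e) = r (ι e') := by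
  induction hr with
  | @iso W Z e =>
    intro s g hg hZ ⟨U, hU, hiso⟩ hexc
    haveI := hiso
    haveI : IsIntegral Z := hZ.2.1
    haveI : Nonempty W := ⟨e.inv (Classical.arbitrary Z)⟩
    haveI : IsIntegral W := isIntegral_of_isOpenImmersion e.hom
    haveI : IsLocallyNoetherian Z := by
      haveI : IsProper (Over.mk s).hom := Groth.ModelsGraphs.InterVert.isProper_of_isArithSurface hZ
      exact (LocallyOfFiniteType.isLocallyNoetherian (Over.mk s).hom : IsLocallyNoetherian (Over.mk s).left)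
    refine ⟨⟨U, hU, ?_⟩, fun E ι _ hE ⟨y, hy⟩ => ?_⟩
    · rw [morphismRestrict_comp]
      haveI : IsIso (e.hom ∣_ g ⁻¹ᵁ U) := iso_mono (U := ⊤) (fun _ _ => trivial) inferInstance
      exact @IsIso.comp_isIso _ _ _ _ _ _ _ ‹IsIso (e.hom ∣_ g ⁻¹ᵁ U)› hiso
    · refine absurd ⟨y, ?_⟩ (hexc E (ι ≫ e.hom) (isExcCurve_comp ι hE e.hom (V := ⊤) inferInstance fun _ => trivial))
      rw [Category.assoc]
      exact hy
  | @step W Z X E₀ ι₀ b r hι₀ hE₀ hb hr ih =>
    intro s g hg hX hbir hexc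
    haveI := hι₀
    obtain ⟨hN, hbp, z, hz, hz0, hzreg, hzd, hbl⟩ := id hb
    haveI := hbp
    haveI := hN
    haveI := hzreg
    obtain ⟨hbirZ, hIH⟩ := ih s g hg hX hbir hexc
    have hZ : ArSurf.IsArithSurface R (Over.mk (r ≫ s)) := ArithBlowUp.isArithSurface_of_contractionSeq hr s hX
    haveI : IsIntegral Z := hZ.2.1
    obtain ⟨hW, hbgen, hzg, hbiso⟩ := ArithBlowUp.blowUp_basic hz hzd b hbl
    haveI := hW
    have hWA : ArSurf.IsArithSurface R (Over.mk (b ≫ r ≫ s)) :=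
      ArithBlowUp.isArithSurface_blowUp (X := Over.mk (r ≫ s)) hZ hz hzd b hbl
    obtain ⟨UZ, hUZ, hUZi⟩ := hbirZ
    obtain ⟨UW, hUW, hUWi⟩ := exists_isIso_comp b hz hzg hbiso (r ≫ g) hUZ hUZi
    simp only [Category.assoc]
    refine ⟨⟨UW, hUW, hUWi⟩, fun E ι _ hE ⟨y, hy⟩ e e' => ?_⟩
    have hz' : ∀ a, b (ι₀ a) = z := fun a => by
      have : (ι₀ ≫ b) a ∈ ({z} : Set Z) := hz0 ▸ ⟨a, rfl⟩
      exact this
    by_cases heq : Set.range ι.base = Set.range ι₀.base
    · have hc : ∀ c, b (ι c) = z := fun c => by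
        obtain ⟨a, ha⟩ : ι c ∈ Set.range ι₀.base := heq ▸ ⟨c, rfl⟩
        rw [← ha]
        exact hz' a
      rw [Scheme.Hom.comp_apply, Scheme.Hom.comp_apply, hc e, hc e']
    · -- the two curves are disjoint
      let f : Over.mk (b ≫ r ≫ s) ⟶ Y := Over.homMk (b ≫ r ≫ g) (by simp [hg])
      have hy0 : Set.range ((ι₀ ≫ b ≫ r ≫ g).base : E₀ → Y.left) = {g (r z)} := by
        obtain ⟨-, a, -⟩ := isIntegral_of_isExcCurve hE₀
        refine Set.eq_singleton_iff_unique_mem.2 ⟨⟨a, ?_⟩, ?_⟩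
        · show g (r (b (ι₀ a))) = _
          rw [hz']
        · rintro _ ⟨c, rfl⟩
          show g (r (b (ι₀ c))) = _
          rw [hz']
      haveI : IsClosedImmersion (X := E) (Y := (Over.mk (b ≫ r ≫ s)).left) ι := ‹_›
      have hd : Disjoint (Set.range ι.base) (Set.range ι₀.base) :=
        disjoint_excCurves hnor hdimY hproj hWA f ⟨UW, hUW, hUWi⟩ ι hE ι₀ hE₀
          (show Set.range ((ι ≫ b ≫ r ≫ g).base : E → Y.left) = {y} from hy) hy0 heq
      obtain ⟨hE₀i, a₁, a₂, ha⟩ := isIntegral_of_isExcCurve hE₀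
      haveI := hE₀i
      have hnt : ∃ a, a ≠ genericPoint E₀ := by
        by_cases h : a₁ = genericPoint E₀
        · exact ⟨a₂, fun e => ha (h.trans e.symm)⟩
        · exact ⟨a₁, h⟩
      obtain ⟨η, hη, hgen, huniq⟩ := Groth.ResolveSurf.PointContraction.exists_generic_fibre hbl hzreg hzd
      have hoff : ∀ c, b (ι c) ≠ z := fun c hc => Set.disjoint_left.1 hd ⟨c, rfl⟩
        (Groth.ResolveSurf.PointContraction.range_eq_fibre ι₀ hz' hnt hgen huniq _ hc)
      let V : Z.Opens := ⟨{z}ᶜ, hz.isOpen_compl⟩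
      have hlift : IsPreimmersion (ι ≫ b) := by
        haveI := hbiso
        let ι' : E ⟶ ↑(b ⁻¹ᵁ V) := IsOpenImmersion.lift (b ⁻¹ᵁ V).ι ι (by
          rintro _ ⟨c, rfl⟩
          rw [Scheme.Opens.range_ι]
          exact hoff c)
        have h1 : ι' ≫ (b ⁻¹ᵁ V).ι = ι := IsOpenImmersion.lift_fac _ _ _
        haveI : IsPreimmersion ι' := by
          haveI : IsPreimmersion (ι' ≫ (b ⁻¹ᵁ V).ι) := by rw [h1]; infer_instance
          exact IsPreimmersion.of_comp ι' (b ⁻¹ᵁ V).ι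
        have h2 : ι' ≫ (b ∣_ V) ≫ V.ι = ι ≫ b := by rw [morphismRestrict_ι, ← Category.assoc, h1]
        rw [← h2]
        infer_instance
      haveI : IsClosedImmersion (ι ≫ b) :=
        IsClosedImmersion.of_isPreimmersion _ (ι ≫ b).isClosedMap.isClosed_range
      exact hIH E (ι ≫ b) (isExcCurve_comp ι hE b hbiso hoff) ⟨y, by
        rw [Category.assoc]
        exact hy⟩ e e'

omit [Flat Y.hom] in
/-- Composites with contraction sequences stay birational. -/
theorem exists_isIso_seq {W Z : Scheme.{u}} {r : W ⟶ Z} (hr : Models.IsContractionSeq r) :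
    ∀ (s : Z ⟶ Spec (CommRingCat.of R)), ArSurf.IsArithSurface R (Over.mk s) → ∀ (g : Z ⟶ Y.left),
      (∃ U : Y.left.Opens, (U : Set Y.left).Nonempty ∧ IsIso (g ∣_ U)) →
      ∃ U : Y.left.Opens, (U : Set Y.left).Nonempty ∧ IsIso ((r ≫ g) ∣_ U) := by
  induction hr with
  | @iso W Z e =>
    intro s _ g ⟨U, hU, hiso⟩
    refine ⟨U, hU, ?_⟩
    rw [morphismRestrict_comp]
    haveI : IsIso (e.hom ∣_ g ⁻¹ᵁ U) := iso_mono (U := ⊤) (fun _ _ => trivial) inferInstance
    exact @IsIso.comp_isIso _ _ _ _ _ _ _ ‹IsIso (e.hom ∣_ g ⁻¹ᵁ U)› hiso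
  | @step W Z X E₀ ι₀ b r hι₀ hE₀ hb hr ih =>
    intro s hX g hbir
    obtain ⟨hN, hbp, z, hz, -, hzreg, hzd, hbl⟩ := hb
    haveI := hN
    haveI : IsIntegral Z := (ArithBlowUp.isArithSurface_of_contractionSeq hr s hX).2.1
    obtain ⟨-, -, hzg, hbiso⟩ := ArithBlowUp.blowUp_basic hz hzd b hbl
    obtain ⟨U, hU, hUi⟩ := ih s hX g hbir
    rw [Category.assoc]
    exact exists_isIso_comp b hz hzg hbiso (r ≫ g) hU hUi

include hnor hdimY hproj in
/-- A map from a surface sitting over two birational models descends. -/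
theorem exists_desc {W X' : Scheme.{u}} {f : W ⟶ X'} (hf : Models.IsContractionSeq f) :
    ∀ (s' : X' ⟶ Spec (CommRingCat.of R)) (g' : X' ⟶ Y.left), g' ≫ Y.hom = s' →
      ArSurf.IsArithSurface R (Over.mk s') →
      (∃ U : Y.left.Opens, (U : Set Y.left).Nonempty ∧ IsIso ((f ≫ g') ∣_ U)) →
      ∀ (X : Over (Spec (CommRingCat.of R))), ArSurf.IsArithSurface R X → ∀ (g : X ⟶ Y) (Ug : Y.left.Opens),
      (Ug : Set Y.left).Nonempty → IsIso (g.left ∣_ Ug) →
      (∀ (E : Scheme.{u}) (ι : E ⟶ X.left) [IsClosedImmersion ι], Models.IsExcCurve ι →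
        ¬ ∃ y : Y.left, Set.range ((ι ≫ g.left).base : E → Y.left) = {y}) →
      ∀ h : W ⟶ X.left, h ≫ g.left = f ≫ g' → ∃ k : X' ⟶ X.left, f ≫ k = h ∧ k ≫ g.left = g' := by
  induction hf with
  | @iso W X' e =>
    intro s' g' _ _ _ X _ g Ug _ _ _ h hh
    exact ⟨e.inv ≫ h, e.hom_inv_id_assoc h, by rw [Category.assoc, hh, e.inv_hom_id_assoc]⟩
  | @step W Z X' E ι b r hι hE hb hr ih =>
    intro s' g' hg' hX' hbirW X hX g Ug hUg hisog hexc h hh
    haveI := hι
    obtain ⟨hN, hbp, z, hz, hz0, hzreg, hzd, hbl⟩ := id hb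
    haveI := hbp
    haveI := hN
    haveI := hzreg
    have hZ : ArSurf.IsArithSurface R (Over.mk (r ≫ s')) := ArithBlowUp.isArithSurface_of_contractionSeq hr s' hX'
    haveI : IsIntegral Z := hZ.2.1
    obtain ⟨hW, hbgen, hzg, hbiso⟩ := ArithBlowUp.blowUp_basic hz hzd b hbl
    haveI := hW
    have hWA : ArSurf.IsArithSurface R (Over.mk (b ≫ r ≫ s')) :=
      ArithBlowUp.isArithSurface_blowUp (X := Over.mk (r ≫ s')) hZ hz hzd b hbl
    obtain ⟨UW, hUW, hUWi⟩ := hbirW
    simp only [Category.assoc] at hh hUWi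
    -- `h` is a contraction sequence
    haveI := hX.2.1
    haveI : IsProper X.hom := Groth.ModelsGraphs.InterVert.isProper_of_isArithSurface hX
    haveI : AlgebraicGeometry.IsNoetherian X.left := isNoetherian_of_isProper
    haveI : IsLocallyNoetherian W := LocallyOfFiniteType.isLocallyNoetherian b
    haveI : CompactSpace W := QuasiCompact.compactSpace_of_compactSpace b
    haveI : IsProper (h ≫ X.hom) := by
      rw [← Over.w g, ← Category.assoc, hh, Category.assoc, Category.assoc, hg']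
      exact (Groth.ModelsGraphs.InterVert.isProper_of_isArithSurface hWA : IsProper (Over.mk (b ≫ r ≫ s')).hom)
    haveI : IsProper h := IsProper.of_comp h X.hom
    have hU1 : ((UW ⊓ Ug : Y.left.Opens) : Set Y.left).Nonempty :=
      (nonempty_preirreducible_inter UW.2 Ug.2 hUW hUg)
    have hh1 : IsIso (h ∣_ (g.left ⁻¹ᵁ (UW ⊓ Ug))) := by
      have h1 : IsIso ((h ≫ g.left) ∣_ (UW ⊓ Ug)) :=
        hh ▸ iso_mono (fun z hz => hz.1) hUWi
      rw [morphismRestrict_comp] at h1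
      exact @IsIso.of_isIso_comp_right _ _ _ _ _ _ _
        (iso_mono (fun z hz => hz.2) hisog) h1
    have hhne : ((g.left ⁻¹ᵁ (UW ⊓ Ug) : X.left.Opens) : Set X.left).Nonempty := by
      obtain ⟨v, hv⟩ := hU1
      obtain ⟨w, hw⟩ := (g.left ∣_ Ug).homeomorph.surjective ⟨v, hv.2⟩
      refine ⟨w.1, ?_⟩
      have : g.left w.1 = v := by simpa using congrArg Subtype.val hw
      show g.left w.1 ∈ UW ⊓ Ug
      rw [this]
      exact hv
    have hseq : Models.IsContractionSeq h :=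
      Groth.ArSurfBasics.Factorization.isContractionSeq h hWA.1 hWA.2.2.1 hX.2.2.1 hh1 hhne hX.1
    -- the exceptional curve of `b` is contracted by `h`
    have hz' : ∀ a, b (ι a) = z := fun a => by
      have : (ι ≫ b) a ∈ ({z} : Set Z) := hz0 ▸ ⟨a, rfl⟩
      exact this
    obtain ⟨-, hcon⟩ := contracted_of_contractionSeq hnor hdimY hproj hseq X.hom g.left (Over.w g) hX
      ⟨Ug, hUg, hisog⟩ hexc
    obtain ⟨hEi, a, -⟩ := isIntegral_of_isExcCurve hE
    obtain ⟨ψ, hψ, -⟩ := Groth.ResolveSurf.ContractionDesc.existsUnique_desc ι hE b hb h (hcon E ι hE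
      ⟨g' (r z), by
        rw [hh]
        refine Set.eq_singleton_iff_unique_mem.2 ⟨⟨a, ?_⟩, ?_⟩
        · show g' (r (b (ι a))) = _
          rw [hz']
        · rintro _ ⟨c, rfl⟩
          show g' (r (b (ι c))) = _
          rw [hz']⟩)
    have hψg : ψ ≫ g.left = r ≫ g' := by
      obtain ⟨_, -, huni⟩ := Groth.ResolveSurf.ContractionDesc.existsUnique_desc ι hE b hb (b ≫ r ≫ g')
        fun c c' => by simp [hz']
      exact (huni _ (by simp only [← Category.assoc, hψ, hh])).trans (huni _ rfl).symm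
    have hzr : z ∈ Set.range b := ⟨ι a, hz' a⟩
    obtain ⟨k, hk, hkg⟩ := ih s' g' hg' hX'
      (exists_isIso_of_comp b hz hzg hbgen hbiso hzr (r ≫ g') hUW hUWi) X hX g Ug hUg hisog hexc ψ hψg
    exact ⟨k, by rw [Category.assoc, hk, hψ], hkg⟩

end Groth.ArSurfBasics.ExcContracted
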