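import Groth.Agent.ArSurfBasics.ZMTPoint
import Groth.Agent.ModelsGraphs.GoingDownNormal
import Groth.Agent.PropsBasic.IntegralImage

/-!
Factorisation of a morphism through a proper birational morphism onto a normal scheme, when it is
constant on the exceptional fibres.
-/

set_option autoImplicit false
set_option backward.isDefEq.respectTransparency.types false

universe u

open CategoryTheory CategoryTheory.Limits AlgebraicGeometry TopologicalSpace

namespace Groth.ArSurfBasics

/-- Points of a fibre product over one point of the first factor and one closed point of the second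
factor, proper over the base, do not specialise. -/
theorem eq_of_specializes_pullback {S Y₁ Y₂ : Scheme.{u}} (h₁ : Y₁ ⟶ S) (h₂ : Y₂ ⟶ S) [IsProper h₂]
    {a b : ↥(pullback h₁ h₂)} (h : a ⤳ b) (hfst : pullback.fst h₁ h₂ a = pullback.fst h₁ h₂ b)
    (hsnd : pullback.snd h₁ h₂ a = pullback.snd h₁ h₂ b)
    (hc : IsClosed ({pullback.snd h₁ h₂ b} : Set Y₂)) : a = b := by
  obtain ⟨y, hy⟩ : ∃ y, pullback.snd h₁ h₂ b = y := ⟨_, rfl⟩
  rw [hy] at hc hsnd
  let i := Y₂.fromSpecResidueField y
  haveI : IsClosedImmersion i := isClosed_singleton_iff_isClosedImmersion.1 hc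
  haveI : IsProper (i ≫ h₂) := inferInstance
  haveI : LocallyQuasiFinite (i ≫ h₂) :=
    LocallyQuasiFinite.of_injective (Function.injective_of_subsingleton _)
  haveI : IsFinite (i ≫ h₂) := IsFinite.of_isProper_of_locallyQuasiFinite _
  let m := pullback.map h₁ (i ≫ h₂) h₁ h₂ (𝟙 _) i (𝟙 _) (by simp) (by simp)
  have hrange : ∀ c : ↥(pullback h₁ h₂), pullback.snd h₁ h₂ c = y → c ∈ Set.range m := fun c hc' => by
    rw [Scheme.Pullback.range_map]
    refine ⟨⟨pullback.fst h₁ h₂ c, by simp⟩, ?_⟩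
    change pullback.snd h₁ h₂ c ∈ Set.range i
    rw [Scheme.range_fromSpecResidueField]
    exact hc'
  obtain ⟨a', rfl⟩ := hrange a hsnd
  obtain ⟨b', rfl⟩ := hrange b hy
  have hci : IsClosedImmersion m :=
    MorphismProperty.pullback_map (P := @IsClosedImmersion) inferInstance inferInstance
      (Category.id_comp _).symm rfl
  rw [m.isEmbedding.isInducing.specializes_iff] at h
  refine congrArg m (Groth.ModelsGraphs.GoingDownNormal.eq_of_specializes (pullback.fst h₁ (i ≫ h₂)) h ?_)
  have e : ∀ c, pullback.fst h₁ h₂ (m c) = pullback.fst h₁ (i ≫ h₂) c := fun c => by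
    rw [← Scheme.Hom.comp_apply, pullback.lift_fst, Category.comp_id]
  rwa [← e, ← e]

/-- Let `f₁ : X ⟶ Y₁` be proper, an isomorphism over a nonempty open `W` of the normal integral
scheme `Y₁`, and let `f₂ : X ⟶ Y₂` be a morphism over `S` into a proper scheme whose values on
`f₁⁻¹(Y₁ ∖ W)` are closed points, such that related points in one fibre have equal values. Then
`f₂` factors uniquely through `f₁`. -/
theorem existsUnique_factor {S X Y₁ Y₂ : Scheme.{u}} [IsIntegral X] [IsNoetherian X] [IsIntegral Y₁]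
    (h₁ : Y₁ ⟶ S) (h₂ : Y₂ ⟶ S) [IsProper h₂] [IsSeparated h₁]
    (hN : ∀ y : Y₁, IsIntegrallyClosed (Y₁.presheaf.stalk y))
    (f₁ : X ⟶ Y₁) (f₂ : X ⟶ Y₂) [IsProper f₁] (w : f₁ ≫ h₁ = f₂ ≫ h₂) [IsLocallyNoetherian Y₁]
    {W : Y₁.Opens} (hW : (W : Set Y₁).Nonempty) [IsIso (f₁ ∣_ W)]
    (hcl : ∀ x, f₁ x ∉ W → IsClosed ({f₂ x} : Set Y₂)) :
    ∃! g : Y₁ ⟶ Y₂, f₁ ≫ g = f₂ ∧ g ≫ h₂ = h₁ := by
  let l : X ⟶ pullback h₁ h₂ := pullback.lift f₁ f₂ w
  haveI : IsProper (l ≫ pullback.fst h₁ h₂) := by rw [pullback.lift_fst]; infer_instance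
  haveI : IsProper l := IsProper.of_comp l (pullback.fst h₁ h₂)
  let p : l.image ⟶ Y₁ := l.imageι ≫ pullback.fst h₁ h₂
  let q : X ⟶ l.image := l.toImage
  have hqp : q ≫ p = f₁ := by
    rw [← Category.assoc, Scheme.Hom.toImage_imageι, pullback.lift_fst]
  haveI : IsProper (q ≫ p) := by rw [hqp]; infer_instance
  haveI : IsProper p := inferInstance
  haveI : IsProper q := IsProper.of_comp q p
  haveI : Surjective q := ⟨fun z => by
    have := q.isClosedMap.isClosed_range.closure_eq.symm.trans q.denseRange.closure_range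
    exact Set.eq_univ_iff_forall.1 this z⟩
  haveI : IsIntegral l.image := Groth.PropsBasic.isIntegral_image l
  haveI : IsLocallyNoetherian l.image := LocallyOfFiniteType.isLocallyNoetherian p
  haveI : CompactSpace l.image := q.surjective.compactSpace q.continuous
  haveI : IsNoetherian l.image := { }
  haveI hpW : IsIso (p ∣_ W) := by
    haveI hiso : IsIso (q ∣_ (p ⁻¹ᵁ W) ≫ p ∣_ W) := by
      have key : ∀ f : X ⟶ Y₁, f = f₁ → IsIso (f ∣_ W) := by
        intro f hf
        subst hf
        infer_instance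
      have h := key _ hqp
      rw [morphismRestrict_comp] at h
      exact h
    haveI : IsClosedImmersion (q ∣_ (p ⁻¹ᵁ W) ≫ p ∣_ W) := inferInstance
    haveI : IsClosedImmersion (q ∣_ (p ⁻¹ᵁ W)) := IsClosedImmersion.of_comp _ (p ∣_ W)
    haveI : Surjective (q ∣_ (p ⁻¹ᵁ W)) := IsZariskiLocalAtTarget.restrict ‹Surjective q› _
    haveI : IsIso (q ∣_ (p ⁻¹ᵁ W)) := isIso_of_isClosedImmersion_of_surjective _
    exact IsIso.of_isIso_comp_left (q ∣_ (p ⁻¹ᵁ W)) (p ∣_ W)
  haveI : IsIso p := isIso_of_forall_nhd p fun y => by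
    by_cases hy : y ∈ W
    · exact ⟨W, hy, inferInstance⟩
    haveI := hN y
    refine (isIso_nhd_or_related p hW y).resolve_right fun hrel => ?_
    have hsurj : ∃ z, p z = y := by
      have hp : Set.range p = Set.univ := by
        have hd : DenseRange p := by
          refine (W.isOpen.dense hW).mono fun v hv => ?_
          obtain ⟨c, hc⟩ := (Scheme.homeoOfIso (asIso (p ∣_ W))).surjective ⟨v, hv⟩
          refine ⟨c.1, ?_⟩
          rw [← morphismRestrict_base_coe]
          exact congrArg Subtype.val hc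
        exact p.isClosedMap.isClosed_range.closure_eq.symm.trans hd.closure_range
      exact Set.eq_univ_iff_forall.1 hp y
    obtain ⟨x, hx⟩ := hsurj
    obtain ⟨z, hz, hne, hzx⟩ := hrel x hx
    have key : ∀ a b, p a = y → p b = y → a ⤳ b → a = b := fun a b ha hb hab => by
      obtain ⟨a', rfl⟩ := q.surjective a
      obtain ⟨b', rfl⟩ := q.surjective b
      have h1 : f₁ a' = y := by rw [← hqp, Scheme.Hom.comp_apply, ha]
      have h1' : f₁ b' = y := by rw [← hqp, Scheme.Hom.comp_apply, hb]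
      apply l.imageι.isEmbedding.injective
      have e : ∀ c, l.imageι (q c) = l c := fun c => by
        rw [← Scheme.Hom.comp_apply, Scheme.Hom.toImage_imageι]
      have hsnd : ∀ c, pullback.snd h₁ h₂ (l c) = f₂ c := fun c => by
        rw [← Scheme.Hom.comp_apply, pullback.lift_snd]
      have hs : l.imageι (q a') ⤳ l.imageι (q b') := hab.map l.imageι.continuous
      refine eq_of_specializes_pullback h₁ h₂ hs (ha.trans hb.symm) ?_ ?_
      · rw [e, e] at hs ⊢
        have h3 := hs.map (pullback.snd h₁ h₂).continuous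
        rw [hsnd, hsnd] at h3 ⊢
        exact ((hcl a' (h1 ▸ hy)).closure_eq ▸ h3.mem_closure : f₂ b' ∈ ({f₂ a'} : Set Y₂)).symm
      · rw [e, hsnd]
        exact hcl b' (h1' ▸ hy)
    exact hzx.elim (fun h => hne (key z x hz hx h)) (fun h => hne (key x z hx hz h).symm)
  let g := inv p ≫ l.imageι ≫ pullback.snd h₁ h₂
  have hg : f₁ ≫ g = f₂ := by
    rw [← hqp]
    simp only [g, Category.assoc, IsIso.hom_inv_id_assoc]
    rw [← Category.assoc, Scheme.Hom.toImage_imageι, pullback.lift_snd]
  haveI : IsDominant f₁ := by rw [← hqp]; infer_instance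
  refine ⟨g, ⟨hg, ?_⟩, fun g' hg' => ?_⟩
  · simp only [g, Category.assoc, IsIso.inv_comp_eq]
    change l.imageι ≫ pullback.snd h₁ h₂ ≫ h₂ = (l.imageι ≫ pullback.fst h₁ h₂) ≫ h₁
    rw [Category.assoc, pullback.condition]
  · have hgw : g ≫ h₂ = h₁ := by
      simp only [g, Category.assoc, IsIso.inv_comp_eq]
      change l.imageι ≫ pullback.snd h₁ h₂ ≫ h₂ = (l.imageι ≫ pullback.fst h₁ h₂) ≫ h₁
      rw [Category.assoc, pullback.condition]
    exact ext_of_isDominant_of_isSeparated h₂ (hg'.2.trans hgw.symm) f₁ (hg'.1.trans hg.symm)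

end Groth.ArSurfBasics
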