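import Groth.Agent.ArSurfBasics.BirationalPoint
import Groth.Agent.ParaFormal.StalkIdeal
import Groth.Agent.HensPair.FibrationFunctionField
import Groth.Agent.PnCoh.ProjFinite
import Groth.Agent.PicAux.RegularUFD
import Groth.Agent.Divisors.EffCartierDim
import Groth.Agent.Duality.PnPushDepth
import Mathlib.AlgebraicGeometry.Geometrically.Connected

/-!
A proper birational morphism of regular surfaces with positive dimensional fibre over a closed point factors
through the blow-up of the point.
-/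

set_option autoImplicit false
set_option backward.isDefEq.respectTransparency.types false

universe u

open CategoryTheory CategoryTheory.Limits AlgebraicGeometry TopologicalSpace IsLocalRing

namespace Groth.ArSurfBasics.FactorBlowUp

variable {X Y : Scheme.{u}}

/-- A generisation with maximal prime is the point itself. -/
theorem eq_of_comap_eq_maximal {x x' : X} (h : x' ⤳ x)
    (he : (maximalIdeal (X.presheaf.stalk x')).comap (X.presheaf.stalkSpecializes h).hom =
      maximalIdeal (X.presheaf.stalk x)) : x' = x := by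
  obtain ⟨U, hx, -⟩ := Divisors.exists_affine_le x ⊤ trivial
  have hx' := h.mem_open U.1.2 hx
  have e : (U.2.primeIdealOf ⟨x', hx'⟩).asIdeal = (U.2.primeIdealOf ⟨x, hx⟩).asIdeal := by
    rw [← Groth.ParaFormal.comap_maximal_eq U.2 hx, ← he, Ideal.comap_comap,
      Groth.ParaFormal.germ_comp_spec, Groth.ParaFormal.comap_maximal_eq U.2 hx']
  calc x' = U.2.fromSpec (U.2.primeIdealOf ⟨x', hx'⟩) := (U.2.fromSpec_primeIdealOf ⟨x', hx'⟩).symm
    _ = U.2.fromSpec (U.2.primeIdealOf ⟨x, hx⟩) := congrArg _ (PrimeSpectrum.ext e)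
    _ = x := U.2.fromSpec_primeIdealOf _

/-- The ideal of a closed point at the point is the maximal ideal. -/
theorem stalkIdeal_vanishingIdeal {y : Y} (hy : IsClosed ({y} : Set Y)) :
    IntMult.stalkIdeal (Scheme.IdealSheafData.vanishingIdeal ⟨{y}, hy⟩) y =
      maximalIdeal (Y.presheaf.stalk y) := by
  obtain ⟨U, hyU, -⟩ := Divisors.exists_affine_le y ⊤ trivial
  rw [Groth.ParaFormal.stalkIdeal_eq _ U hyU]
  let _ := Y.presheaf.algebra_section_stalk ⟨y, hyU⟩
  have := U.2.isLocalization_stalk ⟨y, hyU⟩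
  have hset : U.2.fromSpec ⁻¹' ({y} : Set Y) = {U.2.primeIdealOf ⟨y, hyU⟩} := by
    ext q
    exact ⟨fun h => U.2.fromSpec.isEmbedding.injective ((h : U.2.fromSpec q = y).trans
      (U.2.fromSpec_primeIdealOf ⟨y, hyU⟩).symm),
      fun h => (congrArg U.2.fromSpec (h : q = _)).trans (U.2.fromSpec_primeIdealOf ⟨y, hyU⟩)⟩
  rw [← IsLocalization.AtPrime.map_eq_maximalIdeal (U.2.primeIdealOf ⟨y, hyU⟩).asIdeal (Y.presheaf.stalk y)]
  congr 1
  show PrimeSpectrum.vanishingIdeal (U.2.fromSpec ⁻¹' ({y} : Set Y)) = _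
  exact (congrArg PrimeSpectrum.vanishingIdeal hset).trans (PrimeSpectrum.vanishingIdeal_singleton _)

/-- At most two generators for the maximal ideal. -/
theorem exists_pair (A : Type u) [CommRing A] [IsRegularLocalRing A] (h : ringKrullDim A ≤ 2) :
    ∃ a b : A, maximalIdeal A = Ideal.span {a, b} := by
  have hfg := (maximalIdeal A).fg_of_isNoetherianRing
  have hn : (maximalIdeal A).spanFinrank ≤ 2 := by
    have := IsRegularLocalRing.spanFinrank_maximalIdeal (R := A) ▸ h
    exact_mod_cast this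
  have hc := Submodule.FG.generators_ncard hfg
  have hsp := (maximalIdeal A).span_generators
  rcases Nat.le_one_iff_eq_zero_or_eq_one.1 ((maximalIdeal A).spanFinrank.min_le_right 1) with h0 | h0
  · have h0' : (maximalIdeal A).spanFinrank = 0 := by omega
    refine ⟨0, 0, hsp.symm.trans ?_⟩
    rw [Set.ncard_eq_zero (Submodule.FG.finite_generators hfg) |>.1 (hc.trans h0')]
    simp
  · by_cases h1 : (maximalIdeal A).spanFinrank = 1
    · obtain ⟨a, ha⟩ := Set.ncard_eq_one.1 (hc.trans h1)
      exact ⟨a, a, hsp.symm.trans (by rw [ha, Set.pair_eq_singleton])⟩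
    · obtain ⟨a, b, -, hab⟩ := Set.ncard_eq_two.1 (hc.trans (show _ = 2 by omega))
      exact ⟨a, b, hsp.symm.trans (by rw [hab])⟩

variable [IsIntegral X] [IsIntegral Y] [IsLocallyNoetherian Y]

/-- The fibre over a closed point with at least two points has no isolated closed point. -/
theorem exists_ne_generization [NoetherianSpace X] (f : X ⟶ Y) [GeometricallyConnected f] {x : X}
    (hx : IsClosed ({x} : Set X)) (hy : IsClosed ({f x} : Set Y))
    (hbig : ∃ x' : X, x' ≠ x ∧ f x' = f x) :
    ∃ z : X, z ≠ x ∧ z ⤳ x ∧ f z = f x := by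
  by_contra hno
  push Not at hno
  let F : Set X := f ⁻¹' {f x}
  have hFc : IsClosed F := hy.preimage f.continuous
  obtain ⟨S, hSfin, hSc, hSirr, hS⟩ := NoetherianSpace.exists_finite_set_isClosed_irreducible hFc
  let C : Set X := ⋃₀ {s ∈ S | x ∉ s}
  have hCc : IsClosed C := by
    show IsClosed (⋃₀ {s ∈ S | x ∉ s})
    rw [Set.sUnion_eq_biUnion]
    exact (hSfin.subset (fun s (hs : s ∈ {s ∈ S | x ∉ s}) => hs.1)).isClosed_biUnion fun s hs => hSc s hs.1
  have hsing : ∀ s ∈ S, x ∈ s → s = {x} := fun s hs hxs => by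
    obtain ⟨z, hz⟩ := QuasiSober.sober (hSirr s hs) (hSc s hs)
    have hzF : z ∈ F := by
      rw [hS]
      exact ⟨s, hs, hz.mem⟩
    have hzx : z = x := by
      by_contra hne
      exact hno z hne (hz.specializes hxs) hzF
    rw [← hz.def, hzx, hx.closure_eq]
  have hcov : F ⊆ {x} ∪ C := fun z hz => by
    rw [hS] at hz
    obtain ⟨s, hs, hzs⟩ := hz
    by_cases hxs : x ∈ s
    · exact Or.inl (by rwa [hsing s hs hxs] at hzs)
    · exact Or.inr ⟨s, ⟨hs, hxs⟩, hzs⟩
  obtain ⟨x', hne, hx'⟩ := hbig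
  have hpre : _root_.IsPreconnected F := (f.isConnected_preimage_singleton (f x)).isPreconnected
  obtain ⟨w, -, hw1, hw2⟩ := isPreconnected_closed_iff.1 hpre {x} C hx hCc hcov ⟨x, rfl, rfl⟩
    ⟨x', hx', ((hcov hx').resolve_left hne)⟩
  obtain ⟨s, ⟨-, hxs⟩, hws⟩ := hw2
  exact hxs ((show w = x from hw1) ▸ hws)

/-- The pull-back of the ideal of the point is invertible. -/
theorem isEffCartierIdeal_comap [IsLocallyNoetherian X] [CompactSpace X] (f : X ⟶ Y) [IsProper f]
    (hX : ∀ x : X, IsRegularLocalRing (X.presheaf.stalk x))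
    (hY : ∀ y : Y, IsRegularLocalRing (Y.presheaf.stalk y))
    (hdX : topologicalKrullDim X ≤ 2) (hdY : topologicalKrullDim Y ≤ 2)
    {U : Y.Opens} (hU : IsIso (f ∣_ U)) (hUne : (U : Set Y).Nonempty)
    {y : Y} (hy : IsClosed ({y} : Set Y)) (hgen : y ≠ genericPoint Y)
    (hbig : ∃ x x' : X, x ≠ x' ∧ f x = y ∧ f x' = y) :
    BlowUp.IsEffCartierIdeal ((Scheme.IdealSheafData.vanishingIdeal ⟨{y}, hy⟩).comap f) := by
  obtain ⟨u₀, hu₀⟩ := hUne
  have hgU : genericPoint Y ∈ U := ((genericPoint_spec Y).mem_open_set_iff U.2).2 ⟨u₀, trivial, hu₀⟩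
  obtain ⟨w, hw⟩ := (f ∣_ U).homeomorph.surjective ⟨genericPoint Y, hgU⟩
  have hfw : f w.1 = genericPoint Y := by
    have := congrArg Subtype.val hw
    simpa using this
  have hξw : genericPoint X ⤳ w.1 := (genericPoint_spec X).specializes (Set.mem_univ _)
  have hξU : f (genericPoint X) ∈ U := (hξw.map f.continuous).mem_open U.2 (hfw ▸ hgU)
  have hdom : f.base (genericPoint X) ⤳ genericPoint Y := hfw ▸ hξw.map f.continuous
  have hσ := Groth.HensPair.bijective_stalkToFunctionField_of_mem f hdom hU hξU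
  have hnormY : ∀ y : Y, IsIntegrallyClosed (Y.presheaf.stalk y) := fun y => by
    haveI := hY y
    haveI := Groth.PicAux.ufd_of_isRegularLocalRing (Y.presheaf.stalk y)
    infer_instance
  haveI : GeometricallyConnected f :=
    Groth.HensPair.geometricallyConnected_of_isIso_app f Groth.PnCoh.projFinite fun V _ =>
      Groth.HensPair.isIso_app_of_isIntegralElem f Groth.PnCoh.projFinite hdom hnormY
        (fun z _ => hσ.2 z) V
  haveI : AlgebraicGeometry.IsNoetherian X := {}
  refine Groth.Divisors.isEffCartierIdeal_of_stalk _ fun x hxs W hxW => ?_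
  have hfx : f x = y := by
    have : x ∈ (((Scheme.IdealSheafData.vanishingIdeal ⟨{y}, hy⟩).comap f).support : Set X) := hxs
    rw [Scheme.IdealSheafData.support_comap] at this
    simpa [Scheme.IdealSheafData.coe_support_vanishingIdeal] using this
  subst hfx
  rw [← Groth.ParaFormal.stalkIdeal_eq _ W hxW, Groth.ParaFormal.stalkIdeal_comap,
    stalkIdeal_vanishingIdeal hy]
  haveI := hX x
  haveI := hY (f x)
  haveI := Groth.PicAux.ufd_of_isRegularLocalRing (X.presheaf.stalk x)
  have hBinj : Function.Injective (algebraMap (X.presheaf.stalk x) X.functionField) :=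
    IsFractionRing.injective _ _
  have hcomp : ∀ v : Y.presheaf.stalk (f x), algebraMap (X.presheaf.stalk x) X.functionField (f.stalkMap x v) =
      CohIII.stalkToFunctionField f (genericPoint Y) hdom (algebraMap (Y.presheaf.stalk (f x)) Y.functionField v) := by
    intro v
    show X.presheaf.stalkSpecializes _ (f.stalkMap x v) =
      f.stalkMap (genericPoint X) (Y.presheaf.stalkSpecializes hdom
        (Y.presheaf.stalkSpecializes ((genericPoint_spec Y).specializes (Set.mem_univ _)) v))
    rw [← Scheme.Hom.stalkSpecializes_stalkMap_apply]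
    congr 1
    exact (ConcreteCategory.congr_hom (TopCat.Presheaf.stalkSpecializes_comp Y.presheaf hdom _) v).symm
  have hφ : Function.Injective (f.stalkMap x).hom := fun v v' h =>
    IsFractionRing.injective (Y.presheaf.stalk (f x)) Y.functionField
      (hσ.1 (by rw [← hcomp, ← hcomp]; exact congrArg _ h))
  have hfrac : ∀ z : X.presheaf.stalk x, ∃ v w : Y.presheaf.stalk (f x),
      w ≠ 0 ∧ z * (f.stalkMap x).hom w = (f.stalkMap x).hom v := fun z => by
    obtain ⟨q, hq⟩ := hσ.2 (algebraMap _ X.functionField z)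
    obtain ⟨v, w, hw, rfl⟩ := IsFractionRing.div_surjective (A := Y.presheaf.stalk (f x)) q
    refine ⟨v, w, nonZeroDivisors.ne_zero hw, hBinj ?_⟩
    rw [map_mul, ← hq]
    erw [hcomp, hcomp]
    rw [← map_mul, div_mul_cancel₀]
    exact fun e => nonZeroDivisors.ne_zero hw
      (IsFractionRing.injective (Y.presheaf.stalk (f x)) Y.functionField (e.trans (map_zero _).symm))
  have hne : maximalIdeal (Y.presheaf.stalk (f x)) ≠ ⊥ := fun h0 => hgen <| Eq.symm <|
    eq_of_comap_eq_maximal ((genericPoint_spec Y).specializes (Set.mem_univ _))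
      (le_antisymm (le_maximalIdeal Ideal.IsPrime.ne_top') (h0.le.trans bot_le))
  obtain ⟨a, b, hab⟩ := exists_pair (Y.presheaf.stalk (f x))
    ((Groth.Duality.ringKrullDim_stalk_le (f x)).trans hdY)
  rcases Groth.ArSurfBasics.BirationalPoint.principal_or (f.stalkMap x).hom hφ hfrac
      ((Groth.Duality.ringKrullDim_stalk_le x).trans hdX) hab hne with ⟨g, hg, hgI⟩ | ⟨honly, h2⟩
  · exact ⟨g, mem_nonZeroDivisors_of_ne_zero hg, hgI⟩
  exfalso
  have hxc : IsClosed ({x} : Set X) := by
    rw [← closure_eq_iff_isClosed]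
    refine (Set.eq_of_subset_of_subset (fun x' hx' => ?_) subset_closure)
    by_contra hne'
    have hsp : x ⤳ x' := specializes_iff_mem_closure.2 hx'
    have hlt : x' < x := lt_of_le_not_ge hsp fun h => hne' (Specializes.antisymm (h : x' ⤳ x) hsp).eq
    have h3 := (Groth.Duality.ringKrullDim_stalk_le x').trans hdX
    rw [ringKrullDim_stalk_eq_coheight] at h3 h2
    rw [show (2 : WithBot ℕ∞) = (((2 : ℕ) : ℕ∞) : WithBot ℕ∞) from rfl] at h2 h3
    have h2' : ((2 : ℕ) : ℕ∞) ≤ Order.coheight x := WithBot.coe_le_coe.1 h2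
    have h3' : Order.coheight x' ≤ ((2 : ℕ) : ℕ∞) := WithBot.coe_le_coe.1 h3
    have := Order.coheight_strictAnti hlt (lt_of_le_of_lt
      ((Order.coheight_anti hlt.le).trans h3') (ENat.coe_lt_top 2))
    exact absurd ((h2'.trans_lt this).trans_le h3') (lt_irrefl _)
  obtain ⟨x₁, x₂, hne12, h₁, h₂⟩ := hbig
  obtain ⟨z, hzx, hz, hfz⟩ := exists_ne_generization f hxc hy (by
    by_cases h : x₁ = x
    · exact ⟨x₂, fun e => hne12 (h.trans e.symm), h₂⟩
    · exact ⟨x₁, h, h₁⟩)
  refine hzx (eq_of_comap_eq_maximal hz (honly _ inferInstance ?_))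
  rw [Ideal.map_le_iff_le_comap]
  intro r hr
  rw [Ideal.mem_comap, Ideal.mem_comap]
  show X.presheaf.stalkSpecializes hz (f.stalkMap x r) ∈ maximalIdeal _
  rw [← Scheme.Hom.stalkSpecializes_stalkMap_apply]
  refine (mem_maximalIdeal _).2 fun hu => ?_
  have hu' := (isUnit_map_iff (f.stalkMap z).hom _).1 hu
  have key : ∀ (p : Y) (hp : p = f x) (hs : p ⤳ f x), IsUnit (Y.presheaf.stalkSpecializes hs r) → IsUnit r := by
    rintro p rfl hs hp
    rwa [TopCat.Presheaf.stalkSpecializes_refl] at hp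
  exact (mem_maximalIdeal _).1 hr (key _ hfz _ hu')

end Groth.ArSurfBasics.FactorBlowUp
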