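import Groth.Agent.ModelsGraphs.FieldChain
import Groth.Agent.ModelsGraphs.InterBasic

/-!
# Multiples of the closed fibre with fields of functions, connected closed fibre

The lemmas of `FieldChain` with `H⁰(X, O) = R` weakened to connectedness of the closed fibre, and
the consequence that a closed fibre with coprime multiplicities has a field of functions.
-/

set_option autoImplicit false

universe u

open CategoryTheory CategoryTheory.Limits AlgebraicGeometry TopologicalSpace

namespace Groth.ArSurfBasics.FieldConn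

open Groth.ModelsGraphs.Inter Groth.ModelsGraphs.InterPair Groth.ModelsGraphs.InterForm
  Groth.ModelsGraphs.FieldChain

variable {R : Type u} [CommRing R] [IsDomain R] [IsDiscreteValuationRing R]
  {X : Over (Spec (CommRingCat.of R))} {n : ℕ} [IsProper X.hom] [Flat X.hom]
  {Γs : Fin n → ArSurf.VertComp R X} {L : Fin n → X.left.Modules}
  (hreg : Models.IsRegularScheme X.left) (hΓ : Models.IsComponentList R X Γs)
  (hL : ∀ i, ClSub.IsInverseOf (L i) (ClSub.idealMod (Γs i).ι.ker))

include hreg hΓ hL

/-- `∑ Γ_i` has a field of global functions. -/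
theorem isFieldSub_one (hpre : _root_.IsPreconnected (X.hom.base ⁻¹' {IsLocalRing.closedPoint R})) (hn : 0 < n) :
    IsFieldSub (ideal Γs fun _ => 1) := by
  suffices h : ∀ m, 1 ≤ m → m ≤ n → ∃ S : Finset (Fin n), S.card = m ∧
      IsFieldSub (ideal Γs fun j => if j ∈ S then 1 else 0) by
    obtain ⟨S, hS, hF⟩ := h n hn le_rfl
    rw [Finset.eq_univ_of_card S (hS.trans (Fintype.card_fin n).symm)] at hF
    simpa using hF
  intro m hm
  induction m, hm using Nat.le_induction with
  | base =>
    refine fun _ => ⟨{⟨0, hn⟩}, rfl, ?_⟩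
    convert isFieldSub_ker (Γs ⟨0, hn⟩)
    simp only [ideal, Finset.mem_singleton, pow_ite, pow_one, pow_zero, Finset.prod_ite_eq', Finset.mem_univ,
      if_true]
  | succ m hm ih =>
    intro hmn
    obtain ⟨S, hS, hF⟩ := ih (by omega)
    have hne : S.Nonempty := Finset.card_pos.1 (by omega)
    obtain ⟨i, hi, j, hj, hij⟩ := inter_connected_of_isPreconnected hreg hΓ hL hpre Sᶜ
      (by rw [← Finset.card_pos, Finset.card_compl, Fintype.card_fin]; omega)
      (fun h => hne.ne_empty (by simpa using h))
    simp only [Finset.mem_compl, not_not] at hi hj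
    refine ⟨insert i S, by rw [Finset.card_insert_of_notMem hi, hS], ?_⟩
    have h1 := isFieldSub_add_single hreg hΓ hL (i := i) ?_ hF
    · convert h1 using 2
      funext l
      by_cases hl : l = i <;> simp [hl, hi, Pi.single_apply]
    have hnn : ∀ l ∈ S, 0 ≤ ArSurf.inter R X (L l) (Γs i) := fun l hl =>
      (inter_nonneg_and_eq_zero_iff hreg hΓ hL (fun h => hi (by first | exact h ▸ hl | exact h.symm ▸ hl))).1
    simp only [apply_ite (fun x : ℕ => (x : ℤ)), Nat.cast_one, Nat.cast_zero, ite_mul, one_mul,
      zero_mul, Finset.sum_ite_mem, Finset.univ_inter]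
    refine Finset.sum_pos' hnn ⟨j, hj, lt_of_le_of_ne (hnn j hj) (Ne.symm ?_)⟩
    first
      | exact hij
      | rw [inter_symm hreg hΓ hL]; exact hij

/-- A strictly smaller divisor meets some further component positively. -/
theorem exists_pos (hpre : _root_.IsPreconnected (X.hom.base ⁻¹' {IsLocalRing.closedPoint R}))
    {a b : Fin n → ℕ} (hb : ∀ i, Models.mult R X (Γs i) = Models.multGcd R X Γs * b i)
    (ha : ∀ i, 1 ≤ a i) (hab : ∀ i, a i ≤ b i) (hne : a ≠ b) :
    ∃ i, a i < b i ∧ 0 < ∑ j, (a j : ℤ) * ArSurf.inter R X (L j) (Γs i) := by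
  haveI : CompactSpace X.left := QuasiCompact.compactSpace_of_compactSpace X.hom
  set m : Fin n → ℕ := fun i => Models.mult R X (Γs i)
  set d := Models.multGcd R X Γs with hd
  have hm : ∀ i, 0 < m i := fun i => mult_pos hreg (range_mem hΓ i)
  have hd0 : 0 < d := by
    obtain ⟨i, -⟩ := Function.ne_iff.1 hne
    have h := hm i
    simp only [m, hb i] at h
    exact Nat.pos_of_mul_pos_right h
  let A : Fin n → Fin n → ℤ := fun i j => ArSurf.inter R X (L j) (Γs i)
  have hk : ∀ i, ∑ j, (b j : ℤ) * A i j = 0 := fun i => by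
    have h := Groth.ModelsGraphs.InterForm.sum_mult_mul_inter hreg hΓ hL i
    have h1 : (d : ℤ) * ∑ j, (b j : ℤ) * A i j = 0 := by
      rw [Finset.mul_sum, ← h]
      refine Finset.sum_congr rfl fun j _ => ?_
      simp only [A]
      rw [hb j, Nat.cast_mul, Groth.ModelsGraphs.InterForm.inter_symm hreg hΓ hL i j]
      ring
    exact (mul_eq_zero.1 h1).resolve_left (by exact_mod_cast hd0.ne')
  let z : Fin n → ℤ := fun i => (b i : ℤ) - a i
  have hz : ∀ i, 0 ≤ z i := fun i => by simp only [z, sub_nonneg, Nat.cast_le]; exact hab i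
  by_contra hcon
  simp only [not_exists, not_and, not_lt] at hcon
  have hq : 0 ≤ ∑ q : Fin n × Fin n, z q.1 * z q.2 * A q.1 q.2 := by
    rw [Fintype.sum_prod_type]
    refine Finset.sum_nonneg fun i _ => ?_
    have e : ∑ j, z i * z j * A i j = z i * -∑ j, (a j : ℤ) * A i j := by
      rw [Finset.sum_congr rfl fun j _ => mul_assoc _ _ _, ← Finset.mul_sum]
      congr 1
      simp only [z, sub_mul, Finset.sum_sub_distrib, hk i, zero_sub]
    rw [e]
    rcases (hab i).eq_or_lt with h | h
    · simp [z, h]
    · exact mul_nonneg (hz i) (neg_nonneg.2 (hcon i h))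
  obtain ⟨hle, hiff⟩ := quadratic_nonpos A m hm (fun i j => Groth.ModelsGraphs.InterForm.inter_symm hreg hΓ hL i j)
    (fun i j hij => (inter_nonneg_and_eq_zero_iff hreg hΓ hL hij).1)
    (fun j => by
      rw [← Groth.ModelsGraphs.InterForm.sum_mult_mul_inter hreg hΓ hL j])
    (fun I hI hI' => by
      obtain ⟨i, hi, j, hj, hij⟩ := inter_connected_of_isPreconnected hreg hΓ hL hpre I hI hI'
      exact ⟨i, hi, j, hj, hij⟩) z
  obtain ⟨c, hc⟩ := hiff.1 (le_antisymm hle hq)
  -- `b - a` is proportional to the primitive vector `b`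
  obtain ⟨u, hu⟩ := Groth.ModelsGraphs.InterLattice.Sit.exists_gcd_mul.exists_int_combination.{0} m Finset.univ
  have hu1 : ∑ i, u i * (b i : ℤ) = 1 := by
    refine mul_left_cancel₀ (Int.natCast_ne_zero.2 hd0.ne') ?_
    rw [mul_one, Finset.mul_sum]
    refine Eq.trans ?_ hu.symm
    exact Finset.sum_congr rfl fun i _ => by simp only [m, hb i, Nat.cast_mul]; ring
  have hprop : ∀ i j, (b i : ℤ) * z j = z i * b j := fun i j => by
    have : (b i : ℚ) * z j = z i * b j := by
      rw [hc i, hc j]
      simp only [m, hb, Nat.cast_mul]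
      ring
    exact_mod_cast this
  set k := ∑ i, u i * z i with hk'
  have hzk : ∀ j, z j = k * b j := fun j => by
    rw [hk', Finset.sum_mul, Finset.sum_congr rfl fun i _ => (by rw [mul_assoc, ← hprop i j] :
      u i * z i * (b j : ℤ) = u i * ((b i : ℤ) * z j))]
    simp only [← mul_assoc, ← Finset.sum_mul, hu1, one_mul]
  obtain ⟨i, hi⟩ := Function.ne_iff.1 hne
  have h1 := hzk i
  have h2 : (0 : ℤ) < z i := by
    simp only [z, sub_pos, Nat.cast_lt]
    exact lt_of_le_of_ne (hab i) hi
  have h3 : z i < b i := by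
    have := ha i
    simp only [z]
    omega
  have hbi : (0 : ℤ) < b i := lt_trans h2 h3
  rw [h1] at h2 h3
  have : 0 < k := pos_of_mul_pos_left h2 hbi.le
  nlinarith [mul_le_mul_of_nonneg_right (Int.add_one_le_iff.2 this) hbi.le]

/-- A connected closed fibre with coprime multiplicities has a field of global functions. -/
theorem isFieldSub_specialFibre (hpre : _root_.IsPreconnected (X.hom.base ⁻¹' {IsLocalRing.closedPoint R}))
    (hgcd : Models.multGcd R X Γs = 1) : IsFieldSub (Models.specialFibreIdeal R X) := by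
  haveI : IsLocallyNoetherian X.left := LocallyOfFiniteType.isLocallyNoetherian X.hom
  haveI : CompactSpace X.left := QuasiCompact.compactSpace_of_compactSpace X.hom
  set b : Fin n → ℕ := fun i => Models.mult R X (Γs i)
  have hb : ∀ i, Models.mult R X (Γs i) = Models.multGcd R X Γs * b i := fun i => by
    rw [hgcd, one_mul]
  have hn : 0 < n := by
    rcases Nat.eq_zero_or_pos n with rfl | h
    · simp [Models.multGcd] at hgcd
    · exact h
  have key : ∀ (N : ℕ) (a : Fin n → ℕ), (∀ i, 1 ≤ a i) → (∀ i, a i ≤ b i) → (∑ i, (b i - a i) ≤ N) →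
      IsFieldSub (ideal Γs a) → IsFieldSub (ideal Γs b) := by
    intro N
    induction N with
    | zero =>
      intro a _ hab hN hF
      rwa [show b = a from funext fun i => le_antisymm (by
        have := (Finset.sum_eq_zero_iff.1 (Nat.le_zero.1 hN)) i (Finset.mem_univ i)
        omega) (hab i)]
    | succ N ih =>
      intro a ha hab hN hF
      by_cases hne : a = b
      · rwa [← hne]
      obtain ⟨i, hi, hpos⟩ := exists_pos hreg hΓ hL hpre hb ha hab hne
      have ha' : ∀ j, (a + Pi.single i 1 : Fin n → ℕ) j = a j + if j = i then 1 else 0 := fun j => by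
        simp [Pi.single_apply]
      refine ih (a + Pi.single i 1) (fun j => (ha j).trans (by rw [ha']; omega))
        (fun j => by
          rw [ha']
          split_ifs with h
          · subst h; omega
          · simpa using hab j) ?_ (isFieldSub_add_single hreg hΓ hL hpos hF)
      have : ∑ j, (b j - (a + Pi.single i 1 : Fin n → ℕ) j) < ∑ j, (b j - a j) :=
        Finset.sum_lt_sum (fun j _ => by rw [ha']; omega)
          ⟨i, Finset.mem_univ i, by rw [ha']; simp; omega⟩
      omega
  rw [specialFibreIdeal_eq hreg hΓ]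
  exact key _ (fun _ => 1) (fun _ => le_rfl) (fun i => mult_pos hreg (range_mem hΓ i)) le_rfl
    (isFieldSub_one hreg hΓ hL hpre hn)

end Groth.ArSurfBasics.FieldConn
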