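import Groth.Agent.FBaseGeom.LengthBC
import Mathlib.RingTheory.TensorProduct.Basic
import Mathlib.AlgebraicGeometry.Morphisms.Flat
import Mathlib.RingTheory.Artinian.Module
import Mathlib.RingTheory.Length

/-!
# A field of constants divides all multiplicities over an algebraic closure

If `Y` lies over a finite extension `K₁` of `k` and `Y ⊗ E` is connected (`E` algebraically closed),
then `[K₁ : k]` divides the length of `Y ⊗ E` at each of its maximal points.
-/

set_option autoImplicit false

universe u

open CategoryTheory CategoryTheory.Limits AlgebraicGeometry IsLocalRing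
open scoped TensorProduct

namespace Groth.ArSurfBasics.GeomLength

/-- The length of a finite local algebra over an algebraically closed field is its dimension. -/
theorem length_eq_finrank {E B : Type u} [Field E] [IsAlgClosed E] [CommRing B] [IsLocalRing B]
    [Algebra E B] [Module.Finite E B] : Module.length B B = Module.finrank E B := by
  haveI : IsLocalHom (algebraMap E B) := isLocalHom_toRingHom (algebraMap E B)
  have hs : Function.Surjective (algebraMap (ResidueField E) (ResidueField B)) := fun x => by
    haveI : Module.Finite E (ResidueField B) :=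
      Module.Finite.of_surjective (IsScalarTower.toAlgHom E B (ResidueField B)).toLinearMap
        Ideal.Quotient.mk_surjective
    obtain ⟨c, hc⟩ := (IsAlgClosed.algebraMap_bijective_of_isIntegral (k := E) (K := ResidueField B)).2 x
    exact ⟨residue E c, hc⟩
  have h1 : Module.length (ResidueField E) (ResidueField B) = 1 := by
    rw [Module.length_eq_of_surjective (M := ResidueField B) hs]
    exact Module.length_eq_one _ _
  rw [← Module.length_eq_finrank, IsLocalRing.length_restrictScalars E B B, h1, mul_one]

/-- Transport of maximality and length along an isomorphism. -/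
theorem maximal_and_length_of_iso {P Q : Scheme.{u}} (e : P ≅ Q) (x : P) (hx : ∀ w, w ⤳ x → w = x) :
    (∀ w, w ⤳ e.hom x → w = e.hom x) ∧
      Module.length (P.presheaf.stalk x) (P.presheaf.stalk x) =
        Module.length (Q.presheaf.stalk (e.hom x)) (Q.presheaf.stalk (e.hom x)) := by
  refine ⟨Groth.FBaseGeom.maximal_apply_of_flat e.hom hx, ?_⟩
  exact Groth.InsepCycles.length_ringEquiv (asIso (e.hom.stalkMap x)).commRingCatIsoToRingEquiv.symm

variable {k K₁ E : Type u} [Field k] [Field K₁] [Algebra k K₁] [Module.Finite k K₁]
  [Field E] [IsAlgClosed E] [Algebra k E]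

theorem finrank_dvd_length {Y : Scheme.{u}} (q : Y ⟶ Spec (CommRingCat.of K₁))
    [PreconnectedSpace (pullback (q ≫ Spec.map (CommRingCat.ofHom (algebraMap k K₁)))
      (Spec.map (CommRingCat.ofHom (algebraMap k E))) : Scheme.{u})]
    (x : (pullback (q ≫ Spec.map (CommRingCat.ofHom (algebraMap k K₁)))
      (Spec.map (CommRingCat.ofHom (algebraMap k E))) : Scheme.{u}))
    (hx : ∀ w, w ⤳ x → w = x) :
    Module.finrank k K₁ ∣ (Module.length
      ((pullback (q ≫ Spec.map (CommRingCat.ofHom (algebraMap k K₁)))
        (Spec.map (CommRingCat.ofHom (algebraMap k E)))).presheaf.stalk x)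
      ((pullback (q ≫ Spec.map (CommRingCat.ofHom (algebraMap k K₁)))
        (Spec.map (CommRingCat.ofHom (algebraMap k E)))).presheaf.stalk x)).toNat := by
  let a := Spec.map (CommRingCat.ofHom (algebraMap k K₁))
  let s := Spec.map (CommRingCat.ofHom (algebraMap k E))
  let B := E ⊗[k] K₁
  haveI : IsArtinianRing B := IsArtinianRing.of_finite E B
  -- the base change of `Spec K₁`
  have hB : IsPullback (Spec.map (CommRingCat.ofHom
      (Algebra.TensorProduct.includeRight : K₁ →ₐ[k] B).toRingHom))
      (Spec.map (CommRingCat.ofHom (algebraMap E B))) a s :=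
    (isPullback_SpecMap_of_isPushout _ _ _ _ (CommRingCat.isPushout_tensorProduct k E K₁)).flip
  let b := Spec.map (CommRingCat.ofHom
      (Algebra.TensorProduct.includeRight : K₁ →ₐ[k] B).toRingHom)
  have hP : IsPullback (pullback.fst q b) (pullback.snd q b ≫ Spec.map (CommRingCat.ofHom (algebraMap E B)))
      (q ≫ a) s := (IsPullback.of_hasPullback q b).paste_vert hB
  obtain ⟨hmax, hlen⟩ := maximal_and_length_of_iso hP.isoPullback.symm x hx
  rw [hlen]
  set y := hP.isoPullback.symm.hom x
  haveI : PreconnectedSpace (pullback q b : Scheme.{u}) :=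
    hP.isoPullback.symm.hom.homeomorph.surjective.denseRange.preconnectedSpace
      hP.isoPullback.symm.hom.homeomorph.continuous
  let π := pullback.snd q b
  haveI : Flat π := inferInstance
  haveI : Nonempty Y := ⟨pullback.fst q b y⟩
  haveI : Surjective q := ⟨fun z => ⟨Classical.arbitrary Y, Subsingleton.elim (α := PrimeSpectrum K₁) _ _⟩⟩
  haveI : Surjective π := MorphismProperty.pullback_snd (P := @Surjective) _ _ ‹_›
  haveI : PreconnectedSpace (Spec (CommRingCat.of B) : Scheme.{u}) :=
    (π.surjective).denseRange.preconnectedSpace π.continuous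
  haveI : DiscreteTopology (PrimeSpectrum B) := inferInstance
  haveI hsub : Subsingleton (PrimeSpectrum B) :=
    @PreconnectedSpace.trivial_of_discrete _ _
      ‹PreconnectedSpace (Spec (CommRingCat.of B) : Scheme.{u})› (inferInstanceAs (DiscreteTopology (PrimeSpectrum B)))
  haveI : Nontrivial B := PrimeSpectrum.nonempty_iff_nontrivial.1 ⟨π y⟩
  haveI : IsLocalRing B := IsLocalRing.of_unique_max_ideal (by
    obtain ⟨M, hM⟩ := Ideal.exists_maximal B
    exact ⟨M, hM, fun N hN => congrArg PrimeSpectrum.asIdeal
      (Subsingleton.elim (⟨N, hN.isPrime⟩ : PrimeSpectrum B) ⟨M, hM.isPrime⟩)⟩)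
  obtain ⟨y₁, hy₁⟩ : π y ∈ Set.range (Spec (CommRingCat.of B)).nilradical.subschemeι := by
    rw [Scheme.IdealSheafData.range_subschemeι, Scheme.nilradical, Scheme.IdealSheafData.support_radical,
      Scheme.IdealSheafData.support_bot]
    exact Set.mem_univ _
  obtain ⟨z, hz, -⟩ := Scheme.Pullback.exists_preimage_pullback
    (f := π) (g := (Spec (CommRingCat.of B)).nilradical.subschemeι) y y₁ hy₁.symm
  · rw [Groth.FBaseGeom.length_stalk_eq_mul π _ _ (IsPullback.of_hasPullback _ _) y hmax z hz,
      ENat.toNat_mul]
    refine dvd_mul_of_dvd_left (dvd_of_eq ?_) _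
    have hcp : π y = IsLocalRing.closedPoint B := Subsingleton.elim (α := PrimeSpectrum B) _ _
    rw [← Groth.InsepCycles.length_ringEquiv
      ((((Spec (CommRingCat.of B)).presheaf.stalkCongr (Inseparable.of_eq hcp)).commRingCatIsoToRingEquiv.trans
        (stalkClosedPointIso (CommRingCat.of B)).commRingCatIsoToRingEquiv).symm),
      length_eq_finrank (E := E) (B := B), ENat.toNat_natCast, Module.finrank_baseChange]

end Groth.ArSurfBasics.GeomLength
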