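import Groth.Agent.ModelsGraphs.GlobalFunctions
import Groth.Agent.VarietyBC.GlobalField
import Groth.Prelude.Def_Coh

/-!
Global functions of a proper flat scheme over a normal domain with geometrically integral generic fibre
(adapted from helper33's DVR version).
-/

set_option autoImplicit false

universe u

open CategoryTheory CategoryTheory.Limits AlgebraicGeometry

namespace Groth.ArSurfBasics

/-- A proper flat scheme over a normal domain whose generic fibre has only constant functions has global
functions `R`. -/
theorem toGlobal_bijective_of_appTop {R : Type u} [CommRing R] [IsDomain R]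
    [IsIntegrallyClosed R] {X C : Scheme.{u}} (p : X ⟶ Spec (CommRingCat.of R)) [IsProper p]
    [Flat p] (g : C ⟶ X) (f : C ⟶ Spec (CommRingCat.of (FractionRing R)))
    (hC : Function.Bijective f.appTop)
    (hg : IsPullback g f p (Spec.map (CommRingCat.ofHom (algebraMap R (FractionRing R))))) :
    Function.Bijective (Coh.toGlobal p) := by
  let K := FractionRing R
  let j : Spec (CommRingCat.of K) ⟶ Spec (CommRingCat.of R) :=
    Spec.map (CommRingCat.ofHom (algebraMap R K))
  haveI : Flat j := (HasRingHomProperty.Spec_iff (P := @Flat)).mpr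
    (RingHom.flat_algebraMap_iff.mpr (IsLocalization.flat K (nonZeroDivisors R)))
  haveI : CompactSpace X := QuasiCompact.compactSpace_of_compactSpace p
  let ρ : Γ(X, ⊤) →+* K := (Scheme.ΓSpecIso (CommRingCat.of K)).hom.hom.comp
    ((RingEquiv.ofBijective f.appTop.hom hC).symm.toRingHom.comp g.appTop.hom)
  have hjR : ∀ x : R, j.appTop ((Scheme.ΓSpecIso (CommRingCat.of R)).inv x) =
      (Scheme.ΓSpecIso (CommRingCat.of K)).inv (algebraMap R K x) := fun x =>
    congr($(Scheme.ΓSpecIso_inv_naturality (CommRingCat.ofHom (algebraMap R K))) x).symm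
  have hρR : ∀ x : R, ρ (Coh.toGlobal p x) = algebraMap R K x := fun x => by
    have h1 : g.appTop (Coh.toGlobal p x) =
        f.appTop ((Scheme.ΓSpecIso (CommRingCat.of K)).inv (algebraMap R K x)) := by
      rw [← hjR]
      change (p.appTop ≫ g.appTop) _ = (j.appTop ≫ f.appTop) _
      rw [← Scheme.Hom.comp_appTop, ← Scheme.Hom.comp_appTop, hg.w]
    change (Scheme.ΓSpecIso (CommRingCat.of K)).hom
      ((RingEquiv.ofBijective f.appTop.hom hC).symm (g.appTop (Coh.toGlobal p x))) = _
    rw [h1]
    erw [(RingEquiv.ofBijective f.appTop.hom hC).symm_apply_apply]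
    exact congr($((Scheme.ΓSpecIso (CommRingCat.of K)).inv_hom_id) (algebraMap R K x))
  have hρi : Function.Injective g.appTop := Groth.ModelsGraphs.GlobalFun.appTop_injective_of_generic p g f hg
  constructor
  · intro x y hxy
    apply IsFractionRing.injective R K
    rw [← hρR, ← hρR, hxy]
  intro a
  have hint : IsIntegral R (ρ a) := by
    obtain ⟨m, hm, hma⟩ := isIntegral_appTop_of_universallyClosed p a
    refine ⟨m.map (Scheme.ΓSpecIso (CommRingCat.of R)).hom.hom, hm.map _, ?_⟩
    rw [Polynomial.eval₂_map]
    have : (algebraMap R K).comp (Scheme.ΓSpecIso (CommRingCat.of R)).hom.hom =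
        ρ.comp p.appTop.hom := by
      ext c
      have h2 := hρR ((Scheme.ΓSpecIso (CommRingCat.of R)).hom c)
      have h3 : (Scheme.ΓSpecIso (CommRingCat.of R)).inv
          ((Scheme.ΓSpecIso (CommRingCat.of R)).hom c) = c :=
        congr($((Scheme.ΓSpecIso (CommRingCat.of R)).hom_inv_id) c)
      refine h2.symm.trans ?_
      change ρ (p.appTop _) = ρ (p.appTop c)
      erw [h3]
    rw [this, ← Polynomial.hom_eval₂, hma, map_zero]
  obtain ⟨x, hx⟩ := IsIntegrallyClosed.algebraMap_eq_of_integral hint
  refine ⟨x, ?_⟩
  have hρ : Function.Injective ρ :=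
    (Scheme.ΓSpecIso (CommRingCat.of K)).commRingCatIsoToRingEquiv.injective.comp
      ((RingEquiv.ofBijective f.appTop.hom hC).symm.injective.comp hρi)
  exact hρ (by rw [hρR, hx])

end Groth.ArSurfBasics
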