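import Groth.Agent.PointBlowUp.Algebra
import Mathlib.RingTheory.Length
import Mathlib.RingTheory.HopkinsLevitzki
import Mathlib.RingTheory.Filtration
import Mathlib.RingTheory.Ideal.KrullsHeightTheorem
import Mathlib.RingTheory.Polynomial.Quotient

/-!
Blowing up the maximal ideal of a two-dimensional regular local ring lowers the colength of the residual
ideal at every point of the exceptional divisor.
-/

set_option autoImplicit false
universe u

open IsLocalRing Polynomial

namespace Groth.ArSurfBasics.PointColength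

open Groth.PointBlowUp

variable {A : Type u} [CommRing A] [IsRegularLocalRing A] {hA : ringKrullDim A = 2} {a b : A}

/-- Elements of `𝔪^d` are `a^d` times a polynomial of degree `≤ d` in `b / a`. -/
theorem exists_poly (h : Param hA a b) (d : ℕ) {x : A} (hx : x ∈ maximalIdeal A ^ d) :
    ∃ q : A[X], q.natDegree ≤ d ∧
      algebraMap A (Chart a) x = algebraMap A (Chart a) a ^ d * aeval h.T q := by
  induction d generalizing x with
  | zero => exact ⟨C x, by simp, by simp⟩
  | succ d ih =>
    rw [pow_succ] at hx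
    induction hx using Submodule.mul_induction_on' with
    | mem_mul_mem p hp r hr =>
      obtain ⟨q, hq, hqe⟩ := ih hp
      obtain ⟨s, t, rfl⟩ := Ideal.mem_span_pair.mp (h.span_eq ▸ hr)
      refine ⟨q * (C s + C t * X), natDegree_mul_le.trans (Nat.add_le_add hq ((natDegree_add_le _ _).trans
        (max_le (by simp) (natDegree_C_mul_le _ _ |>.trans natDegree_X_le)))), ?_⟩
      have hT : h.T * algebraMap A (Chart a) a = algebraMap A (Chart a) b :=
        Groth.BlowUpBasics.frac_mul_algebraMap b h.mem_right
      simp only [map_mul, map_add, aeval_C, aeval_X]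
      rw [hqe, ← hT, pow_succ]
      ring
    | add p _ r _ hp hr =>
      obtain ⟨q, hq, hqe⟩ := hp
      obtain ⟨q', hq', hqe'⟩ := hr
      exact ⟨q + q', (natDegree_add_le _ _).trans (max_le hq hq'), by rw [map_add, map_add, hqe, hqe', mul_add]⟩

theorem algebraMap_chart_injective (h : Param hA a b) : Function.Injective (algebraMap A (Chart a)) := by
  have : IsDomain A := Groth.Ega4Algebra1.isDomain_of_isRegularLocalRing A
  intro p q hpq
  exact IsLocalization.injective (M := Submonoid.powers a) (Localization.Away a)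
    (Submonoid.powers_le.mpr (mem_nonZeroDivisors_of_ne_zero h.ne_zero)) (congrArg Subtype.val hpq)

/-- Of an element of exact order `d`, the polynomial is non-zero on the exceptional divisor. -/
theorem map_ne_zero (h : Param hA a b) {d : ℕ} {x : A} (hx : x ∉ maximalIdeal A ^ (d + 1)) {q : A[X]}
    (hq : q.natDegree ≤ d) (hqe : algebraMap A (Chart a) x = algebraMap A (Chart a) a ^ d * aeval h.T q) :
    q.map (residue A) ≠ 0 := by
  intro h0
  apply hx
  have hxs : x = ∑ i ∈ Finset.range (d + 1), q.coeff i * b ^ i * a ^ (d - i) := by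
    have : IsDomain A := Groth.Ega4Algebra1.isDomain_of_isRegularLocalRing A
    refine IsLocalization.injective (M := Submonoid.powers a) (Localization.Away a)
      (Submonoid.powers_le.mpr (mem_nonZeroDivisors_of_ne_zero h.ne_zero)) ?_
    rw [← h.coe_aeval_mul_pow q hq]
    have := congrArg Subtype.val hqe
    simp only [MulMemClass.coe_mul, SubmonoidClass.coe_pow] at this
    rw [show (algebraMap A (Chart a) x : Localization.Away a) = algebraMap A _ x from rfl,
      show (algebraMap A (Chart a) a : Localization.Away a) = algebraMap A _ a from rfl] at this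
    rw [this, mul_comm]
  rw [hxs]
  refine Ideal.sum_mem _ fun i hi => ?_
  have hid : i ≤ d := Finset.mem_range_succ_iff.1 hi
  have hc : q.coeff i ∈ maximalIdeal A := by
    have := congrArg (fun p => p.coeff i) h0
    simpa [residue_eq_zero_iff] using this
  rw [show maximalIdeal A ^ (d + 1) = maximalIdeal A * maximalIdeal A ^ i * maximalIdeal A ^ (d - i) by
    rw [← pow_succ', ← pow_add]; congr 1; omega]
  exact Ideal.mul_mem_mul (Ideal.mul_mem_mul hc (Ideal.pow_mem_pow h.mem_right i))
    (Ideal.pow_mem_pow h.mem_left _)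

theorem not_unit_mem (h : Param hA a b) : algebraMap A (Chart a) a ≠ 0 := fun e =>
  h.ne_zero (algebraMap_chart_injective h (e.trans (map_zero _).symm))

variable (I : Ideal A) (d : ℕ)

/-- The residual ideal in the chart. -/
noncomputable def residual (a : A) : Ideal (Chart a) :=
  Submodule.comap (LinearMap.mulLeft (Chart a) (algebraMap A (Chart a) a ^ d))
    (I.map (algebraMap A (Chart a)))

theorem mem_residual {z : Chart a} :
    z ∈ residual I d a ↔ algebraMap A (Chart a) a ^ d * z ∈ I.map (algebraMap A (Chart a)) := Iff.rfl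

/-- The residual ideal contains a polynomial in `b / a` whose reduction is monic. -/
theorem exists_monic_mem (h : Param hA a b) (hI : I ≤ maximalIdeal A ^ d)
    (hI' : ¬ I ≤ maximalIdeal A ^ (d + 1)) :
    ∃ g : A[X], g.Monic ∧ g.natDegree ≤ d ∧
      aeval h.T g ∈ residual I d a ⊔ Ideal.span {algebraMap A (Chart a) a} ∧
      ∃ j ∈ residual I d a, j ∉ Ideal.span {algebraMap A (Chart a) a} := by
  obtain ⟨x, hxI, hx⟩ := SetLike.not_le_iff_exists.1 hI'
  obtain ⟨q, hq, hqe⟩ := exists_poly h d (hI hxI)
  have hne := map_ne_zero h hx hq hqe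
  have hres : aeval h.T q ∈ residual I d a := by
    rw [mem_residual, ← hqe]
    exact Ideal.mem_map_of_mem _ hxI
  set e := (q.map (residue A)).natDegree
  have he : e ≤ d := natDegree_map_le.trans hq
  obtain ⟨u, hu⟩ : IsUnit (q.coeff e) := by
    rw [← residue_ne_zero_iff_isUnit]
    have := Polynomial.leadingCoeff_ne_zero.2 hne
    rwa [Polynomial.leadingCoeff, coeff_map] at this
  let low : A[X] := ∑ i ∈ Finset.range e, monomial i ((↑u⁻¹ : A) * q.coeff i)
  have hlow : low.degree < e := by
    refine lt_of_le_of_lt (degree_sum_le _ _) ((Finset.sup_lt_iff (WithBot.bot_lt_coe e)).2 fun i hi => ?_)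
    exact lt_of_le_of_lt (degree_monomial_le _ _) (WithBot.coe_lt_coe.2 (Finset.mem_range.1 hi))
  refine ⟨X ^ e + low, monic_X_pow_add hlow, ?_, ?_, aeval h.T q, hres, fun hmem => hne ?_⟩
  · refine (natDegree_add_le _ _).trans (max_le ((natDegree_X_pow_le e).trans he) ?_)
    exact (natDegree_le_of_degree_le hlow.le).trans he
  · have hdiff : C (↑u⁻¹ : A) * q - (X ^ e + low) ∈ (maximalIdeal A).map (C : A →+* A[X]) := by
      rw [Ideal.mem_map_C_iff]
      intro i
      have hlowc : low.coeff i = if i < e then (↑u⁻¹ : A) * q.coeff i else 0 := by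
        simp [low, coeff_monomial, Finset.sum_ite_eq']
      rw [coeff_sub, coeff_C_mul, coeff_add, coeff_X_pow, hlowc]
      rcases lt_trichotomy i e with hlt | rfl | hgt
      · simp [hlt, hlt.ne]
      · simp [← hu]
      · simp only [hgt.ne', if_false, not_lt.2 hgt.le, add_zero, sub_zero]
        refine Ideal.mul_mem_left _ _ ?_
        rw [← residue_eq_zero_iff, ← coeff_map]
        exact coeff_eq_zero_of_natDegree_lt hgt
    have hdiff' : aeval h.T (C (↑u⁻¹ : A) * q - (X ^ e + low)) ∈ Ideal.span {algebraMap A (Chart a) a} := by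
      have := Ideal.mem_map_of_mem (aeval (R := A) h.T).toRingHom hdiff
      rw [Ideal.map_map, show (aeval (R := A) h.T).toRingHom.comp C = algebraMap A (Chart a) from
        RingHom.ext fun r => aeval_C _ _, Groth.BlowUpBasics.map_eq_span h.mem_left] at this
      exact this
    have : aeval h.T (X ^ e + low) =
        algebraMap A (Chart a) (↑u⁻¹ : A) * aeval h.T q - aeval h.T (C (↑u⁻¹ : A) * q - (X ^ e + low)) := by
      rw [map_sub, map_mul, aeval_C, sub_sub_cancel]
    rw [this]
    exact sub_mem (Submodule.mem_sup_left (Ideal.mul_mem_left _ _ hres)) (Submodule.mem_sup_right hdiff')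
  · rw [← h.excEquiv_mk, Ideal.Quotient.eq_zero_iff_mem.2 hmem, map_zero]

theorem exists_gt_and_le [IsDomain A] (h : Param hA a b) {n : ℕ} (hIn : maximalIdeal A ^ n ≤ I) :
    ∃ d, I ≤ maximalIdeal A ^ d ∧ ¬ I ≤ maximalIdeal A ^ (d + 1) := by
  classical
  have hex : ∃ k, ¬ I ≤ maximalIdeal A ^ k := by
    by_contra hall
    push Not at hall
    have h0 : I ≤ ⊥ := (le_iInf hall).trans
      (Ideal.iInf_pow_eq_bot_of_isLocalRing (maximalIdeal A) (Ideal.IsPrime.ne_top')).le
    have ha : a ^ n ∈ (⊥ : Ideal A) := h0 (hIn (Ideal.pow_mem_pow h.mem_left n))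
    exact pow_ne_zero n h.ne_zero ha
  refine ⟨Nat.find hex - 1, ?_, ?_⟩
  · rcases Nat.eq_zero_or_pos (Nat.find hex) with h0 | h0
    · rw [h0]; simp
    · exact not_not.1 (Nat.find_min hex (by omega))
  · rcases Nat.eq_zero_or_pos (Nat.find hex) with h0 | h0
    · exact absurd (by simp : I ≤ maximalIdeal A ^ 0) (h0 ▸ Nat.find_spec hex)
    · rw [Nat.sub_add_cancel h0]; exact Nat.find_spec hex

/-- The colength of the residual ideal in the chart drops. -/
theorem length_residual_lt (h : Param hA a b) {n : ℕ} (hIn : maximalIdeal A ^ n ≤ I)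
    (hd : 1 ≤ d) (hI : I ≤ maximalIdeal A ^ d) (hI' : ¬ I ≤ maximalIdeal A ^ (d + 1)) :
    Module.length A (Chart a ⧸ residual I d a) < Module.length A (A ⧸ I) := by
  have : IsDomain A := Groth.Ega4Algebra1.isDomain_of_isRegularLocalRing A
  have := h.isDomain_chart
  set J := residual I d a
  set α := algebraMap A (Chart a) a
  have hα0 : α ≠ 0 := not_unit_mem h
  let N := Chart a ⧸ J
  let M : Submodule A A := maximalIdeal A ^ d
  have hex : ∀ x : M, ∃ z : Chart a, algebraMap A (Chart a) x = α ^ d * z := fun x =>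
    let ⟨q, _, hq⟩ := exists_poly h d x.2
    ⟨_, hq⟩
  choose ψ hψ using hex
  let Ψ : M →ₗ[A] N :=
    { toFun := fun x => Ideal.Quotient.mk J (ψ x)
      map_add' := fun x y => by
        rw [← map_add]
        congr 1
        refine mul_left_cancel₀ (pow_ne_zero d hα0) ?_
        rw [← hψ, mul_add, ← hψ, ← hψ, ← map_add]
        rfl
      map_smul' := fun r x => by
        show _ = Ideal.Quotient.mk J (r • ψ x)
        congr 1
        refine mul_left_cancel₀ (pow_ne_zero d hα0) ?_
        rw [← hψ, Algebra.smul_def, mul_left_comm, ← hψ, ← map_mul]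
        rfl }
  obtain ⟨g, hg, hgd, hgJ, -⟩ := exists_monic_mem I d h hI hI'
  let S : Submodule A N := LinearMap.range Ψ
  have hmono : ∀ i ≤ d, ∀ r : A, Ideal.Quotient.mk J (algebraMap A (Chart a) r * h.T ^ i) ∈ S := by
    intro i hi r
    have hx : r * (b ^ i * a ^ (d - i)) ∈ maximalIdeal A ^ d := by
      refine Ideal.mul_mem_left _ _ ?_
      rw [show maximalIdeal A ^ d = maximalIdeal A ^ i * maximalIdeal A ^ (d - i) by
        rw [← pow_add]; congr 1; omega]
      exact Ideal.mul_mem_mul (Ideal.pow_mem_pow h.mem_right i) (Ideal.pow_mem_pow h.mem_left _)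
    refine ⟨⟨_, hx⟩, ?_⟩
    show Ideal.Quotient.mk J (ψ ⟨_, hx⟩) = _
    congr 1
    refine mul_left_cancel₀ (pow_ne_zero d hα0) ?_
    rw [← hψ]
    show algebraMap A (Chart a) (r * (b ^ i * a ^ (d - i))) = _
    rw [map_mul, map_mul, map_pow, map_pow,
      ← Groth.BlowUpBasics.frac_mul_algebraMap b h.mem_right (a := a), mul_pow,
      show α ^ d = α ^ i * α ^ (d - i) by rw [← pow_add]; congr 1; omega]
    show algebraMap A (Chart a) r * (h.T ^ i * α ^ i * α ^ (d - i)) = _
    ring
  have hstep : ∀ z : N, ∃ s ∈ S, ∃ w : N, z = s + Ideal.Quotient.mk J α * w := by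
    intro z
    obtain ⟨c, rfl⟩ := Ideal.Quotient.mk_surjective z
    obtain ⟨p, rfl⟩ := h.aeval_surjective c
    obtain ⟨j, hj, w, hw, hjw⟩ := Submodule.mem_sup.1 hgJ
    obtain ⟨w', rfl⟩ := Ideal.mem_span_singleton'.1 hw
    refine ⟨Ideal.Quotient.mk J (aeval h.T (p %ₘ g)), ?_,
      Ideal.Quotient.mk J (w' * aeval h.T (p /ₘ g)), ?_⟩
    · rw [Polynomial.aeval_eq_sum_range' (n := d + 1)
        (Nat.lt_succ_of_le ((natDegree_modByMonic_le p hg).trans hgd)), map_sum]
      refine Submodule.sum_mem _ fun i hi => ?_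
      rw [Algebra.smul_def]
      exact hmono i (Finset.mem_range_succ_iff.1 hi) _
    · rw [← map_mul, ← map_add, Ideal.Quotient.eq]
      conv => enter [2, 1]; rw [← Polynomial.modByMonic_add_div p g]
      rw [map_add, map_mul, ← hjw]
      convert Ideal.mul_mem_right (aeval h.T (p /ₘ g)) J hj using 1
      ring
  have han : Ideal.Quotient.mk J α ^ n = 0 := by
    rw [← map_pow, Ideal.Quotient.eq_zero_iff_mem, mem_residual, ← pow_add]
    show α ^ (d + n) ∈ _
    rw [add_comm, pow_add]
    refine Ideal.mul_mem_right _ _ ?_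
    rw [← map_pow]
    exact Ideal.mem_map_of_mem _ (hIn (Ideal.pow_mem_pow h.mem_left n))
  have hsurj : Function.Surjective Ψ := by
    have hkey : ∀ k : ℕ, ∀ z : N, ∃ s ∈ S, ∃ w : N, z = s + Ideal.Quotient.mk J α ^ k * w := by
      intro k
      induction k with
      | zero => exact fun z => ⟨0, zero_mem _, z, by simp⟩
      | succ k ih =>
        intro z
        obtain ⟨s, hs, w, rfl⟩ := hstep z
        obtain ⟨s', hs', w', rfl⟩ := ih w
        refine ⟨s + a • s', add_mem hs (S.smul_mem a hs'), w', ?_⟩
        rw [show a • s' = Ideal.Quotient.mk J α * s' from Algebra.smul_def a s']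
        ring
    intro z
    obtain ⟨s, ⟨x, hx⟩, w, rfl⟩ := hkey n z
    exact ⟨x, by rw [hx, han, zero_mul, add_zero]⟩
  let M' : Submodule A (A ⧸ I) := M.map (Submodule.mkQ I)
  let π : M →ₗ[A] M' := ((Submodule.mkQ I).comp M.subtype).codRestrict M' fun x =>
    Submodule.mem_map_of_mem x.2
  have hker : LinearMap.ker π ≤ LinearMap.ker Ψ := fun x hx => by
    have hxI : (x : A) ∈ I := (Submodule.Quotient.mk_eq_zero I).1 (congrArg Subtype.val hx)
    show Ideal.Quotient.mk J (ψ x) = 0
    rw [Ideal.Quotient.eq_zero_iff_mem, mem_residual, ← hψ]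
    exact Ideal.mem_map_of_mem _ hxI
  have hπ : Function.Surjective π := by
    rintro ⟨_, x, hx, rfl⟩
    exact ⟨⟨x, hx⟩, rfl⟩
  have h1 : Module.length A N ≤ Module.length A M' := by
    let Φ : (M ⧸ LinearMap.ker π) →ₗ[A] N := Submodule.liftQ _ Ψ hker
    have hΦ : Function.Surjective Φ := fun z =>
      let ⟨x, hx⟩ := hsurj z
      ⟨Submodule.Quotient.mk x, hx⟩
    exact (Module.length_le_of_surjective Φ hΦ).trans
      (LinearMap.quotKerEquivOfSurjective π hπ).length_eq.le
  refine h1.trans_lt ?_
  have hfin : IsArtinian A (A ⧸ I) ∧ IsNoetherian A (A ⧸ I) := by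
    refine ⟨?_, inferInstance⟩
    haveI : Ring.KrullDimLE 0 (A ⧸ I) := Ring.krullDimLE_zero_iff.2 fun P hP => by
      haveI := hP
      have hPc : maximalIdeal A ≤ P.comap (Ideal.Quotient.mk I) := fun r hr =>
        (hP.comap (Ideal.Quotient.mk I)).mem_of_pow_mem n (by
          rw [Ideal.mem_comap, Ideal.Quotient.eq_zero_iff_mem.2 (hIn (Ideal.pow_mem_pow hr n))]
          exact zero_mem _)
      have hmax : maximalIdeal A = P.comap (Ideal.Quotient.mk I) :=
        (IsLocalRing.maximalIdeal.isMaximal A).eq_of_le ((hP.comap _).ne_top) hPc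
      rw [← Ideal.map_comap_of_surjective _ Ideal.Quotient.mk_surjective P, ← hmax]
      refine (Ideal.map_eq_top_or_isMaximal_of_surjective _ Ideal.Quotient.mk_surjective
        (IsLocalRing.maximalIdeal.isMaximal A)).resolve_left ?_
      rw [hmax, Ideal.map_comap_of_surjective _ Ideal.Quotient.mk_surjective]
      exact hP.ne_top
    haveI : IsArtinianRing (A ⧸ I) := isArtinianRing_iff_krullDimLE_zero.2 inferInstance
    exact isArtinian_of_surjective_algebraMap (Ideal.Quotient.mk_surjective (I := I))
  haveI := hfin.1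
  haveI := hfin.2
  refine Submodule.length_lt fun htop => ?_
  have h1mem : (Submodule.mkQ I (1 : A)) ∈ M' := htop ▸ Submodule.mem_top
  obtain ⟨x, hx, hx1⟩ := h1mem
  have hsub : x - 1 ∈ I := (Submodule.Quotient.eq I).1 hx1
  have h1M : (1 : A) ∈ maximalIdeal A := by
    have hxm : x ∈ maximalIdeal A := Ideal.pow_le_self (by omega) hx
    have := (maximalIdeal A).sub_mem hxm ((hI.trans (Ideal.pow_le_self (by omega))) hsub)
    simpa using this
  exact Ideal.IsPrime.ne_top' ((Ideal.eq_top_iff_one _).2 h1M)

section AtPoint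

variable {B : Type u} [CommRing B] [Algebra (Chart a) B] [Algebra A B] [IsScalarTower A (Chart a) B]
  (P : Ideal (Chart a)) [P.IsPrime] [IsLocalization.AtPrime B P]

include P in
theorem residual_map_le (h : Param hA a b) {Jb : Ideal B}
    (hJb : Jb * Ideal.span {algebraMap A B a} ^ d = I.map (algebraMap A B)) :
    (residual I d a).map (algebraMap (Chart a) B) ≤ Jb := by
  have := h.isDomain_chart
  haveI : IsDomain B := IsLocalization.isDomain_of_le_nonZeroDivisors (M := P.primeCompl) B
    P.primeCompl_le_nonZeroDivisors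
  rw [Ideal.map_le_iff_le_comap]
  intro z hz
  rw [mem_residual] at hz
  have h1 := Ideal.mem_map_of_mem (algebraMap (Chart a) B) hz
  rw [Ideal.map_map, ← IsScalarTower.algebraMap_eq, ← hJb, map_mul, map_pow,
    ← IsScalarTower.algebraMap_apply, Ideal.span_singleton_pow, mul_comm Jb,
    Ideal.mem_span_singleton_mul] at h1
  obtain ⟨w, hw, hwe⟩ := h1
  have hne : algebraMap A B a ^ d ≠ 0 := by
    refine pow_ne_zero d fun e => not_unit_mem h ?_
    rw [IsScalarTower.algebraMap_apply A (Chart a) B] at e
    exact IsLocalization.injective B P.primeCompl_le_nonZeroDivisors (e.trans (map_zero _).symm)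
  rw [Ideal.mem_comap, ← mul_left_cancel₀ hne hwe]
  exact hw

/-- On the exceptional divisor the residual ideal only contains maximal primes. -/
theorem eq_maximal_of_le [IsLocalRing B] (h : Param hA a b) (haP : algebraMap A (Chart a) a ∈ P)
    (hI : I ≤ maximalIdeal A ^ d) (hI' : ¬ I ≤ maximalIdeal A ^ (d + 1)) {Jb : Ideal B}
    (hJb : Jb * Ideal.span {algebraMap A B a} ^ d = I.map (algebraMap A B))
    (Q : Ideal B) (hQ : Q.IsPrime) (haQ : algebraMap A B a ∈ Q) (hJQ : Jb ≤ Q) :
    Q = maximalIdeal B := by
  have := h.isDomain_chart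
  obtain ⟨g, -, -, -, j, hj, hja⟩ := exists_monic_mem I d h hI hI'
  haveI := h.span_isPrime
  set α := algebraMap A (Chart a) a
  set Q' := Q.under (Chart a)
  have hQ' : Q'.IsPrime := hQ.comap _
  have hαQ : α ∈ Q' := by
    show algebraMap (Chart a) B α ∈ Q
    rwa [← IsScalarTower.algebraMap_apply]
  have hlt : Ideal.span {α} < Q' := lt_of_le_not_ge ((Ideal.span_singleton_le_iff_mem _).2 hαQ) fun hle =>
    hja (hle (show algebraMap (Chart a) B j ∈ Q from
      hJQ (residual_map_le I d P h hJb (Ideal.mem_map_of_mem _ hj))))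
  have hmax : Q'.IsMaximal := by
    have := h.isNoetherianRing_chart
    let π := h.excEquiv.toRingHom.comp (Ideal.Quotient.mk (Ideal.span {α}))
    have hπ : Function.Surjective π := h.excEquiv.surjective.comp Ideal.Quotient.mk_surjective
    have hker : RingHom.ker π = Ideal.span {α} := by
      ext z
      simp [π, RingHom.mem_ker, Ideal.Quotient.eq_zero_iff_mem]
    have hle : RingHom.ker π ≤ Q' := hker ▸ hlt.le
    haveI := Ideal.map_isPrime_of_surjective hπ hle
    have hne : Q'.map π ≠ ⊥ := fun e => hlt.ne (by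
      rw [← hker]
      refine le_antisymm hle ?_
      intro z hz
      have := Ideal.mem_map_of_mem π hz
      rw [e, Ideal.mem_bot] at this
      exact this)
    have hM : (Q'.map π).IsMaximal := Ideal.IsPrime.isMaximal inferInstance hne
    have := Ideal.comap_isMaximal_of_surjective π hπ (K := Q'.map π)
    rwa [Ideal.comap_map_of_surjective _ hπ, ← RingHom.ker_eq_comap_bot, sup_eq_left.2 hle] at this
  have hQP : Q' ≤ P := by
    intro z hz
    by_contra hzP
    exact hQ.ne_top (Ideal.eq_top_of_isUnit_mem Q hz (IsLocalization.map_units B (⟨z, hzP⟩ : P.primeCompl)))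
  have hQeq : Q' = P := hmax.eq_of_le ‹P.IsPrime›.ne_top hQP
  rw [← IsLocalization.map_under P.primeCompl B Q, show Q.under (Chart a) = P from hQeq,
    IsLocalization.AtPrime.map_eq_maximalIdeal]

/-- At a point of the residual ideal the local ring is two-dimensional and the colength drops. -/
theorem dim_and_length [IsLocalRing B] (h : Param hA a b) (haP : algebraMap A (Chart a) a ∈ P) {n : ℕ}
    (hIn : maximalIdeal A ^ n ≤ I) (hd : 1 ≤ d) (hI : I ≤ maximalIdeal A ^ d)
    (hI' : ¬ I ≤ maximalIdeal A ^ (d + 1)) {Jb : Ideal B}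
    (hJb : Jb * Ideal.span {algebraMap A B a} ^ d = I.map (algebraMap A B)) (hne : Jb ≠ ⊤) :
    ringKrullDim B = 2 ∧ Module.length B (B ⧸ Jb) < Module.length A (A ⧸ I) := by
  have := h.isDomain_chart
  have := h.isNoetherianRing_chart
  haveI : IsNoetherianRing B := IsLocalization.isNoetherianRing P.primeCompl B inferInstance
  have hle := residual_map_le I d P h hJb
  obtain ⟨g, -, -, -, j, hj, hja⟩ := exists_monic_mem I d h hI hI'
  haveI := h.span_isPrime
  set α := algebraMap A (Chart a) a
  have hjB : algebraMap (Chart a) B j ∈ Jb := hle (Ideal.mem_map_of_mem _ hj)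
  refine ⟨le_antisymm ?_ ?_, ?_⟩
  · obtain ⟨q, hq⟩ : ∃ q : Chart a, P = Ideal.span {α, q} := by
      let π := h.excEquiv.toRingHom.comp (Ideal.Quotient.mk (Ideal.span {α}))
      have hπ : Function.Surjective π := h.excEquiv.surjective.comp Ideal.Quotient.mk_surjective
      have hker : RingHom.ker π = Ideal.span {α} := by
        ext z
        simp [π, RingHom.mem_ker, Ideal.Quotient.eq_zero_iff_mem]
      obtain ⟨g₀, hg₀⟩ := (IsPrincipalIdealRing.principal (P.map π)).principal
      obtain ⟨q, rfl⟩ := hπ g₀
      refine ⟨q, ?_⟩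
      have hc := Ideal.comap_map_of_surjective π hπ P
      rw [← RingHom.ker_eq_comap_bot, hker, sup_eq_left.2 ((Ideal.span_singleton_le_iff_mem P).2 haP),
        show P.map π = Ideal.span {π q} from hg₀, ← Set.image_singleton, ← Ideal.map_span,
        Ideal.comap_map_of_surjective π hπ, ← RingHom.ker_eq_comap_bot, hker] at hc
      rw [← hc, Ideal.span_insert, sup_comm]
    have hmB : maximalIdeal B = Ideal.span {algebraMap (Chart a) B α, algebraMap (Chart a) B q} := by
      rw [← IsLocalization.AtPrime.map_eq_maximalIdeal P B, hq, Ideal.map_span, Set.image_pair]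
    refine (ringKrullDim_le_spanFinrank_maximalIdeal B).trans ?_
    have h2 : (maximalIdeal B).spanFinrank ≤ 2 := by
      rw [hmB]
      refine (Submodule.spanFinrank_span_le_ncard_of_finite (Set.toFinite _)).trans ?_
      exact (Set.ncard_insert_le _ _).trans (by simp)
    exact_mod_cast h2
  · haveI : IsDomain B := IsLocalization.isDomain_of_le_nonZeroDivisors (M := P.primeCompl) B
      P.primeCompl_le_nonZeroDivisors
    have hd' : Disjoint (P.primeCompl : Set (Chart a)) (Ideal.span {α} : Ideal (Chart a)) :=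
      Set.disjoint_left.2 fun z hz hz' => hz ((Ideal.span_singleton_le_iff_mem P).2 haP hz')
    have hpr : ((Ideal.span {α}).map (algebraMap (Chart a) B)).IsPrime :=
      IsLocalization.isPrime_of_isPrime_disjoint P.primeCompl B _ inferInstance hd'
    let O : PrimeSpectrum B := ⟨⊥, Ideal.isPrime_bot⟩
    let Q : PrimeSpectrum B := ⟨_, hpr⟩
    let M : PrimeSpectrum B := ⟨maximalIdeal B, inferInstance⟩
    have hu := IsLocalization.under_map_of_isPrime_disjoint P.primeCompl B
      (inferInstanceAs (Ideal.span {α}).IsPrime) hd'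
    have hOQ : O < Q := lt_of_le_of_ne (show (⊥ : Ideal B) ≤ Q.asIdeal from bot_le) fun e => by
      refine not_unit_mem h ?_
      refine IsLocalization.injective B P.primeCompl_le_nonZeroDivisors ?_
      rw [map_zero, ← Ideal.mem_bot, show (⊥ : Ideal B) = Q.asIdeal from congrArg PrimeSpectrum.asIdeal e]
      exact Ideal.mem_map_of_mem _ (Ideal.mem_span_singleton_self α)
    have hQM : Q < M := lt_of_le_of_ne (le_maximalIdeal hpr.ne_top) fun e => hja (by
      rw [← hu]
      show algebraMap (Chart a) B j ∈ Q.asIdeal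
      rw [congrArg PrimeSpectrum.asIdeal e]
      exact le_maximalIdeal hne hjB)
    let s : LTSeries (PrimeSpectrum B) := ((RelSeries.singleton _ O).snoc Q hOQ).snoc M (by simpa using hQM)
    exact Order.LTSeries.length_le_krullDim s
  · refine lt_of_le_of_lt ?_ (length_residual_lt I d h hIn hd hI hI')
    rw [Module.length_quotient]
    refine le_trans (Order.coheight_le_coheight_apply_of_strictMono
      (fun K : Ideal B => (K.under (Chart a)).restrictScalars A) (fun K K' hKK' => ?_) Jb) ?_
    · refine lt_of_le_not_ge (fun z hz => hKK'.le hz) fun hle' => hKK'.not_ge ?_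
      rw [← IsLocalization.map_under P.primeCompl B K, ← IsLocalization.map_under P.primeCompl B K']
      exact Ideal.map_mono fun z hz => hle' hz
    · rw [show Module.length A (Chart a ⧸ residual I d a) = Order.coheight ((residual I d a).restrictScalars A)
        from ((Submodule.Quotient.restrictScalarsEquiv A _).symm.length_eq).trans Module.length_quotient]
      exact Order.coheight_anti fun z hz => hle (Ideal.mem_map_of_mem _ hz)

end AtPoint

end Groth.ArSurfBasics.PointColength
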