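import Groth.Agent.ModelsGraphs.InterBasic
import Groth.Agent.FlatMor2.AdaptedOpens
import Groth.Agent.Ega4Algebra1.RegularLocal

/-!
The closed point of a section of a regular model (slim copy of helper33's lemmas, to keep the import
closure small).
-/

set_option autoImplicit false
set_option backward.isDefEq.respectTransparency.types false

universe u

open CategoryTheory CategoryTheory.Limits AlgebraicGeometry TopologicalSpace

namespace Groth.ArSurfBasics.RPoint

open Groth.ModelsGraphs.Inter

/-- Global functions pulled back along a change of base. -/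
lemma toGlobal_comp_specMap {A B : Type u} [CommRing A] [CommRing B] {Y : Scheme.{u}}
    (h : Y ⟶ Spec (CommRingCat.of B)) (φ : A →+* B) (a : A) :
    Coh.toGlobal (h ≫ Spec.map (CommRingCat.ofHom φ)) a = Coh.toGlobal h (φ a) := by
  change (h ≫ Spec.map (CommRingCat.ofHom φ)).appTop ((Scheme.ΓSpecIso (CommRingCat.of A)).inv a) =
    h.appTop ((Scheme.ΓSpecIso (CommRingCat.of B)).inv (φ a))
  rw [Scheme.Hom.comp_appTop, CommRingCat.comp_apply]
  exact congrArg h.appTop
    (ConcreteCategory.congr_hom (Scheme.ΓSpecIso_inv_naturality (CommRingCat.ofHom φ)) a).symm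

variable {R : Type u} [CommRing R] [IsDomain R] [IsDiscreteValuationRing R]
  {X : Over (Spec (CommRingCat.of R))}

local notation "kR" => IsLocalRing.ResidueField R

omit [IsDiscreteValuationRing R] [IsDomain R] in
/-- Evaluating at the closed point of a section inverts the structure map. -/
lemma stalkClosedPointTo_stalkHom [IsLocalRing R] (σ : Spec (CommRingCat.of R) ⟶ X.left)
    (hσ : σ ≫ X.hom = 𝟙 _) (r : R) :
    (Scheme.stalkClosedPointTo σ)
        ((X.left.presheaf.germ ⊤ (σ (IsLocalRing.closedPoint R)) trivial) (Coh.toGlobal X.hom r)) = r := by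
  have e1 : X.left.presheaf.germ ⊤ (σ (IsLocalRing.closedPoint R)) trivial ≫
      Scheme.stalkClosedPointTo σ = σ.appTop ≫ (Scheme.ΓSpecIso (CommRingCat.of R)).hom := by
    refine (Scheme.germ_stalkClosedPointTo σ ⊤ trivial).trans ?_
    simp [Scheme.Hom.appTop]
    all_goals congr 1
  refine (congr(($e1) (Coh.toGlobal X.hom r))).trans ?_
  have e2 : X.hom.appTop ≫ σ.appTop = 𝟙 _ := by
    rw [← Scheme.Hom.comp_appTop, hσ]
    rfl
  rw [CommRingCat.comp_apply]
  change (Scheme.ΓSpecIso (CommRingCat.of R)).hom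
    ((X.hom.appTop ≫ σ.appTop) ((Scheme.ΓSpecIso (CommRingCat.of R)).inv r)) = r
  rw [e2]
  exact congr($((Scheme.ΓSpecIso (CommRingCat.of R)).inv_hom_id) r)

/-- The closed point of a section is rational over the residue field. -/
theorem residue_surjective (σ : Spec (CommRingCat.of R) ⟶ X.left) (hσ : σ ≫ X.hom = 𝟙 _) :
    Function.Surjective ((X.left.residue (σ (IsLocalRing.closedPoint R))).hom.comp
      (Models.stalkHom R X (σ (IsLocalRing.closedPoint R)))) := by
  intro z
  obtain ⟨u, rfl⟩ := IsLocalRing.residue_surjective z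
  refine ⟨Scheme.stalkClosedPointTo σ u, ?_⟩
  change IsLocalRing.residue _ _ = IsLocalRing.residue _ u
  rw [← sub_eq_zero, ← map_sub, IsLocalRing.residue_eq_zero_iff, IsLocalRing.mem_maximalIdeal,
    mem_nonunits_iff]
  intro hu
  refine not_isUnit_zero (M₀ := R) ?_
  have h := hu.map (Scheme.stalkClosedPointTo σ).hom
  rw [map_sub, show (Scheme.stalkClosedPointTo σ).hom (Models.stalkHom R X _
    (Scheme.stalkClosedPointTo σ u)) = Scheme.stalkClosedPointTo σ u from
    stalkClosedPointTo_stalkHom σ hσ _] at h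
  simpa using h

/-- A component through a point with regular fibre ring has multiplicity one. -/
theorem mult_eq_one [Flat X.hom] [IsLocallyNoetherian X.left] (hreg : Models.IsRegularScheme X.left)
    {Γ : ArSurf.VertComp R X} (hmem : Set.range Γ.ι.base ∈ Models.fibreComponents R X) {x : X.left}
    (hx : Models.genPtOf R X Γ ⤳ x)
    (hfib : IsRegularLocalRing (X.left.presheaf.stalk x ⧸
      Ideal.map (Models.stalkHom R X x) (IsLocalRing.maximalIdeal R))) :
    Models.mult R X Γ = 1 := by
  obtain ⟨π, hπ⟩ := IsDiscreteValuationRing.exists_irreducible R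
  set ξ := Models.genPtOf R X Γ
  let t := Models.stalkHom R X x π
  have hmap : ∀ y, Ideal.map (Models.stalkHom R X y) (IsLocalRing.maximalIdeal R) =
      Ideal.span {Models.stalkHom R X y π} := fun y => by
    rw [hπ.maximalIdeal_eq, Ideal.map_span, Set.image_singleton]
  rw [hmap] at hfib
  haveI : (Ideal.span {t}).IsPrime := by
    haveI := hfib
    haveI : IsDomain (X.left.presheaf.stalk x ⧸ Ideal.span {t}) :=
      Groth.Ega4Algebra1.isDomain_of_isRegularLocalRing _
    exact (Ideal.Quotient.isDomain_iff_prime _).1 inferInstance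
  obtain ⟨y, hyx, hu, -⟩ := Groth.RefRank.exists_generization_of_prime (Ideal.span {t})
  have hspec : ∀ {z : X.left} (h : z ⤳ x) (r : R),
      Groth.RefRank.rspec h (Models.stalkHom R X x r) = Models.stalkHom R X z r := fun h r =>
    Groth.RefRank.rspec_germ h (U := ⊤) trivial (Coh.toGlobal X.hom r)
  have hξu : ¬ IsUnit (Models.stalkHom R X ξ π) := (mem_specialFibreSet_iff hπ ξ).1 (genPtOf_mem hmem)
  have hyS : y ∈ Models.specialFibreSet R X := by
    rw [mem_specialFibreSet_iff hπ, ← hspec hyx, hu, not_not]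
    exact Ideal.mem_span_singleton_self t
  have hyξ : y = ξ := by
    refine eq_genPtOf hmem hyS ?_
    obtain ⟨_, ⟨U, hU, rfl⟩, hxU, -⟩ :=
      X.left.isBasis_affineOpens.exists_subset_of_mem_open (Set.mem_univ x) isOpen_univ
    have hyU : y ∈ U := hyx.mem_open U.2 hxU
    have hξU : ξ ∈ U := hx.mem_open U.2 hxU
    refine (Groth.DivisorLength.specializes_iff (W := ⟨U, hU⟩) hyU hξU).2 fun a ha => ?_
    by_contra hna
    have h1 : IsUnit (X.left.presheaf.germ U ξ hξU a) := (Scheme.mem_basicOpen _ a ξ hξU).1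
      ((Groth.FlatMor2.mem_basicOpen_iff_notMem_primeIdealOf hU ⟨ξ, hξU⟩ a).2 hna)
    have h2 : X.left.presheaf.germ U x hxU a ∈ Ideal.span {t} := by
      by_contra h
      have h3 := (hu _).2 h
      rw [Groth.RefRank.rspec_germ] at h3
      exact (Groth.FlatMor2.mem_basicOpen_iff_notMem_primeIdealOf hU ⟨y, hyU⟩ a).1
        ((Scheme.mem_basicOpen _ a y hyU).2 h3) ha
    obtain ⟨b, hb⟩ := Ideal.mem_span_singleton.1 h2
    have h4 := congrArg (Groth.RefRank.rspec hx) hb
    rw [Groth.RefRank.rspec_germ, map_mul, hspec hx] at h4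
    rw [h4, IsUnit.mul_iff] at h1
    exact hξu h1.1
  subst hyξ
  have hmax : IsLocalRing.maximalIdeal (X.left.presheaf.stalk ξ) =
      Ideal.span {Models.stalkHom R X ξ π} := by
    refine le_antisymm (fun v hv => ?_) ((Ideal.span_singleton_le_iff_mem _).2 hξu)
    obtain ⟨_, ⟨U, hU, rfl⟩, hxU, -⟩ :=
      X.left.isBasis_affineOpens.exists_subset_of_mem_open (Set.mem_univ x) isOpen_univ
    have hξU : ξ ∈ U := hx.mem_open U.2 hxU
    obtain ⟨r₁, c, hc, hcv⟩ := Groth.RefRank.exists_mul_germ_eq hU hξU v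
    have hr : X.left.presheaf.germ U x hxU r₁ ∈ Ideal.span {t} := by
      by_contra h
      have h3 := (hu _).2 h
      rw [Groth.RefRank.rspec_germ] at h3
      refine hv (isUnit_of_mul_isUnit_right (x := X.left.presheaf.germ U ξ hξU c) ?_)
      rw [hcv]
      exact h3
    obtain ⟨b, hb⟩ := Ideal.mem_span_singleton.1 hr
    have h4 := congrArg (Groth.RefRank.rspec hx) hb
    rw [Groth.RefRank.rspec_germ, map_mul, hspec hx] at h4
    rw [← Ideal.unit_mul_mem_iff_mem _ ((Scheme.mem_basicOpen _ c ξ hξU).1 hc), hcv, h4]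
    exact Ideal.mul_mem_right _ _ (Ideal.mem_span_singleton_self _)
  unfold Models.mult
  rw [hmap, ← hmax]
  haveI : IsSimpleModule (X.left.presheaf.stalk ξ)
      (X.left.presheaf.stalk ξ ⧸ IsLocalRing.maximalIdeal (X.left.presheaf.stalk ξ)) :=
    isSimpleModule_iff_quot_maximal.2 ⟨_, IsLocalRing.maximalIdeal.isMaximal _, ⟨LinearEquiv.refl _ _⟩⟩
  rw [Module.length_eq_one]
  rfl

end Groth.ArSurfBasics.RPoint
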