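import Groth.Agent.ArSurfBasics.RPointLite
import Groth.Agent.ArSurfBasics.Fibre

/-!
The closed point of a section of a regular model: regular fibre ring, a unique component through it.
-/

set_option autoImplicit false
set_option backward.isDefEq.respectTransparency.types false

universe u

open CategoryTheory CategoryTheory.Limits AlgebraicGeometry TopologicalSpace

namespace Groth.ArSurfBasics

open Groth.ModelsGraphs.Inter

variable {R : Type u} [CommRing R] [IsDomain R] [IsDiscreteValuationRing R]
  {X : Over (Spec (CommRingCat.of R))}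

/-- The fibre ring at the closed point of a section of a regular scheme is regular. -/
theorem isRegularLocalRing_fibre_of_section (σ : Spec (CommRingCat.of R) ⟶ X.left)
    (hσ : σ ≫ X.hom = 𝟙 _)
    [IsRegularLocalRing (X.left.presheaf.stalk (σ (IsLocalRing.closedPoint R)))] :
    IsRegularLocalRing (X.left.presheaf.stalk (σ (IsLocalRing.closedPoint R)) ⧸
      Ideal.map (Models.stalkHom R X (σ (IsLocalRing.closedPoint R))) (IsLocalRing.maximalIdeal R)) := by
  set p := σ (IsLocalRing.closedPoint R)
  obtain ⟨π, hπ⟩ := IsDiscreteValuationRing.exists_irreducible R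
  let ψ := (Scheme.stalkClosedPointTo σ).hom
  have hψ : ψ (Models.stalkHom R X p π) = π :=
    Groth.ArSurfBasics.RPoint.stalkClosedPointTo_stalkHom σ hσ π
  haveI : IsLocalHom ψ := Scheme.isLocalHom_stalkClosedPointTo σ
  have hm : Models.stalkHom R X p π ∈ IsLocalRing.maximalIdeal (X.left.presheaf.stalk p) := by
    rw [IsLocalRing.mem_maximalIdeal, mem_nonunits_iff]
    exact fun h => hπ.not_isUnit (hψ ▸ h.map ψ)
  have hm2 : Models.stalkHom R X p π ∉ IsLocalRing.maximalIdeal (X.left.presheaf.stalk p) ^ 2 := by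
    intro h
    have h1 := Ideal.mem_map_of_mem ψ h
    rw [hψ, Ideal.map_pow] at h1
    have h2 : π ∈ IsLocalRing.maximalIdeal R ^ 2 :=
      Ideal.pow_right_mono ((Ideal.map_le_iff_le_comap.2 fun a ha => Ideal.mem_comap.2 (map_nonunit ψ a ha) :
        Ideal.map ψ (IsLocalRing.maximalIdeal _) ≤ IsLocalRing.maximalIdeal R)) 2 h1
    rw [hπ.maximalIdeal_eq, Ideal.span_singleton_pow, Ideal.mem_span_singleton, pow_two] at h2
    obtain ⟨c, hc⟩ := h2
    have h3 : π * 1 = π * (π * c) := by rw [mul_one, ← mul_assoc]; exact hc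
    exact hπ.not_isUnit (IsUnit.of_mul_eq_one c (mul_left_cancel₀ hπ.ne_zero h3).symm)
  rw [hπ.maximalIdeal_eq, Ideal.map_span, Set.image_singleton]
  exact (Groth.Ega4Algebra1.isRegularLocalRing_quotient_span_singleton hm hm2).1

/-- If the fibre ring at `x` is regular then all points of the closed fibre generalising `x` are
specializations of one of them. -/
theorem exists_top_generization {x : X.left} (hxS : x ∈ Models.specialFibreSet R X)
    (hfib : IsRegularLocalRing (X.left.presheaf.stalk x ⧸
      Ideal.map (Models.stalkHom R X x) (IsLocalRing.maximalIdeal R))) :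
    ∃ y ∈ Models.specialFibreSet R X, y ⤳ x ∧
      ∀ z ∈ Models.specialFibreSet R X, z ⤳ x → y ⤳ z := by
  obtain ⟨π, hπ⟩ := IsDiscreteValuationRing.exists_irreducible R
  let t := Models.stalkHom R X x π
  rw [hπ.maximalIdeal_eq, Ideal.map_span, Set.image_singleton] at hfib
  haveI : (Ideal.span {t}).IsPrime := by
    haveI := hfib
    haveI : IsDomain (X.left.presheaf.stalk x ⧸ Ideal.span {t}) :=
      Groth.Ega4Algebra1.isDomain_of_isRegularLocalRing _
    exact (Ideal.Quotient.isDomain_iff_prime _).1 inferInstance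
  obtain ⟨y, hyx, hu, -⟩ := Groth.RefRank.exists_generization_of_prime (Ideal.span {t})
  have hspec : ∀ {z : X.left} (h : z ⤳ x) (r : R),
      Groth.RefRank.rspec h (Models.stalkHom R X x r) = Models.stalkHom R X z r := fun h r =>
    Groth.RefRank.rspec_germ h (U := ⊤) trivial (Coh.toGlobal X.hom r)
  refine ⟨y, ?_, hyx, fun z hz hzx => ?_⟩
  · rw [mem_specialFibreSet_iff hπ, ← hspec hyx, hu, not_not]
    exact Ideal.mem_span_singleton_self t
  obtain ⟨_, ⟨U, hU, rfl⟩, hxU, -⟩ :=
    X.left.isBasis_affineOpens.exists_subset_of_mem_open (Set.mem_univ x) isOpen_univ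
  have hyU : y ∈ U := hyx.mem_open U.2 hxU
  have hzU : z ∈ U := hzx.mem_open U.2 hxU
  refine (Groth.DivisorLength.specializes_iff (W := ⟨U, hU⟩) hyU hzU).2 fun a ha => ?_
  by_contra hna
  have h1 : IsUnit (X.left.presheaf.germ U z hzU a) := (Scheme.mem_basicOpen _ a z hzU).1
    ((Groth.FlatMor2.mem_basicOpen_iff_notMem_primeIdealOf hU ⟨z, hzU⟩ a).2 hna)
  have h2 : X.left.presheaf.germ U x hxU a ∈ Ideal.span {t} := by
    by_contra h
    have h3 := (hu _).2 h
    rw [Groth.RefRank.rspec_germ] at h3
    exact (Groth.FlatMor2.mem_basicOpen_iff_notMem_primeIdealOf hU ⟨y, hyU⟩ a).1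
      ((Scheme.mem_basicOpen _ a y hyU).2 h3) ha
  obtain ⟨b, hb⟩ := Ideal.mem_span_singleton.1 h2
  have h4 := congrArg (Groth.RefRank.rspec hzx) hb
  rw [Groth.RefRank.rspec_germ, map_mul, hspec hzx] at h4
  rw [h4, IsUnit.mul_iff] at h1
  exact (mem_specialFibreSet_iff hπ z).1 hz h1.1

end Groth.ArSurfBasics
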