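import Groth.Agent.ArSurfBasics.Fibre
import Groth.Agent.VarietyBC.SmoothChart
import Groth.Agent.Ega4Algebra1.RegularLocal
import Groth.Agent.RefRank.Gen
import Mathlib.AlgebraicGeometry.Morphisms.Smooth

/-!
Points of a fibre of a smooth morphism have a least generization in the fibre.
-/

set_option autoImplicit false
set_option backward.isDefEq.respectTransparency.types false

universe u

open CategoryTheory CategoryTheory.Limits AlgebraicGeometry TopologicalSpace

namespace Groth.ArSurfBasics

theorem exists_least_generization_smooth {X S : Scheme.{u}} (f : X ⟶ S) [Smooth f] (x : X) :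
    ∃ t, f t = f x ∧ t ⤳ x ∧ ∀ v, f v = f x → v ⤳ x → t ⤳ v := by
  let k := S.residueField (f x)
  let F := f.fiber (f x)
  letI : F.Over (Spec (CommRingCat.of k)) := ⟨f.fiberToSpecResidueField (f x)⟩
  haveI : Smooth (F ↘ Spec (CommRingCat.of k)) :=
    inferInstanceAs (Smooth (pullback.snd f (S.fromSpecResidueField (f x))))
  haveI : IsDomain (F.presheaf.stalk (f.asFiber x)) := by
    haveI := Groth.VarietyBC.isRegularLocalRing_of_mem_smoothLocus (k := k) (X := F) (x := f.asFiber x)
      (by rw [Scheme.Hom.smoothLocus_eq_top]; trivial)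
    exact Groth.Ega4Algebra1.isDomain_of_isRegularLocalRing _
  let e := f.asFiber x
  let g := F.fromSpecStalk e
  let η : Spec (F.presheaf.stalk e) := (⟨⊥, Ideal.isPrime_bot⟩ : PrimeSpectrum (F.presheaf.stalk e))
  have hgen : g η ⤳ e := by
    have : g η ∈ Set.range g := ⟨η, rfl⟩
    rw [Scheme.range_fromSpecStalk] at this
    exact this
  have hmem : ∀ c : F, f (f.fiberι _ c) = f x := fun c => by
    have : f.fiberι _ c ∈ Set.range (f.fiberι (f x)) := ⟨c, rfl⟩
    rw [Scheme.Hom.range_fiberι] at this
    exact this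
  refine ⟨f.fiberι _ (g η), hmem _, ?_, fun v hv hvx => ?_⟩
  · have := hgen.map (f.fiberι (f x)).continuous
    rwa [Scheme.Hom.fiberι_asFiber] at this
  · obtain ⟨c, rfl⟩ : v ∈ Set.range (f.fiberι (f x)) := by rw [Scheme.Hom.range_fiberι]; exact hv
    have hce : c ⤳ e := by
      refine ((f.fiberι (f x)).isEmbedding.isInducing.specializes_iff).1 ?_
      rw [Scheme.Hom.fiberι_asFiber]
      exact hvx
    obtain ⟨p, rfl⟩ : c ∈ Set.range g := by rw [Scheme.range_fromSpecStalk]; exact hce
    exact (((PrimeSpectrum.le_iff_specializes η p).1 bot_le).map g.continuous).map (f.fiberι _).continuous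

end Groth.ArSurfBasics
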