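import Groth.Agent.ArSurfBasics.SmoothFibre
import Groth.Agent.ArSurfBasics.ZMTPoint
import Groth.Agent.ArSurfBasics.Chains
import Groth.Agent.Limits.NormalBirational
import Groth.Agent.Misc15.P1Stalk
import Groth.Agent.HensPair.SteinNormalPoint
import Groth.Agent.Ega4Algebra1.RegularNormal

/-!
A smooth surface over a Dedekind domain admits no contraction.
-/

set_option autoImplicit false
set_option backward.isDefEq.respectTransparency.types false

universe u

open CategoryTheory CategoryTheory.Limits AlgebraicGeometry TopologicalSpace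

namespace Groth.ArSurfBasics

variable {R : Type u} [CommRing R] [IsDedekindDomain R]


/-- The generic point of `Spec R`. -/
abbrev bpt (R : Type u) [CommRing R] [IsDedekindDomain R] : ↥(Spec (CommRingCat.of R)) :=
  (⟨⊥, Ideal.isPrime_bot⟩ : PrimeSpectrum R)

theorem specializes_bpt (s : ↥(Spec (CommRingCat.of R))) : bpt R ⤳ s := (PrimeSpectrum.le_iff_specializes _ _).1 bot_le

theorem eq_of_specializes_of_ne {s t : ↥(Spec (CommRingCat.of R))} (h : s ⤳ t) (hs : s ≠ bpt R) : s = t := by
  have hm : s.asIdeal.IsMaximal := s.isPrime.isMaximal fun e => hs (PrimeSpectrum.ext e)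
  exact PrimeSpectrum.ext (hm.eq_of_le t.isPrime.ne_top ((PrimeSpectrum.le_iff_specializes _ _).2 h))

theorem range_genPt : Set.range (Neron.genPt R) = {bpt R} := by
  ext s
  constructor
  · rintro ⟨c, rfl⟩
    refine PrimeSpectrum.ext ?_
    have hc : c.asIdeal = ⊥ := Ideal.eq_bot_of_prime c.asIdeal
    change Ideal.comap (algebraMap R (FractionRing R)) c.asIdeal = ⊥
    rw [hc]
    exact (RingHom.ker_eq_comap_bot _).symm.trans
      ((RingHom.injective_iff_ker_eq_bot _).1 (IsFractionRing.injective R (FractionRing R)))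
  · rintro rfl
    refine ⟨(⟨⊥, Ideal.isPrime_bot⟩ : PrimeSpectrum (FractionRing R)), PrimeSpectrum.ext ?_⟩
    exact (RingHom.ker_eq_comap_bot _).symm.trans
      ((RingHom.injective_iff_ker_eq_bot _).1 (IsFractionRing.injective R (FractionRing R)))

theorem range_generic (Z : Over (Spec (CommRingCat.of R))) :
    Set.range (pullback.fst Z.hom (Neron.genPt R)) = Z.hom ⁻¹' {bpt R} := by
  rw [Scheme.Pullback.range_fst, range_genPt]

variable {X Y : Over (Spec (CommRingCat.of R))} (g : X ⟶ Y) [hgK : IsIso ((Neron.genericFibre R).map g)]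

omit hgK in
theorem map_comp_fst : ((Neron.genericFibre R).map g).left ≫ pullback.fst Y.hom (Neron.genPt R) =
    pullback.fst X.hom (Neron.genPt R) ≫ g.left :=
  pullback.lift_fst _ _ _

instance isIso_left : IsIso ((Neron.genericFibre R).map g).left :=
  inferInstanceAs (IsIso ((Over.forget _).map ((Neron.genericFibre R).map g)))

omit hgK in
theorem fst_map (c : ↥((Neron.genericFibre R).obj X).left) :
    pullback.fst Y.hom (Neron.genPt R) (((Neron.genericFibre R).map g).left c) =
      g.left (pullback.fst X.hom (Neron.genPt R) c) := by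
  rw [← Scheme.Hom.comp_apply, ← Scheme.Hom.comp_apply]
  exact congrArg (fun φ : ((Neron.genericFibre R).obj X).left ⟶ Y.left => φ c) (map_comp_fst g)

theorem mem_image_of_generic (v : ↥Y.left) (hv : Y.hom v = bpt R) : v ∈ Set.range g.left := by
  obtain ⟨c, rfl⟩ : v ∈ Set.range (pullback.fst Y.hom (Neron.genPt R)) := by
    rw [range_generic]; exact hv
  obtain ⟨d, rfl⟩ := ((Neron.genericFibre R).map g).left.homeomorph.surjective c
  exact ⟨_, (fst_map g d).symm⟩

theorem injective_generic {a b : ↥X.left} (ha : X.hom a = bpt R) (hb : X.hom b = bpt R)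
    (h : g.left a = g.left b) : a = b := by
  obtain ⟨a', rfl⟩ : a ∈ Set.range (pullback.fst X.hom (Neron.genPt R)) := by
    rw [range_generic]; exact ha
  obtain ⟨b', rfl⟩ : b ∈ Set.range (pullback.fst X.hom (Neron.genPt R)) := by
    rw [range_generic]; exact hb
  haveI : IsPreimmersion (Neron.genPt R) := IsPreimmersion.of_isLocalization (nonZeroDivisors R)
  rw [← fst_map g, ← fst_map g] at h
  exact congrArg _ (((Neron.genericFibre R).map g).left.homeomorph.injective
    ((pullback.fst Y.hom (Neron.genPt R)).isEmbedding.injective h))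

theorem isIso_stalkMap_generic [IsIntegral X.left] [Flat X.hom] :
    IsIso (g.left.stalkMap (genericPoint X.left)) := by
  haveI : IsPreimmersion (Neron.genPt R) := IsPreimmersion.of_isLocalization (nonZeroDivisors R)
  haveI : Flat (Neron.genPt R) := (HasRingHomProperty.Spec_iff (P := @Flat)).2
    (RingHom.flat_algebraMap_iff.2 (IsLocalization.flat _ (nonZeroDivisors R)))
  have hη : X.hom (genericPoint X.left) = bpt R := by
    obtain ⟨y, hy, hyb⟩ := Flat.generalizingMap X.hom (specializes_bpt (X.hom (genericPoint X.left)))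
    obtain rfl : y = genericPoint X.left := (hy.antisymm (genericPoint_specializes y)).eq
    exact hyb
  obtain ⟨c, hc⟩ : genericPoint X.left ∈ Set.range (pullback.fst X.hom (Neron.genPt R)) := by
    rw [range_generic]; exact hη
  let γ := ((Neron.genericFibre R).map g).left
  let a := pullback.fst X.hom (Neron.genPt R)
  let b := pullback.fst Y.hom (Neron.genPt R)
  have e : γ ≫ b = a ≫ g.left := map_comp_fst g
  haveI : IsIso (b.stalkMap (γ c)) :=
    (ConcreteCategory.isIso_iff_bijective _).2 (Groth.Misc15.P1Stalk.stalkMap_bijective b _)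
  haveI : IsIso (γ.stalkMap c) := inferInstance
  haveI : IsIso ((γ ≫ b).stalkMap c) := by
    rw [Scheme.Hom.stalkMap_comp]
    exact IsIso.comp_isIso' ‹_› ‹_›
  haveI : IsIso ((a ≫ g.left).stalkMap c) := by
    have key : ∀ f, f = γ ≫ b → IsIso (f.stalkMap c) := by intro f hf; subst hf; infer_instance
    exact key _ e.symm
  haveI : IsIso (a.stalkMap c) :=
    (ConcreteCategory.isIso_iff_bijective _).2 (Groth.Misc15.P1Stalk.stalkMap_bijective a _)
  haveI hcomp : IsIso (g.left.stalkMap (a c) ≫ a.stalkMap c) := by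
    have h : IsIso ((a ≫ g.left).stalkMap c) := inferInstance
    rwa [Scheme.Hom.stalkMap_comp] at h
  haveI : IsIso (g.left.stalkMap (a c)) := IsIso.of_isIso_comp_right _ (a.stalkMap c)
  have key : ∀ z, z = a c → IsIso (g.left.stalkMap z) := by intro z hz; subst hz; infer_instance
  exact key _ hc.symm

/-- A morphism from a smooth integral proper surface to a regular proper flat scheme which is an
isomorphism on generic fibres is an isomorphism. -/
theorem isIso_of_smooth [IsIntegral X.left] (hdim : topologicalKrullDim X.left = 2) [Smooth X.hom]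
    [IsProper X.hom] [Flat Y.hom] [IsProper Y.hom]
    (hY : ∀ y : Y.left, IsRegularLocalRing (Y.left.presheaf.stalk y)) : IsIso g := by
  haveI : IsProper (g.left ≫ Y.hom) := by rw [Over.w g]; infer_instance
  haveI : IsProper g.left := IsProper.of_comp g.left Y.hom
  haveI := isNoetherian_of_isProper (X := X)
  haveI := isNoetherian_of_isProper (X := Y)
  have hw : ∀ a, X.hom a = Y.hom (g.left a) := fun a => by
    rw [← Scheme.Hom.comp_apply, Over.w g]
  have hgenY : ∀ v, g.left (genericPoint X.left) ⤳ v := fun v => by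
    obtain ⟨v', hv', hvb⟩ := Flat.generalizingMap Y.hom (specializes_bpt (Y.hom v))
    obtain ⟨a, rfl⟩ := mem_image_of_generic g v' hvb
    exact ((genericPoint_specializes a).map g.left.continuous).trans hv'
  haveI : IrreducibleSpace Y.left := by
    rw [irreducibleSpace_def]
    have : (Set.univ : Set Y.left) = closure {g.left (genericPoint X.left)} :=
      (Set.eq_univ_of_forall fun v => (hgenY v).mem_closure).symm
    show IsIrreducible (Set.univ : Set Y.left)
    rw [this]
    exact isIrreducible_singleton.closure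
  haveI : ∀ y, IsDomain (Y.left.presheaf.stalk y) := fun y => by
    haveI := hY y
    exact Groth.Ega4Algebra1.isDomain_of_isRegularLocalRing _
  haveI : ∀ y, _root_.IsReduced (Y.left.presheaf.stalk y) := fun y => inferInstance
  haveI : IsReduced Y.left := isReduced_of_isReduced_stalk _
  haveI : IsIntegral Y.left := isIntegral_of_irreducibleSpace_of_isReduced _
  have hN : ∀ y, IsIntegrallyClosed (Y.left.presheaf.stalk y) := fun y => by
    haveI := hY y
    exact Groth.Ega4Algebra1.isIntegrallyClosed_of_isRegularLocalRing _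
  have hgen : g.left (genericPoint X.left) = genericPoint Y.left :=
    ((hgenY _).antisymm (genericPoint_specializes _)).eq
  have hbir := isIso_stalkMap_generic g
  have hsurj : Function.Surjective g.left := fun v => by
    have h := g.left.isClosedMap.isClosed_range.closure_subset_iff.2
      (Set.singleton_subset_iff.2 ⟨_, rfl⟩) (hgenY v).mem_closure
    exact h
  -- isolated points of fibres give local isomorphisms
  have hiso : ∀ x, g.left.QuasiFiniteAt x → ∃ V : Y.left.Opens, g.left x ∈ V ∧ IsIso (g.left ∣_ V) :=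
    fun x hx => Groth.Limits.exists_isIso_of_isolated_normal g.left hgen hbir _
      (hN _) (g.left.asFiber x) hx.isClopen_singleton_asFiber.isOpen
  suffices IsIso g.left by
    haveI : IsIso ((Over.forget (Spec (CommRingCat.of R))).map g) := this
    exact isIso_of_reflects_iso g (Over.forget (Spec (CommRingCat.of R)))
  refine isIso_of_forall_nhd g.left fun y => ?_
  obtain ⟨x₀, rfl⟩ := hsurj y
  by_cases hex : ∃ x, g.left x = g.left x₀ ∧ ∀ z, g.left z = g.left x → z ⤳ x ∨ x ⤳ z → z = x
  · obtain ⟨x, hx, hiso'⟩ := hex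
    obtain ⟨V, hV, hVi⟩ := hiso x (quasiFiniteAt_of_isolated g.left x hiso')
    exact ⟨V, hx ▸ hV, hVi⟩
  push Not at hex
  set y := g.left x₀ with hy₀
  -- the fibre lies over a closed point of the base
  have hs : Y.hom y ≠ bpt R := fun hb => by
    obtain ⟨z, hz, -, hne⟩ := hex x₀ rfl
    exact hne (injective_generic g (by rw [hw, hz]; exact hb) (by rw [hw]; exact hb) hz)
  set s := Y.hom y with hs'
  have hfib : ∀ a, g.left a = y → X.hom a = s := fun a ha => by rw [hw, ha]
  -- strict generizations of points over `s`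
  have h3 : ∀ a b c : X.left, X.hom a = s → a ⤳ b → a ≠ b → b ⤳ c → b ≠ c → False := by
    intro a b c ha hab nab hbc nbc
    obtain ⟨d, hd, hdb⟩ := Flat.generalizingMap X.hom (specializes_bpt (X.hom a))
    have hda : d ≠ a := fun e => hs (by rw [← ha, ← e]; exact hdb)
    have := three_le_topologicalKrullDim hd hda hab nab hbc nbc
    rw [hdim] at this
    exact absurd this (by decide)
  have hup : ∀ a b : X.left, X.hom b = s → a ⤳ b → X.hom a = s ∨ X.hom a = bpt R := fun a b hb hab => by
    refine or_iff_not_imp_right.2 fun hne => ?_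
    exact (eq_of_specializes_of_ne (hab.map X.hom.continuous) hne).trans hb
  -- `y` is closed
  have hyc : ∀ v, y ⤳ v → v = y := fun v hv => by
    by_contra hne
    obtain ⟨z, hz, hrel, hzne⟩ := hex x₀ rfl
    obtain ⟨a, b, ha, hb, hab, nab⟩ : ∃ a b, g.left a = y ∧ g.left b = y ∧ a ⤳ b ∧ a ≠ b :=
      hrel.elim (fun h => ⟨z, x₀, hz, rfl, h, hzne⟩) (fun h => ⟨x₀, z, rfl, hz, h, hzne.symm⟩)
    have hcl := g.left.isClosedMap _ (isClosed_closure (s := {b}))
    obtain ⟨w, hw', hwv⟩ : v ∈ g.left '' closure {b} :=
      hcl.closure_subset_iff.2 (Set.singleton_subset_iff.2 ⟨b, subset_closure rfl, hb⟩) hv.mem_closure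
    exact h3 a b w (hfib a ha) hab nab (specializes_iff_mem_closure.2 hw')
      (fun e => hne (by rw [← hwv, ← e, hb]))
  -- the fibre is stable under generization inside the fibre over `s`
  have hstab : ∀ x v, g.left x = y → v ⤳ x → X.hom v = s → g.left v = y := by
    intro x v hx hvx hv
    obtain ⟨t, ht, htx, hleast⟩ := exists_least_generization_smooth X.hom x
    have htv : t ⤳ v := hleast v (by rw [hv, hfib x hx]) hvx
    suffices htF : g.left t = y by
      exact hyc _ (htF ▸ htv.map g.left.continuous)
    obtain ⟨z, hz, hrel, hzne⟩ := hex x hx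
    rw [hx] at hz
    rcases hrel with h | h
    · -- `z` is a strict generization of `x`
      by_cases htz : t = z
      · rw [htz, hz]
      · exact (h3 t z x (ht.trans (hfib x hx)) (hleast z (by rw [hfib z hz, hfib x hx]) h) htz h hzne).elim
    · by_cases htx' : t = x
      · rw [htx', hx]
      · exact (h3 t x z (ht.trans (hfib x hx)) htx htx' h hzne.symm).elim
  -- the rest of the fibre over `s` has closed image avoiding `y`
  let Fs := X.hom ⁻¹' {s}
  have hFs : IsClosed Fs := by
    refine IsClosed.preimage X.hom.continuous ?_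
    exact (PrimeSpectrum.isClosed_singleton_iff_isMaximal _).2
      (s.isPrime.isMaximal fun e => hs (PrimeSpectrum.ext e))
  obtain ⟨hfin, hmax⟩ := maximal_irreducible_subsets hFs
  let G : Set X.left := Fs ∩ (g.left ⁻¹' {y})ᶜ
  have hG : IsClosed G := by
    let T := {Z | Maximal (fun T : Set X.left => IsIrreducible T ∧ T ⊆ Fs) Z ∧ Disjoint Z (g.left ⁻¹' {y})}
    have hT : ∀ Z ∈ T, IsClosed Z := fun Z hZ => isClosed_of_closure_subset
      (hZ.1.2 ⟨hZ.1.1.1.closure, closure_minimal hZ.1.1.2 hFs⟩ subset_closure)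
    suffices hGT : G = ⋃₀ T by
      rw [hGT, Set.sUnion_eq_biUnion]
      exact (hfin.subset fun Z hZ => hZ.1).isClosed_biUnion hT
    ext a
    constructor
    · rintro ⟨ha, hay⟩
      obtain ⟨Z, haZ, hZ⟩ := hmax {a} isIrreducible_singleton (Set.singleton_subset_iff.2 ha)
      refine ⟨Z, ⟨hZ, Set.disjoint_left.2 fun b hbZ hby => hay ?_⟩, haZ rfl⟩
      have hg := hZ.1.1.isGenericPoint_genericPoint_closure
      have hgs : X.hom hZ.1.1.genericPoint = s := closure_minimal hZ.1.2 hFs hg.mem
      have h1 := hstab b _ hby (hg.specializes (subset_closure hbZ)) hgs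
      exact hyc _ (h1 ▸ (hg.specializes (subset_closure (haZ rfl))).map g.left.continuous)
    · rintro ⟨Z, hZ, ha⟩
      exact ⟨hZ.1.1.2 ha, Set.disjoint_left.1 hZ.2 ha⟩
  have hgG := g.left.isClosedMap _ hG
  have hspec : ∀ v, v ⤳ y → v ≠ y → Y.hom v = bpt R := fun v hv hne => by
    by_contra hb
    have hvs : Y.hom v = s := eq_of_specializes_of_ne (hv.map Y.hom.continuous) hb
    obtain ⟨w, rfl⟩ := hsurj v
    obtain ⟨w', hw'G, hw'y⟩ : y ∈ g.left '' G :=
      hgG.closure_subset_iff.2 (Set.singleton_subset_iff.2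
        ⟨w, ⟨(hw w).trans hvs, fun h => hne h⟩, rfl⟩) hv.mem_closure
    exact hw'G.2 hw'y
  -- so the local ring at `y` has dimension at most one
  obtain ⟨π, hπs, hπ⟩ := Submodule.exists_mem_ne_zero_of_ne_bot
    (show s.asIdeal ≠ ⊥ from fun e => hs (PrimeSpectrum.ext e))
  let a : Y.left.presheaf.stalk y := Y.left.presheaf.germ ⊤ y trivial (Coh.toGlobal Y.hom π)
  have hunit : ∀ v, IsUnit (Y.left.presheaf.germ ⊤ v trivial (Coh.toGlobal Y.hom π)) ↔
      π ∉ (Y.hom v).asIdeal := fun v => by
    rw [← Scheme.mem_basicOpen_top]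
    change v ∈ Y.left.basicOpen (Y.hom.appTop ((Scheme.ΓSpecIso (CommRingCat.of R)).inv π)) ↔ _
    rw [← Scheme.preimage_basicOpen_top, basicOpen_eq_of_affine']
    simp only [Iso.inv_hom_id_apply]
    exact PrimeSpectrum.mem_basicOpen π _
  have ha : a ∈ IsLocalRing.maximalIdeal (Y.left.presheaf.stalk y) := by
    rw [IsLocalRing.mem_maximalIdeal, mem_nonunits_iff, hunit, not_not]
    exact hπs
  have hmin : IsLocalRing.maximalIdeal (Y.left.presheaf.stalk y) ∈ (Ideal.span {a}).minimalPrimes := by
    refine ⟨⟨inferInstance, (Ideal.span_singleton_le_iff_mem _).2 ha⟩, fun q hq hqm => ?_⟩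
    haveI := hq.1
    obtain ⟨v, hvy, hu, -⟩ := Groth.RefRank.exists_generization_of_prime q
    by_cases hvy' : v = y
    · subst hvy'
      intro c hc
      by_contra hcq
      have h := (hu c).2 hcq
      rw [Groth.RefRank.rspec, TopCat.Presheaf.stalkSpecializes_refl] at h
      exact hc h
    · exfalso
      refine (hu a).not.2 (not_not.2 (hq.2 (Ideal.mem_span_singleton_self a))) ?_
      rw [Groth.RefRank.rspec_germ, hunit, hspec v hvy hvy']
      exact hπ
  have hdim1 : ringKrullDim (Y.left.presheaf.stalk y) < 2 := by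
    rw [← IsLocalRing.maximalIdeal_height_eq_ringKrullDim]
    refine lt_of_le_of_lt (WithBot.coe_le_coe.2
      (Ideal.height_le_one_of_isPrincipal_of_mem_minimalPrimes (Ideal.span {a}) _ hmin)) ?_
    decide
  haveI := hN y
  have hV := Groth.HensPair.valuationRing_of_krullDim_lt_two hdim1
  have hd : g.left (genericPoint X.left) ⤳ genericPoint Y.left := by rw [hgen]
  have hsurj' : Function.Surjective (CohIII.stalkToFunctionField g.left (genericPoint Y.left) hd) := by
    have h1 : Function.Surjective (g.left.stalkMap (genericPoint X.left)) :=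
      ((ConcreteCategory.isIso_iff_bijective _).1 hbir).2
    refine h1.comp ?_
    haveI : IsIso (Y.left.presheaf.stalkSpecializes hd) :=
      (TopCat.Presheaf.stalkCongr _ (Inseparable.of_eq hgen.symm)).isIso_hom
    exact ((ConcreteCategory.isIso_iff_bijective _).1 inferInstance).2
  obtain ⟨V, hV1, hV2⟩ := hiso x₀
    (Groth.HensPair.quasiFiniteAt_of_valuationRing g.left hd hsurj' x₀ hV)
  exact ⟨V, hV1, hV2⟩

end Groth.ArSurfBasics
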