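import Mathlib.Tactic
import Mathlib.RingTheory.Valuation.Discrete.Basic

/-!
Weak approximation for finitely many discrete valuations of an arbitrary field
(adapted from `Groth.Agent.FunFld1.Basic`, where valuations are trivial on a ground field).
-/

set_option autoImplicit false

namespace Groth.ArSurfBasics.Approx

open WithZero

/-- A surjective `ℤᵐ⁰`-valued valuation. -/
def DPlace (K : Type*) [Field K] := {v : Valuation K ℤᵐ⁰ // Function.Surjective v}

/-- Its order function. -/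
def DPlace.ord {K : Type*} [Field K] (P : DPlace K) (x : K) : ℤ := -WithZero.log (P.1 x)

variable {K : Type*} [Field K]

theorem exp_le_one {n : ℤ} : exp n ≤ (1 : ℤᵐ⁰) ↔ n ≤ 0 := exp_le_exp (b := (0 : ℤ))

theorem exp_lt_one {n : ℤ} : exp n < (1 : ℤᵐ⁰) ↔ n < 0 := exp_lt_exp (b := (0 : ℤ))

theorem one_lt_exp {n : ℤ} : (1 : ℤᵐ⁰) < exp n ↔ 0 < n := exp_lt_exp (a := (0 : ℤ))

theorem one_le_exp {n : ℤ} : (1 : ℤᵐ⁰) ≤ exp n ↔ 0 ≤ n := exp_le_exp (a := (0 : ℤ))

theorem exp_eq_one {n : ℤ} : exp n = (1 : ℤᵐ⁰) ↔ n = 0 := exp_injective.eq_iff (b := (0 : ℤ))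

theorem ne_zero_of_val_eq {P : DPlace K} {x : K} {n : ℤ} (h : P.1 x = exp n) : x ≠ 0 :=
  fun h0 => exp_ne_zero (h.symm.trans (by rw [h0, map_zero]))





theorem exists_val_eq_exp (P : DPlace K) (n : ℤ) : ∃ x : K, P.1 x = exp n := P.2 _

theorem exists_val_gt_one (P : DPlace K) : ∃ x : K, 1 < P.1 x := by
  obtain ⟨x, hx⟩ := exists_val_eq_exp P 1
  exact ⟨x, by rw [hx, one_lt_exp]; omega⟩

theorem val_eq_exp_neg_ord (P : DPlace K) {x : K} (hx : x ≠ 0) : P.1 x = exp (-P.ord x) := by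
  simp [DPlace.ord, exp_log, hx]

theorem ord_eq_of_val_eq (P : DPlace K) {x : K} {n : ℤ} (h : P.1 x = exp n) : P.ord x = -n := by
  simp [DPlace.ord, h]

@[simp] theorem ord_zero (P : DPlace K) : P.ord 0 = 0 := by simp [DPlace.ord]

@[simp] theorem ord_one (P : DPlace K) : P.ord 1 = 0 := by simp [DPlace.ord]

theorem ord_mul (P : DPlace K) {x y : K} (hx : x ≠ 0) (hy : y ≠ 0) :
    P.ord (x * y) = P.ord x + P.ord y := by
  simp only [DPlace.ord, map_mul]
  rw [log_mul (by simpa using hx) (by simpa using hy)]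
  ring

theorem ord_inv (P : DPlace K) (x : K) : P.ord x⁻¹ = -P.ord x := by
  simp [DPlace.ord, map_inv₀, log_inv]



theorem val_le_exp_iff (P : DPlace K) {x : K} (hx : x ≠ 0) (n : ℤ) :
    P.1 x ≤ exp n ↔ -P.ord x ≤ n := by
  rw [val_eq_exp_neg_ord P hx, exp_le_exp]

theorem val_le_one_iff (P : DPlace K) (x : K) : P.1 x ≤ 1 ↔ 0 ≤ P.ord x := by
  by_cases hx : x = 0
  · simp [hx]
  · rw [val_eq_exp_neg_ord P hx, exp_le_one]; omega

theorem one_lt_val_iff (P : DPlace K) (x : K) : 1 < P.1 x ↔ P.ord x < 0 := by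
  rw [← not_le, val_le_one_iff, not_le]

theorem val_lt_one_iff (P : DPlace K) {x : K} (hx : x ≠ 0) : P.1 x < 1 ↔ 0 < P.ord x := by
  rw [val_eq_exp_neg_ord P hx, exp_lt_one]; omega

theorem val_eq_one_iff (P : DPlace K) {x : K} (hx : x ≠ 0) : P.1 x = 1 ↔ P.ord x = 0 := by
  rw [val_eq_exp_neg_ord P hx, exp_eq_one]; omega

theorem ord_pos_iff (P : DPlace K) (x : K) : 0 < P.ord x ↔ x ≠ 0 ∧ P.1 x < 1 := by
  by_cases hx : x = 0
  · simp [hx]
  · simp [hx, val_lt_one_iff P hx]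

theorem lt_one_iff_le_exp_neg_one {a : ℤᵐ⁰} : a < 1 ↔ a ≤ exp (-1) := by
  by_cases ha : a = 0
  · simp [ha]
  · rw [← exp_log ha, ← exp_zero, exp_lt_exp, exp_le_exp]; omega

theorem one_lt_iff_exp_one_le {a : ℤᵐ⁰} : 1 < a ↔ exp 1 ≤ a := by
  by_cases ha : a = 0
  · simp [ha]
  · rw [← exp_log ha, ← exp_zero, exp_lt_exp, exp_le_exp]; omega

theorem pow_le_exp_neg {a : ℤᵐ⁰} (ha : a < 1) (N : ℕ) : a ^ N ≤ exp (-(N : ℤ)) :=
  (pow_le_pow_left₀ zero_le (lt_one_iff_le_exp_neg_one.mp ha) N).trans_eq (by simp [← exp_nsmul])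

theorem exp_le_pow {a : ℤᵐ⁰} (ha : 1 < a) (N : ℕ) : exp (N : ℤ) ≤ a ^ N :=
  (le_of_eq (by simp [← exp_nsmul])).trans (pow_le_pow_left₀ zero_le (one_lt_iff_exp_one_le.mp ha) N)

/-- A place is determined by (an inclusion of) its valuation ring. -/
theorem DPlace.eq_of_forall_le_one (P Q : DPlace K) (h : ∀ x, P.1 x ≤ 1 → Q.1 x ≤ 1) : P = Q := by
  have hlt : ∀ z, P.1 z < 1 → Q.1 z < 1 := by
    intro z hz
    refine lt_of_le_of_ne (h z hz.le) fun hQ => ?_
    obtain ⟨w, hw⟩ := exists_val_gt_one Q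
    have hw0 : w ≠ 0 := fun h0 => by simp [h0] at hw
    obtain ⟨N, hN⟩ : ∃ N : ℕ, P.1 (z ^ N * w) ≤ 1 := by
      refine ⟨(-P.ord w).toNat, ?_⟩
      rw [map_mul, map_pow, val_eq_exp_neg_ord P hw0]
      refine (mul_le_mul' (pow_le_exp_neg hz _) le_rfl).trans ?_
      rw [← exp_add, exp_le_one]; omega
    have := h _ hN
    rw [map_mul, map_pow, hQ, one_pow, one_mul] at this
    exact absurd this (not_le.mpr hw)
  have heq : ∀ z, P.1 z = 1 → Q.1 z = 1 := by
    intro z hz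
    refine le_antisymm (h z hz.le) ?_
    have h1 := h z⁻¹ (by simp [map_inv₀, hz])
    rw [map_inv₀] at h1
    refine (inv_le_one₀ (zero_lt_iff.mpr ?_)).mp h1
    simp only [Valuation.ne_zero_iff]
    rintro rfl; simp at hz
  obtain ⟨t, ht⟩ := exists_val_eq_exp P (-1)
  have ht0 : t ≠ 0 := ne_zero_of_val_eq ht
  set a := Q.ord t with ha
  have hpos : 0 < a := by
    rw [ha, ← val_lt_one_iff Q ht0]
    exact hlt t (by rw [ht, exp_lt_one]; omega)
  have key : ∀ z : K, z ≠ 0 → Q.ord z = a * P.ord z := by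
    intro z hz
    set n := P.ord z with hn
    have h1 : P.1 (z * t ^ (-n)) = 1 := by
      rw [map_mul, map_zpow₀, ht, val_eq_exp_neg_ord P hz, ← exp_zsmul, ← exp_add, ← hn]
      simp
    have h2 := heq _ h1
    rw [map_mul, map_zpow₀, val_eq_exp_neg_ord Q hz, val_eq_exp_neg_ord Q ht0, ← exp_zsmul,
      ← exp_add, exp_eq_one, ← ha, smul_eq_mul] at h2
    linarith
  obtain ⟨u, hu⟩ := exists_val_eq_exp Q (-1)
  have hu0 : u ≠ 0 := ne_zero_of_val_eq hu
  have ha1 : a = 1 := by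
    have := key u hu0
    rw [ord_eq_of_val_eq Q hu] at this
    exact Int.eq_one_of_mul_eq_one_right hpos.le (by linarith)
  refine Subtype.ext (Valuation.ext fun z => ?_)
  by_cases hz : z = 0
  · simp [hz]
  · rw [val_eq_exp_neg_ord P hz, val_eq_exp_neg_ord Q hz, key z hz, ha1, one_mul]



theorem exists_le_one_one_lt {P Q : DPlace K} (h : P ≠ Q) : ∃ x, P.1 x ≤ 1 ∧ 1 < Q.1 x := by
  by_contra hc
  push Not at hc
  exact h (DPlace.eq_of_forall_le_one P Q hc)

theorem exists_one_lt_lt_one {P Q : DPlace K} (h : P ≠ Q) : ∃ z, 1 < P.1 z ∧ Q.1 z < 1 := by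
  obtain ⟨a, haP, haQ⟩ := exists_le_one_one_lt h
  obtain ⟨b, hbQ, hbP⟩ := exists_le_one_one_lt h.symm
  have ha0 : a ≠ 0 := fun h0 => by simp [h0] at haQ
  refine ⟨b / a, ?_, ?_⟩
  · rw [map_div₀, one_lt_div₀ (zero_lt_iff.mpr (by simpa using ha0))]
    exact haP.trans_lt hbP
  · rw [map_div₀, div_lt_one₀ (zero_lt_iff.mpr (by simpa using ha0))]
    exact hbQ.trans_lt haQ

theorem val_one_add_of_lt_one (P : DPlace K) {z : K} (h : P.1 z < 1) : P.1 (1 + z) = 1 :=
  P.1.map_one_add_of_lt h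

theorem val_one_add_of_one_lt (P : DPlace K) {z : K} (h : 1 < P.1 z) : P.1 (1 + z) = P.1 z :=
  P.1.map_add_eq_of_lt_right (by simpa using h)

/-- Auxiliary idempotent-like element built from an element `z` with `|z|_P > 1`. -/
theorem val_approx_unit (z : K) (N : ℕ) (hN : N ≠ 0) (P : DPlace K) :
    (1 < P.1 z → P.1 (z ^ N / (1 + z ^ N)) = 1 ∧
        P.1 (z ^ N / (1 + z ^ N) - 1) ≤ exp (-(N : ℤ))) ∧
      (P.1 z < 1 → P.1 (z ^ N / (1 + z ^ N)) ≤ exp (-(N : ℤ))) := by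
  constructor
  · intro hz
    have hzN : 1 < P.1 (z ^ N) := by rw [map_pow]; exact one_lt_pow₀ hz hN
    have hz1 := val_one_add_of_one_lt P hzN
    have hne : (1 : K) + z ^ N ≠ 0 := fun h0 => by
      rw [h0, map_zero] at hz1; rw [← hz1] at hzN; exact not_lt_zero hzN
    refine ⟨by rw [map_div₀, hz1, div_self (ne_of_gt (lt_trans zero_lt_one hzN))], ?_⟩
    have : z ^ N / (1 + z ^ N) - 1 = -((1 + z ^ N)⁻¹) := by field_simp; ring
    rw [this, Valuation.map_neg, map_inv₀, hz1, map_pow, exp_neg]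
    exact inv_anti₀ exp_pos (exp_le_pow hz N)
  · intro hz
    have hzN : P.1 (z ^ N) < 1 := by rw [map_pow]; exact pow_lt_one₀ zero_le hz hN
    rw [map_div₀, val_one_add_of_lt_one P hzN, div_one, map_pow]
    exact pow_le_exp_neg hz N

open Classical in
theorem exists_separating (S : Finset (DPlace K)) (P : DPlace K) :
    ∃ z, 1 < P.1 z ∧ ∀ Q ∈ S, Q ≠ P → Q.1 z < 1 := by
  induction S using Finset.induction with
  | empty =>
    obtain ⟨z, hz⟩ := exists_val_gt_one P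
    exact ⟨z, hz, by simp⟩
  | insert R S hR ih =>
    obtain ⟨z, hz, hzS⟩ := ih
    by_cases hRP : R = P
    · subst hRP
      exact ⟨z, hz, fun Q hQ hne => hzS Q ((Finset.mem_insert.mp hQ).resolve_left hne) hne⟩
    obtain ⟨w, hw, hwR⟩ := exists_one_lt_lt_one (Ne.symm hRP)
    obtain ⟨N, hN0, hN⟩ : ∃ N : ℕ, N ≠ 0 ∧ ∀ Q ∈ S, exp (-(N : ℤ)) * Q.1 w < 1 := by
      refine ⟨(S.sup fun Q => (-Q.ord w).toNat) + 1, by omega, fun Q hQ => ?_⟩
      have hle : (-Q.ord w).toNat ≤ S.sup fun Q => (-Q.ord w).toNat :=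
        Finset.le_sup (f := fun Q : DPlace K => (-Q.ord w).toNat) hQ
      rw [val_eq_exp_neg_ord Q (fun h0 => by simp [h0] at hw), ← exp_add, exp_lt_one]
      omega
    rcases lt_trichotomy (R.1 z) 1 with h | h | h
    · exact ⟨z, hz, fun Q hQ hne => (Finset.mem_insert.mp hQ).elim (fun e => e ▸ h) (fun hQ => hzS Q hQ hne)⟩
    · refine ⟨z ^ N * w, ?_, fun Q hQ hne => ?_⟩
      · rw [map_mul, map_pow]; exact one_lt_mul_of_le_of_lt (one_le_pow₀ hz.le) hw
      · rcases Finset.mem_insert.mp hQ with rfl | hQ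
        · rw [map_mul, map_pow, h, one_pow, one_mul]; exact hwR
        · rw [map_mul, map_pow]
          exact (mul_le_mul' (pow_le_exp_neg (hzS Q hQ hne) N) le_rfl).trans_lt (hN Q hQ)
    · refine ⟨z ^ N / (1 + z ^ N) * w, ?_, fun Q hQ hne => ?_⟩
      · rw [map_mul, ((val_approx_unit z N hN0 P).1 hz).1, one_mul]; exact hw
      · rcases Finset.mem_insert.mp hQ with rfl | hQ
        · rw [map_mul, ((val_approx_unit z N hN0 Q).1 h).1, one_mul]; exact hwR
        · rw [map_mul]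
          exact (mul_le_mul' ((val_approx_unit z N hN0 Q).2 (hzS Q hQ hne)) le_rfl).trans_lt (hN Q hQ)

theorem exists_approx_idempotent (S : Finset (DPlace K)) (P : DPlace K) (N : ℕ) :
    ∃ e, P.1 (e - 1) ≤ exp (-(N : ℤ)) ∧ ∀ Q ∈ S, Q ≠ P → Q.1 e ≤ exp (-(N : ℤ)) := by
  obtain ⟨z, hz, hzS⟩ := exists_separating S P
  have hM : exp (-((N + 1 : ℕ) : ℤ)) ≤ exp (-(N : ℤ)) := by rw [exp_le_exp]; omega
  exact ⟨z ^ (N + 1) / (1 + z ^ (N + 1)),
    ((val_approx_unit z _ (by omega) P).1 hz).2.trans hM,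
    fun Q hQ hne => ((val_approx_unit z _ (by omega) Q).2 (hzS Q hQ hne)).trans hM⟩

/-- Weak approximation. -/
theorem exists_val_sub_le (S : Finset (DPlace K)) (x : DPlace K → K) (n : DPlace K → ℤ) :
    ∃ y, ∀ P ∈ S, P.1 (y - x P) ≤ exp (n P) := by
  classical
  set N : ℕ := S.sup fun Q => S.sup fun P => (-Q.ord (x P) - n Q).toNat with hN
  choose e he heS using fun P => exists_approx_idempotent S P N
  refine ⟨∑ P ∈ S, e P * x P, fun Q hQ => ?_⟩
  have hb : ∀ P ∈ S, exp (-(N : ℤ)) * Q.1 (x P) ≤ exp (n Q) := by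
    intro P hP
    by_cases h0 : x P = 0
    · simp [h0]
    · have h1 : (-Q.ord (x P) - n Q).toNat ≤ N :=
        le_trans (Finset.le_sup (f := fun P => (-Q.ord (x P) - n Q).toNat) hP)
          (Finset.le_sup (f := fun Q => S.sup fun P => (-Q.ord (x P) - n Q).toNat) hQ)
      rw [val_eq_exp_neg_ord Q h0, ← exp_add, exp_le_exp]; omega
  rw [show (∑ P ∈ S, e P * x P) - x Q
      = (e Q - 1) * x Q + ∑ P ∈ S.erase Q, e P * x P by
    rw [← Finset.add_sum_erase S _ hQ]; ring]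
  refine Valuation.map_add_le _ ?_ (Valuation.map_sum_le _ fun P hP => ?_)
  · rw [map_mul]; exact (mul_le_mul' (he Q) le_rfl).trans (hb Q hQ)
  · rw [map_mul]
    exact (mul_le_mul' (heS P Q hQ (Finset.ne_of_mem_erase hP).symm) le_rfl).trans
      (hb P (Finset.mem_of_mem_erase hP))

/-- Prescribed orders at finitely many places, near prescribed elements. -/
theorem exists_val_sub_eq (S : Finset (DPlace K)) (x : DPlace K → K) (n : DPlace K → ℤ) :
    ∃ y, ∀ P ∈ S, P.1 (y - x P) = exp (n P) := by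
  choose w hw using fun P : DPlace K => exists_val_eq_exp P (n P)
  obtain ⟨y, hy⟩ := exists_val_sub_le S (fun P => x P + w P) (fun P => n P - 1)
  refine ⟨y, fun P hP => ?_⟩
  have : y - x P = (y - (x P + w P)) + w P := by ring
  rw [this, P.1.map_add_eq_of_lt_right, hw]
  rw [hw]
  exact (hy P hP).trans_lt (by rw [exp_lt_exp]; omega)

theorem exists_val_eq (S : Finset (DPlace K)) (n : DPlace K → ℤ) :
    ∃ y, ∀ P ∈ S, P.1 y = exp (n P) := by
  simpa using exists_val_sub_eq S (fun _ => 0) n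

end Groth.ArSurfBasics.Approx
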